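import Mathlib.LinearAlgebra.Matrix.Determinant.Basic
import Mathlib.Data.ZMod.Basic
import Mathlib.GroupTheory.GroupAction.Basic
import Cfsg.Agent.Lib.Schur.D4Two.MatUnits
import Cfsg.Agent.Lib.StdForm.OmegaEight.Data

/-!
The Weyl group of type E8 modulo three in coordinates of an orthogonal frame of roots, and its
subgroup of index two, the double cover of the simple orthogonal group.
-/

set_option autoImplicit false

namespace CfsgLib.StdForm.OmegaEight

open CfsgLib.Schur.D4Two
open scoped Matrix

/-- The vectors. -/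
abbrev Vec := Fin 8 → ZMod 3

/-- The invertible matrices. -/
abbrev GL8 := (Matrix (Fin 8) (Fin 8) (ZMod 3))ˣ

/-- The vector of a list. -/
def vec (l : List ℕ) : Vec := fun i => (l.getD i.val 0 : ZMod 3)

/-- The set of roots. -/
def rootSet : Finset Vec := (rootL.map vec).toFinset

/-- The matrix of a reflection as lists. -/
def reflL (a : List ℕ) : List (List ℕ) :=
  List.ofFn fun i : Fin 8 => List.ofFn fun j : Fin 8 =>
    ((if i = j then 1 else 0) + a.getD i.val 0 * a.getD j.val 0) % 3

/-- A product of reflections as lists. -/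
def prodL (w : List (List ℕ)) : List (List ℕ) :=
  w.foldr (fun a M => mulL (reflL a) M) oneL

/-- The matrix `1 + a aᵀ`, the reflection in `a` when `a` has norm one. -/
def reflM (a : Vec) : Matrix (Fin 8) (Fin 8) (ZMod 3) := 1 + Matrix.vecMulVec a a

/-- A unit from an involutory matrix, and one otherwise. -/
def invUnit (M : Matrix (Fin 8) (Fin 8) (ZMod 3)) : GL8 :=
  if h : M * M = 1 then ⟨M, M, h, h⟩ else 1

/-- The reflection. -/
def refl (a : Vec) : GL8 := invUnit (reflM a)

/-- A product of reflections. -/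
def prodRefl (w : List (List ℕ)) : GL8 := (w.map fun a => refl (vec a)).prod

/-- The diagonal sign matrix of a set of coordinates. -/
def dg (S : Finset (Fin 8)) : GL8 :=
  ⟨Matrix.diagonal fun i => if i ∈ S then -1 else 1, Matrix.diagonal fun i => if i ∈ S then -1 else 1,
    by rw [Matrix.diagonal_mul_diagonal, ← Matrix.diagonal_one]
       congr 1; funext i; split <;> norm_num,
    by rw [Matrix.diagonal_mul_diagonal, ← Matrix.diagonal_one]
       congr 1; funext i; split <;> norm_num⟩

/-- The diagonal sign matrix as lists. -/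
def dgL (S : Finset (Fin 8)) : List (List ℕ) :=
  List.ofFn fun i : Fin 8 => List.ofFn fun j : Fin 8 => if i = j then (if i ∈ S then 2 else 1) else 0

theorem toMat_dgL (S : Finset (Fin 8)) :
    toMat (dgL S) = (dg S : Matrix (Fin 8) (Fin 8) (ZMod 3)) := by
  ext i j
  simp only [toMat, dgL, getE_ofFn, dg, Matrix.diagonal_apply]
  split
  · split <;> decide
  · simp

theorem toMat_reflL (a : List ℕ) : toMat (reflL a) = reflM (vec a) := by
  ext i j
  simp only [toMat, reflL, getE_ofFn, reflM, ZMod.natCast_mod, Nat.cast_add, Nat.cast_mul,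
    Matrix.add_apply, Matrix.vecMulVec_apply, Matrix.one_apply, apply_ite Nat.cast, Nat.cast_one,
    Nat.cast_zero, vec]

theorem invUnit_val {M : Matrix (Fin 8) (Fin 8) (ZMod 3)} (h : M * M = 1) :
    (invUnit M : Matrix (Fin 8) (Fin 8) (ZMod 3)) = M := by
  rw [invUnit, dif_pos h]

theorem refl_val {a : Vec} (ha : a ⬝ᵥ a = 1) :
    (refl a : Matrix (Fin 8) (Fin 8) (ZMod 3)) = reflM a := by
  refine invUnit_val ?_
  have e : Matrix.vecMulVec a a * Matrix.vecMulVec a a = Matrix.vecMulVec a a := by
    rw [Matrix.vecMulVec_mul_vecMulVec, ha, one_smul]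
  rw [reflM, add_mul, mul_add, mul_add, one_mul, one_mul, mul_one, e]
  ext i j
  simp only [Matrix.add_apply]
  have h3 : ∀ x y : ZMod 3, x + y + (y + y) = x := by decide
  exact h3 _ _

theorem roots_norm : ∀ v ∈ rootL, (List.ofFn fun i : Fin 8 => v.getD i.val 0 * v.getD i.val 0).sum % 3 = 1 := by
  decide +kernel

theorem dot_self_of_mem {a : List ℕ} (h : a ∈ rootL) : vec a ⬝ᵥ vec a = 1 := by
  have e := congrArg (fun n : ℕ => (n : ZMod 3)) (roots_norm a h)
  simp only [ZMod.natCast_mod, List.sum_ofFn, Nat.cast_sum, Nat.cast_mul, Nat.cast_one] at e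
  exact e

theorem toMat_prodL : ∀ w : List (List ℕ), (∀ a ∈ w, a ∈ rootL) →
    toMat (prodL w) = (prodRefl w : Matrix (Fin 8) (Fin 8) (ZMod 3))
  | [], _ => by simp [prodL, prodRefl, toMat_oneL]
  | a :: w, h => by
    have ih := toMat_prodL w fun b hb => h b (List.mem_cons_of_mem _ hb)
    have e1 : prodL (a :: w) = mulL (reflL a) (prodL w) := rfl
    have e2 : prodRefl (a :: w) = refl (vec a) * prodRefl w := by simp [prodRefl]
    rw [e1, e2, toMat_mulL, toMat_reflL, ih, Units.val_mul,
      refl_val (dot_self_of_mem (h a List.mem_cons_self))]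

theorem basis_mul :
    toMat basisL * toMat basisInvL = 1 ∧ toMat basisInvL * toMat basisL = 1 := by
  rw [← toMat_mulL, ← toMat_mulL, show mulL basisL basisInvL = oneL by decide +kernel,
    show mulL basisInvL basisL = oneL by decide +kernel, toMat_oneL]
  exact ⟨rfl, rfl⟩

/-- The change of basis as a unit. -/
def basisU : GL8 := ⟨toMat basisL, toMat basisInvL, basis_mul.1, basis_mul.2⟩

/-- The generators in frame coordinates. -/
def genU (r : Fin 24) : GL8 := basisU⁻¹ * matU r * basisU

/-- The double cover. -/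
def W1 : Subgroup GL8 := Subgroup.closure (Set.range genU)

/-- The Weyl group. -/
def W : Subgroup GL8 := Subgroup.closure (insert (dg {0}) (Set.range genU))

/-- A product of rotations of order four in the planes of the pairs `{2i, 2i+1}`. -/
def rotJ : GL8 := prodRefl
  [[1, 2, 0, 0, 0, 0, 1, 1], [1, 2, 0, 0, 0, 0, 2, 2],
    [0, 1, 0, 0, 0, 0, 0, 0], [0, 0, 1, 2, 0, 0, 1, 1],
    [0, 0, 1, 2, 0, 0, 2, 2], [0, 0, 0, 1, 0, 0, 0, 0],
    [0, 0, 0, 0, 1, 2, 1, 1], [0, 0, 0, 0, 1, 2, 2, 2],
    [0, 0, 0, 0, 0, 1, 0, 0], [0, 0, 0, 0, 0, 0, 1, 0]]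

/-- The representatives of the classes of elements with square `1` or `-1`, up to sign. -/
def reps : List GL8 := [dg {0}, dg {0, 1}, dg {0, 1, 2}, dg {0, 1, 2, 3}, dg {0, 1, 2, 4}, rotJ]

/-- A perfect group generated by involutions. -/
def PerfectInv {G : Type*} [Group G] (P : Subgroup G) : Prop :=
  ⁅P, P⁆ = P ∧ Subgroup.closure {x | x ∈ P ∧ x * x = 1} = P

/-- Four pairwise orthogonal roots are planar when a signed sum of them is a root. -/
def Planar (a b c d : Vec) : Prop :=
  ∃ s t u : ZMod 3, s * s = 1 ∧ t * t = 1 ∧ u * u = 1 ∧ a + s • b + t • c + u • d ∈ rootSet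

/-- The coordinate vector. -/
abbrev ee (i : Fin 8) : Vec := Pi.single i 1

end CfsgLib.StdForm.OmegaEight
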