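import Cfsg.Agent.Lib.StdForm.OmegaEight.Refl
import Cfsg.Agent.Lib.AutPOmega.PlusResults

/-!
The automorphisms of a double cover of `POmega8+(2)` are conjugations by the matrix group and the
reflection.
-/

set_option autoImplicit false
set_option linter.unusedSectionVars false
set_option maxHeartbeats 400000

namespace CfsgLib.StdForm.OmegaEight.MatModel

open Subgroup CfsgLib.Schur.D4Two
open scoped commutatorElement

universe u v w

/-- The matrix group with the reflection. -/
def fullGroup : Subgroup Um := Subgroup.closure (insert reflU (Set.range matU))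

theorem matGroup_le : matGroup ≤ fullGroup := closure_mono (Set.subset_insert _ _)

theorem refl_map {b : Um} (hb : b ∈ matGroup) : reflU * b * reflU⁻¹ ∈ matGroup := by
  have h : matGroup ≤ matGroup.comap (MulAut.conj reflU).toMonoidHom := by
    refine (closure_le _).2 ?_
    rintro _ ⟨r, rfl⟩
    exact refl_conj r
  exact h hb

variable {P : Type u} [Group P] [Finite P] [IsSimpleGroup P] {x : Fin 24 → P}
variable {A : Type u} [Group A] [Finite A]

/-- The automorphisms of a double cover in the model. -/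
theorem aut_model (R : Rels tab x) (hP : Presents tab x) (hcardP : Nat.card (MulAut P) = 6 * Nat.card P)
    (hperf : commutator A = ⊤) (q : A →* P) (hq : Function.Surjective q)
    (hker : q.ker = center A) (φ : A →* Um) (hφi : Function.Injective φ)
    (hφr : φ.range = matGroup) :
    ∀ σ : MulAut A, ∃ M ∈ fullGroup, ∀ a, φ (σ a) = M * φ a * M⁻¹ := by
  classical
  have hmem : ∀ b ∈ matGroup, ∃ a, φ a = b := fun b hb => by
    rw [← hφr] at hb; exact hb
  choose av hav using fun r => hmem (matU r) (subset_closure ⟨r, rfl⟩)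
  obtain ⟨zA, hzA⟩ := hmem (-1) neg_one_mem
  have hzAc : q zA = 1 := by
    rw [← MonoidHom.mem_ker, hker]
    refine mem_center_iff.2 fun g => hφi ?_
    rw [map_mul, map_mul, hzA]
    exact (Commute.neg_one_left _).eq.symm
  have hsign : ∀ c : A, (φ c = 1 ∨ φ c = -1) → q c = 1 := by
    rintro c (h | h)
    · rw [show c = 1 from hφi (by rw [h, map_one]), map_one]
    · rw [show c = zA from hφi (by rw [h, hzA])]; exact hzAc
  -- the system defined by the model
  let y : Fin 24 → P := fun r => q (av r)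
  have Ry : Rels tab y := by
    refine ⟨fun r => ?_, fun r s a b c => ?_, fun r s v h => ?_⟩
    · show q (av r) * q (av r) = 1
      rw [← map_mul]
      exact hsign _ (Or.inl (by rw [map_mul, hav, matU_sq]))
    · refine commutatorElement_eq_one_iff_mul_comm.1 ?_
      show ⁅q (av r), q (av s)⁆ = 1
      rw [← map_commutatorElement]
      refine hsign _ ?_
      rw [map_commutatorElement, hav, hav]
      exact (comm_sign (isCom_iff.2 ⟨a, b, c⟩)).1
    · show ⁅q (av r), q (av s)⁆ = q (av v)
      rw [← mul_inv_eq_one, ← map_commutatorElement, ← map_inv, ← map_mul]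
      refine hsign _ ?_
      rw [map_mul, map_inv, map_commutatorElement, hav, hav, hav]
      exact (sum_sign h).1
  have hgenA : Subgroup.closure (Set.range av) = ⊤ := by
    refine map_injective hφi ?_
    rw [MonoidHom.map_closure, ← Set.range_comp, ← MonoidHom.range_eq_map, hφr]
    exact congrArg Subgroup.closure (congrArg Set.range (funext hav))
  have hgenY : Subgroup.closure (Set.range y) = ⊤ := by
    rw [show Set.range y = q '' Set.range av by rw [← Set.range_comp]; rfl, ← MonoidHom.map_closure,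
      hgenA, map_top_of_surjective q hq]
  obtain ⟨f, hf⟩ := hP.2 P y Ry
  have hfs : Function.Surjective f := by
    rw [← MonoidHom.range_eq_top, eq_top_iff, ← hgenY, closure_le]
    rintro _ ⟨r, rfl⟩
    exact ⟨x r, hf r⟩
  let fe : P ≃* P := MulEquiv.ofBijective f (Finite.injective_iff_surjective.2 hfs |> fun h => ⟨h, hfs⟩)
  have Rt : Rels tab fun r => y (tau r) := by
    refine ⟨fun r => Ry.sq _, fun r s a b c => Ry.comm (tau_isCom r s (isCom_iff.2 ⟨a, b, c⟩)),
      fun r s v h => Ry.sum _ _ _ (tau_sum r s v h)⟩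
  obtain ⟨g, hg⟩ := hP.2 P _ Rt
  let θ0 : P →* P := g.comp fe.symm.toMonoidHom
  have hθ0 : ∀ r, θ0 (y r) = y (tau r) := fun r => by
    show g (fe.symm (y r)) = _
    rw [show fe.symm (y r) = x r from fe.symm_apply_eq.2 (hf r).symm, hg]
  have hθs : Function.Surjective θ0 := by
    rw [← MonoidHom.range_eq_top, eq_top_iff, ← hgenY, closure_le]
    rintro _ ⟨r, rfl⟩
    obtain ⟨s, rfl⟩ := tau_bijective.2 r
    exact ⟨y s, hθ0 s⟩
  let θ : MulAut P := MulEquiv.ofBijective θ0 ⟨Finite.injective_iff_surjective.2 hθs, hθs⟩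
  -- the map to the automorphisms of the simple group
  have hex : ∀ α : MulAut A, ∃ π : MulAut P, ∀ a, π (q a) = q (α a) := by
    intro α
    have hle : q.ker ≤ (q.comp α.toMonoidHom).ker := by
      intro a ha
      show q (α a) = 1
      rw [hker] at ha
      rw [← MonoidHom.mem_ker, hker]
      exact mem_center_iff.2 fun b => by
        have := congrArg α (mem_center_iff.1 ha (α.symm b))
        simpa using this
    let p0 : P →* P := MonoidHom.liftOfSurjective q hq ⟨q.comp α.toMonoidHom, hle⟩
    have hp0 : ∀ a, p0 (q a) = q (α a) := fun a =>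
      DFunLike.congr_fun (MonoidHom.liftOfRightInverse_comp q _ (Function.rightInverse_surjInv hq)
        ⟨q.comp α.toMonoidHom, hle⟩) a
    have hp0s : Function.Surjective p0 := fun p => by
      obtain ⟨a, rfl⟩ := hq p
      exact ⟨q (α.symm a), by rw [hp0, α.apply_symm_apply]⟩
    exact ⟨MulEquiv.ofBijective p0 ⟨Finite.injective_iff_surjective.2 hp0s, hp0s⟩, hp0⟩
  choose π0 hπ0 using hex
  let Rh : MulAut A →* MulAut P := MonoidHom.mk' π0 fun α β => MulEquiv.ext fun p => by
    obtain ⟨a, rfl⟩ := hq p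
    rw [hπ0, MulAut.mul_apply, MulAut.mul_apply, hπ0, hπ0]
  have hRhi : Function.Injective Rh := by
    refine (injective_iff_map_eq_one Rh).2 fun α hα => ?_
    have hc : ∀ a, ∀ b, Commute (a⁻¹ * α a) b := fun a b => by
      refine (mem_center_iff.1 (hker ▸ (?_ : a⁻¹ * α a ∈ q.ker)) b).symm
      rw [MonoidHom.mem_ker, map_mul, map_inv, ← hπ0, show π0 α = 1 from hα, MulAut.one_apply,
        inv_mul_cancel]
    refine MulEquiv.ext fun a => ?_
    refine DFunLike.congr_fun (MonoidHom.eq_of_eqOn_dense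
      (f := α.toMonoidHom) (g := MonoidHom.id A) ((commutator_eq_closure A).symm.trans hperf) ?_) a
    rintro _ ⟨s, t, rfl⟩
    show α ⁅s, t⁆ = ⁅s, t⁆
    obtain ⟨z, hz, hze⟩ : ∃ z, (∀ b, Commute z b) ∧ α s = s * z :=
      ⟨_, hc s, (mul_inv_cancel_left _ _).symm⟩
    obtain ⟨c, hc', hce⟩ : ∃ c, (∀ b, Commute c b) ∧ α t = t * c :=
      ⟨_, hc t, (mul_inv_cancel_left _ _).symm⟩
    rw [map_commutatorElement, hze, hce]
    calc ⁅s * z, t * c⁆ = s * (z * t) * (c * z⁻¹) * s⁻¹ * c⁻¹ * t⁻¹ := by
          simp only [commutatorElement_def]; group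
      _ = s * (t * z) * (z⁻¹ * c) * s⁻¹ * c⁻¹ * t⁻¹ := by rw [(hz t).eq, (hc' z⁻¹).eq]
      _ = s * t * (c * s⁻¹) * c⁻¹ * t⁻¹ := by group
      _ = ⁅s, t⁆ := by rw [(hc' s⁻¹).eq]; simp only [commutatorElement_def]; group
  have hnθ : θ ∉ Rh.range := by
    rintro ⟨α, hα⟩
    have hq' : ∀ r, ∃ c, (∀ b, Commute c b) ∧ α (av r) = av (tau r) * c := fun r => by
      refine ⟨_, fun b => (mem_center_iff.1 (hker ▸ (?_ :
        (av (tau r))⁻¹ * α (av r) ∈ q.ker)) b).symm, (mul_inv_cancel_left _ _).symm⟩
      have h1 : q (α (av r)) = θ (y r) := by rw [← hπ0, ← hα]; rfl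
      rw [MonoidHom.mem_ker, map_mul, map_inv, h1, show θ (y r) = _ from hθ0 r]
      exact inv_mul_cancel _
    obtain ⟨c, hc, hce⟩ := hq' 14
    obtain ⟨d, hd, hde⟩ := hq' 17
    obtain ⟨s1, s2, s3⟩ := base_signs
    have h0 : ⁅av 14, av 17⁆ = 1 := hφi (by rw [map_commutatorElement, hav, hav, s2, map_one])
    have h1 := congrArg φ (congrArg α h0)
    rw [map_commutatorElement, hce, hde, map_one, map_one] at h1
    have h2 : ⁅av (tau 14) * c, av (tau 17) * d⁆ = ⁅av (tau 14), av (tau 17)⁆ := by
      calc ⁅av (tau 14) * c, av (tau 17) * d⁆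
          = av (tau 14) * (c * av (tau 17)) * (d * c⁻¹) * (av (tau 14))⁻¹ * d⁻¹ *
              (av (tau 17))⁻¹ := by simp only [commutatorElement_def]; group
        _ = av (tau 14) * (av (tau 17) * c) * (c⁻¹ * d) * (av (tau 14))⁻¹ * d⁻¹ *
              (av (tau 17))⁻¹ := by rw [(hc _).eq, (hd c⁻¹).eq]
        _ = av (tau 14) * av (tau 17) * (d * (av (tau 14))⁻¹) * d⁻¹ * (av (tau 17))⁻¹ := by group
        _ = _ := by rw [(hd _).eq]; simp only [commutatorElement_def]; group
    rw [h2, map_commutatorElement, hav, hav, tau_values.1, tau_values.2.2.1, s3] at h1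
    exact neg_one_ne_one h1
  -- the automorphisms realised in the matrices
  let S : Subgroup (MulAut A) :=
    { carrier := {α | ∃ M ∈ fullGroup, ∀ a, φ (α a) = M * φ a * M⁻¹}
      one_mem' := ⟨1, one_mem _, fun a => by simp⟩
      mul_mem' := fun {α β} ⟨M, hM, h⟩ ⟨N, hN, h'⟩ => ⟨M * N, mul_mem hM hN, fun a => by
        rw [MulAut.mul_apply, h, h']; group⟩
      inv_mem' := fun {α} ⟨M, hM, h⟩ => ⟨M⁻¹, inv_mem hM, fun a => by
        have h' := h (α⁻¹ a)
        rw [MulAut.apply_inv_self] at h'
        rw [h']; group⟩ }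
  let C : Subgroup (MulAut A) := (MulAut.conj : A →* MulAut A).range
  have hCS : C ≤ S := by
    rintro _ ⟨b, rfl⟩
    exact ⟨φ b, matGroup_le (hφr ▸ ⟨b, rfl⟩), fun a => by simp [MulAut.conj_apply]⟩
  -- conjugation by the reflection
  choose r0 hr0 using fun a => hmem _ (refl_map (hφr ▸ ⟨a, rfl⟩ : φ a ∈ matGroup))
  have hr0i : Function.Injective r0 := fun a b h => hφi (by
    have := congrArg φ h
    rw [hr0, hr0] at this
    exact mul_left_cancel (mul_right_cancel this))
  let rho0 : A →* A := MonoidHom.mk' r0 fun a b => hφi (by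
    rw [map_mul, hr0, hr0, hr0, map_mul]; group)
  let rho : MulAut A := MulEquiv.ofBijective rho0 ⟨hr0i, Finite.injective_iff_surjective.1 hr0i⟩
  have hrhoS : rho ∈ S := ⟨reflU, subset_closure (Set.mem_insert _ _), fun a => hr0 a⟩
  have hrhoC : rho ∉ C := by
    rintro ⟨b, hb⟩
    refine refl_outer (hφr ▸ ⟨b, rfl⟩ : φ b ∈ matGroup) fun r => ?_
    rw [← hav r, ← hr0, show r0 (av r) = rho (av r) from rfl, ← hb, MulAut.conj_apply, map_mul,
      map_mul, map_inv]
  have hC : Nat.card C = Nat.card P := by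
    have hk : (MulAut.conj : A →* MulAut A).ker = q.ker := by
      rw [hker]
      ext a
      rw [MonoidHom.mem_ker, mem_center_iff]
      constructor
      · intro h g
        have := DFunLike.congr_fun h g
        rw [MulAut.conj_apply, MulAut.one_apply] at this
        exact (mul_inv_eq_iff_eq_mul.1 this).symm
      · intro h
        refine MulEquiv.ext fun g => ?_
        rw [MulAut.conj_apply, MulAut.one_apply, ← h g, mul_inv_cancel_right]
    rw [← Nat.card_congr (QuotientGroup.quotientKerEquivRange (MulAut.conj : A →* MulAut A)).toEquiv,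
      Nat.card_congr (QuotientGroup.quotientMulEquivOfEq hk).toEquiv,
      Nat.card_congr (QuotientGroup.quotientKerEquivOfSurjective q hq).toEquiv]
  have hrange : Nat.card Rh.range = Nat.card (MulAut A) :=
    (Nat.card_congr (MonoidHom.ofInjective hRhi).toEquiv).symm
  have hdvd : Nat.card (MulAut A) ∣ 6 * Nat.card P := by
    rw [← hcardP, ← hrange]; exact card_subgroup_dvd_card _
  have hne : Nat.card (MulAut A) ≠ 6 * Nat.card P := fun h => hnθ (by
    rw [show Rh.range = ⊤ from eq_top_of_card_eq _ (by rw [hrange, h, hcardP])]; exact mem_top _)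
  obtain ⟨k, hk⟩ : Nat.card C ∣ Nat.card S := card_dvd_of_le hCS
  obtain ⟨m, hm⟩ : Nat.card S ∣ Nat.card (MulAut A) := card_subgroup_dvd_card S
  have hpos : 0 < Nat.card P := Nat.card_pos
  have hk1 : k ≠ 1 := fun h => hrhoC (by
    rw [eq_of_le_of_card_ge hCS (by rw [hk, h, mul_one])]; exact hrhoS)
  rw [hk, hC] at hm
  rw [hm, mul_assoc, Nat.mul_comm 6] at hdvd hne
  rw [Nat.mul_dvd_mul_iff_left hpos] at hdvd
  have hm1 : m = 1 := by
    have hkm : k * m ≠ 6 := fun h => hne (by rw [h])
    have hle := Nat.le_of_dvd (by norm_num) hdvd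
    have hm0 : m ≠ 0 := fun h => by rw [h, mul_zero] at hdvd; norm_num at hdvd
    have hk0 : k ≠ 0 := fun h => by rw [h, zero_mul] at hdvd; norm_num at hdvd
    have h23 : k * m = 1 ∨ k * m = 2 ∨ k * m = 3 := by
      interval_cases (k * m) <;> omega
    rcases h23 with h | h | h
    · exact absurd (Nat.eq_one_of_mul_eq_one_right h) hk1
    · rcases (Nat.dvd_prime Nat.prime_two).1 (Dvd.intro _ h : k ∣ 2) with e | e
      · exact absurd e hk1
      · subst e; omega
    · rcases (Nat.dvd_prime Nat.prime_three).1 (Dvd.intro _ h : k ∣ 3) with e | e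
      · exact absurd e hk1
      · subst e; omega
  have htop : S = ⊤ := eq_top_of_card_eq _ (by rw [hk, hC, hm, hm1, mul_one])
  intro σ
  exact (htop ▸ mem_top σ : σ ∈ S)

variable {F : Type u} [Field F] [Fintype F]

theorem card_aut_pOmega (hF : Fintype.card F = 2) :
    Nat.card (MulAut (Cfsg.POmega F (Cfsg.quadFormPlus 4 F))) =
      6 * Nat.card (Cfsg.POmega F (Cfsg.quadFormPlus 4 F)) := by
  haveI : Fact (Nat.Prime 2) := ⟨Nat.prime_two⟩
  haveI : CharP F 2 := charP_of_card_eq_prime (R := F) (p := 2) hF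
  rw [CfsgLib.AutPOmega.card_aut_plus 2 1 (by rw [hF, pow_one]) 4 le_rfl,
    Nat.card_eq_fintype_card (α := F), hF]
  norm_num

/-- The model of a double cover with its automorphisms, in all universes. -/
theorem exists_model {A : Type v} [Group A] [Finite A] {F : Type w} [Field F] [Fintype F]
    (hF : Fintype.card F = 2) (hperf : commutator A = ⊤) (hZ : Nat.card ↥(center A) = 2)
    (e : Nonempty ((A ⧸ center A) ≃* Cfsg.POmega F (Cfsg.quadFormPlus 4 F))) :
    ∃ φ : A →* Um, Function.Injective φ ∧ φ.range = matGroup ∧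
      ∀ σ : MulAut A, ∃ M ∈ fullGroup, ∀ a, φ (σ a) = M * φ a * M⁻¹ := by
  obtain ⟨e⟩ := e
  obtain ⟨hfin, hsimp, hperfP, x, R, hP⟩ := exists_system hF
  let s : A ≃* Shrink.{w} A := Shrink.mulEquiv.symm
  let q : Shrink.{w} A →* Cfsg.POmega F (Cfsg.quadFormPlus 4 F) :=
    (e.toMonoidHom.comp (QuotientGroup.mk' (center A))).comp s.symm.toMonoidHom
  have hq : Function.Surjective q :=
    (e.surjective.comp (QuotientGroup.mk'_surjective _)).comp s.symm.surjective
  have hker : q.ker = center (Shrink.{w} A) := by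
    ext a
    rw [MonoidHom.mem_ker]
    show e (QuotientGroup.mk' (center A) (s.symm a)) = 1 ↔ _
    rw [map_eq_one_iff _ e.injective, QuotientGroup.mk'_apply, QuotientGroup.eq_one_iff,
      mem_center_iff, mem_center_iff]
    constructor
    · intro h g
      have := congrArg s (h (s.symm g))
      simpa using this
    · intro h g
      have := congrArg s.symm (h (s g))
      simpa using this
  have hperfS : commutator (Shrink.{w} A) = ⊤ := by
    rw [← map_top_of_surjective s.toMonoidHom s.surjective, ← hperf, _root_.commutator_def,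
      _root_.commutator_def, map_commutator, map_top_of_surjective s.toMonoidHom s.surjective]
  have hcard : Nat.card q.ker = 2 := by
    rw [hker, ← hZ]
    exact (Nat.card_congr (Subgroup.centerCongr s).toEquiv).symm
  haveI : Finite (Shrink.{w} A) := Finite.of_equiv A s.toEquiv
  obtain ⟨φ, hφi, hφr⟩ := exists_hom_aux hperfP R hP hperfS q hq hker.le hcard
  refine ⟨φ.comp s.toMonoidHom, hφi.comp s.injective, ?_, fun σ => ?_⟩
  · rw [MonoidHom.range_comp, MonoidHom.range_eq_top.2 s.surjective, ← MonoidHom.range_eq_map, hφr]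
  · obtain ⟨M, hM, h⟩ :=
      aut_model R hP (card_aut_pOmega hF) hperfS q hq hker φ hφi hφr ((s.symm.trans σ).trans s)
    refine ⟨M, hM, fun a => ?_⟩
    have := h (s a)
    simpa using this

end CfsgLib.StdForm.OmegaEight.MatModel
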