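import Cfsg.Agent.Lib.StdForm.OmegaEight.Basic
import Cfsg.Agent.Lib.StdForm.OmegaEight.Outer

/-!
The model of a double cover of `POmega8+(2)` in the frame coordinates of `OmegaEight.Basic`.
-/

set_option autoImplicit false

namespace CfsgLib.StdForm.OmegaEight

open CfsgLib.Schur.D4Two

theorem basis_refl :
    mulL (mulL basisInvL MatModel.reflL) basisL = dgL {0} := by decide +kernel

theorem basisU_refl : basisU⁻¹ * MatModel.reflU * basisU = dg {0} := by
  refine Units.ext ?_
  rw [← toMat_dgL, ← basis_refl, toMat_mulL, toMat_mulL]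
  rfl

/-- A double cover of `POmega8+(2)` is the group `W1`, its automorphisms come from `W`. -/
theorem exists_model_frame {A : Type*} [Group A] [Finite A] {F : Type*} [Field F] [Fintype F]
    (hF : Fintype.card F = 2) (hperf : commutator A = ⊤) (hZ : Nat.card ↥(Subgroup.center A) = 2)
    (e : Nonempty ((A ⧸ Subgroup.center A) ≃* Cfsg.POmega F (Cfsg.quadFormPlus 4 F))) :
    ∃ φ : A →* GL8, Function.Injective φ ∧ φ.range = W1 ∧
      ∀ σ : MulAut A, ∃ M ∈ W, ∀ a, φ (σ a) = M * φ a * M⁻¹ := by
  obtain ⟨ψ, hψi, hψr, hψ⟩ := MatModel.exists_model hF hperf hZ e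
  let c : GL8 →* GL8 := (MulAut.conj basisU⁻¹).toMonoidHom
  have hc : ∀ M, c M = basisU⁻¹ * M * basisU := fun M => by
    simp [c, MulAut.conj_apply]
  have hgen : c '' Set.range matU = Set.range genU := by
    rw [← Set.range_comp]
    exact congrArg Set.range (funext fun r => hc _)
  refine ⟨c.comp ψ, (MulAut.conj basisU⁻¹).injective.comp hψi, ?_, fun σ => ?_⟩
  · rw [MonoidHom.range_comp, hψr, MatModel.matGroup, MonoidHom.map_closure, hgen]
    rfl
  · obtain ⟨M, hM, h⟩ := hψ σ
    refine ⟨c M, ?_, fun a => ?_⟩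
    · have hm : MatModel.fullGroup.map c = W := by
        rw [MatModel.fullGroup, MonoidHom.map_closure, Set.image_insert_eq, hgen, hc, basisU_refl]
        rfl
      exact hm ▸ Subgroup.mem_map_of_mem c hM
    · show c (ψ (σ a)) = c M * c (ψ a) * (c M)⁻¹
      rw [h a, map_mul, map_mul, map_inv]

end CfsgLib.StdForm.OmegaEight
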