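import Mathlib.Data.Nat.Notation

/-!
Certificates for the classes of elements with square a sign in the monomial Sylow subgroup: for
each element moves to a root of its orbit, and for each root a product of reflections.
-/

set_option autoImplicit false

namespace CfsgLib.StdForm.OmegaEight

/-- The reflection words of the six permutation generators. -/
def genWordsL : List (List (List ℕ)) := [[[1, 2, 0, 0, 0, 0, 1, 1], [1, 2, 0, 0, 0, 0, 2, 2], [0, 0, 1, 2, 0, 0, 1, 1], [0, 0, 1, 2, 0, 0, 2, 2], [0, 0, 0, 0, 1, 2, 1, 1], [0, 0, 0, 0, 1, 2, 2, 2], [0, 0, 0, 0, 0, 0, 1, 0], [0, 0, 0, 0, 0, 0, 0, 1]],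
  [[1, 0, 2, 0, 0, 1, 0, 1], [1, 0, 2, 0, 0, 2, 0, 2], [0, 1, 0, 2, 0, 1, 0, 1], [0, 1, 0, 2, 0, 2, 0, 2], [0, 0, 0, 0, 1, 1, 2, 1], [0, 0, 0, 0, 1, 2, 2, 2], [0, 0, 0, 0, 0, 1, 0, 0], [0, 0, 0, 0, 0, 0, 0, 1]],
  [[1, 0, 0, 1, 2, 0, 0, 1], [1, 0, 0, 2, 2, 0, 0, 2], [0, 1, 0, 1, 0, 2, 0, 1], [0, 1, 0, 2, 0, 2, 0, 2], [0, 0, 1, 1, 0, 0, 2, 1], [0, 0, 1, 2, 0, 0, 2, 2], [0, 0, 0, 1, 0, 0, 0, 0], [0, 0, 0, 0, 0, 0, 0, 1]],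
  [[0, 0, 1, 2, 0, 0, 1, 1], [0, 0, 1, 2, 0, 0, 2, 2], [0, 0, 0, 0, 0, 0, 1, 0], [0, 0, 0, 0, 0, 0, 0, 1]],
  [[0, 0, 0, 0, 1, 2, 1, 1], [0, 0, 0, 0, 1, 2, 2, 2], [0, 0, 0, 0, 0, 0, 1, 0], [0, 0, 0, 0, 0, 0, 0, 1]],
  [[0, 0, 0, 0, 1, 1, 2, 1], [0, 0, 0, 0, 1, 2, 2, 2], [0, 0, 0, 0, 0, 1, 0, 0], [0, 0, 0, 0, 0, 0, 0, 1]]]


/-- Certificates over the permutation 0. -/
def certK0 : List (List ℕ × ℕ) := [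
  ([], 0), ([], 1), ([8], 1), ([], 2), ([9], 1),
  ([], 3), ([11, 8], 3), ([], 4), ([9, 8], 1), ([11], 3),
  ([8], 3), ([8], 4), ([9], 2), ([9], 4), ([9, 8], 4),
  ([], 5), ([10], 1), ([], 6), ([12, 8], 6), ([], 7),
  ([13, 9], 6), ([], 8), ([12, 11, 8], 8), ([], 9), ([11, 13, 9], 6),
  ([11], 8), ([12, 8], 8), ([11], 9), ([13, 9], 7), ([13, 9], 9),
  ([13, 9, 11], 9), ([], 10), ([10, 8], 1), ([12], 6), ([8], 6),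
  ([8], 7), ([13, 12, 9], 6), ([12], 8), ([11, 8], 8), ([12], 9),
  ([13, 9, 8], 6), ([12, 11], 8), ([8], 8), ([8], 9), ([13, 9, 8], 7),
  ([13, 11, 9], 9), ([13, 9, 8], 9), ([8], 10), ([10], 2), ([10], 7),
  ([10, 8], 7), ([], 11), ([10, 13], 7), ([], 12), ([11, 8], 12),
  ([], 13), ([10, 13, 8], 7), ([11], 12), ([8], 12), ([8], 13),
  ([13, 9], 11), ([13, 9], 13), ([13, 9, 8], 13), ([], 14), ([10, 9], 1),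
  ([13], 6), ([13, 12, 8], 6), ([13], 7), ([9], 6), ([9], 8),
  ([9, 11], 8), ([13], 9), ([12, 9, 8], 6), ([13, 11], 8), ([12, 9, 8], 8),
  ([13, 11], 9), ([9], 7), ([9], 9), ([9, 11], 9), ([9], 10),
  ([10], 3), ([10], 8), ([10, 12], 8), ([10], 12), ([10, 9], 8),
  ([], 15), ([], 16), ([], 17), ([10, 12, 9], 8), ([9], 16),
  ([12, 8], 15), ([12, 8], 17), ([10, 9], 12), ([9], 17), ([12, 9, 8], 17),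
  ([], 18), ([11, 10, 8], 3), ([12, 11, 10], 8), ([11, 10, 8], 8), ([11, 10, 8], 12),
  ([9, 11, 10], 8), ([10], 16), ([11, 8], 15), ([11, 8], 17), ([10, 13, 11, 8], 8),
  ([12, 11], 15), ([9, 11], 16), ([12, 11], 17), ([9, 11, 10], 12), ([12, 11, 9], 17),
  ([9, 11], 17), ([11, 8], 18), ([10], 4), ([10], 9), ([10, 12], 9),
  ([10], 13), ([10, 13], 9), ([10], 17), ([11, 10, 8], 17), ([], 19),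
  ([10, 13, 12], 9), ([12, 11, 10], 17), ([10, 12], 17), ([12, 8], 19), ([10, 13], 13),
  ([13, 9], 19), ([10, 13, 12], 19), ([], 20), ([10, 9, 8], 1), ([13, 12], 6),
  ([13, 8], 6), ([13, 8], 7), ([12, 9], 6), ([12, 9], 8), ([13, 11, 8], 8),
  ([13, 12], 9), ([9, 8], 6), ([11, 9], 8), ([9, 8], 8), ([13, 8], 9),
  ([9, 8], 7), ([11, 9], 9), ([9, 8], 9), ([9, 8], 10), ([11, 10], 3),
  ([11, 10], 8), ([10, 12, 11], 8), ([11, 10], 12), ([10, 13, 11], 8), ([10, 9], 16),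
  ([12, 11, 8], 15), ([12, 11, 8], 17), ([11, 10, 9], 8), ([11], 15), ([11], 16),
  ([11], 17), ([11, 10, 9], 12), ([11, 9], 17), ([12, 9, 11], 17), ([11], 18),
  ([10, 8], 3), ([12, 10], 8), ([10, 8], 8), ([10, 8], 12), ([12, 10, 9], 8),
  ([12], 15), ([12], 16), ([12], 17), ([10, 9, 8], 8), ([8], 16),
  ([8], 15), ([8], 17), ([10, 9, 8], 12), ([12, 9], 17), ([9, 8], 17),
  ([8], 18), ([10, 8], 4), ([11, 10], 9), ([10, 8], 9), ([10, 8], 13),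
  ([10, 13, 11], 9), ([12, 10], 17), ([10, 12, 11], 17), ([12], 19), ([10, 13, 8], 9),
  ([11, 10], 17), ([10, 8], 17), ([8], 19), ([10, 13, 8], 13), ([13, 12, 9], 19),
  ([13, 9, 8], 19), ([8], 20), ([10, 9], 2), ([13, 10], 7), ([13, 10, 8], 7),
  ([13], 11), ([10, 9], 7), ([9], 12), ([9, 11], 12), ([13], 13),
  ([10, 9, 8], 7), ([11, 9], 12), ([9, 8], 12), ([13, 8], 13), ([9], 11),
  ([9], 13), ([9, 8], 13), ([9], 14), ([10, 9], 4), ([13, 10], 9),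
  ([13, 10, 12], 9), ([13, 10], 13), ([10, 9], 9), ([10, 9], 17), ([13, 11, 10, 8], 17),
  ([13], 19), ([11, 10, 9], 9), ([11, 10, 9], 17), ([10, 12, 9], 17), ([11, 13], 19),
  ([10, 9], 13), ([9], 19), ([12, 9, 8], 19), ([9], 20), ([10, 9, 8], 4),
  ([13, 11, 10], 9), ([13, 10, 8], 9), ([13, 10, 8], 13), ([12, 10, 9], 9), ([12, 10, 9], 17),
  ([9, 11, 10], 17), ([13, 12], 19), ([10, 9, 8], 9), ([13, 11, 10], 17), ([10, 9, 8], 17),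
  ([13, 8], 19), ([10, 9, 8], 13), ([12, 9], 19), ([9, 8], 19), ([9, 8], 20),
  ([10], 5), ([10], 10), ([10, 8], 10), ([10], 14), ([10, 9], 10),
  ([10], 18), ([11, 10, 8], 18), ([10], 20), ([10, 9, 8], 10), ([11, 10], 18),
  ([10, 8], 18), ([10, 8], 20), ([10, 9], 14), ([10, 9], 20), ([10, 9, 8], 20),
  ([], 21)]

/-- Certificates over the permutation 1. -/
def certK1 : List (List ℕ × ℕ) := [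
  ([], 22), ([0], 22), ([2], 22), ([2, 0], 22), ([4], 22),
  ([4, 0], 22), ([4, 2], 22), ([4, 2, 0], 22), ([], 23), ([0], 23),
  ([2], 23), ([2, 0], 23), ([4], 23), ([4, 0], 23), ([4, 2], 23),
  ([8, 6], 23), ([6], 23), ([6, 0], 23), ([11], 23), ([11, 0], 23),
  ([12], 23), ([12, 0], 23), ([8, 0], 23), ([8], 23), ([6], 22),
  ([6, 0], 22), ([6, 2], 22), ([6, 2, 0], 22), ([6, 4], 22), ([6, 4, 0], 22),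
  ([6, 4, 2], 22), ([6, 4, 2, 0], 22)]

/-- Certificates over the permutation 2. -/
def certK2 : List (List ℕ × ℕ) := [
  ([], 24), ([0], 24), ([1], 24), ([1, 0], 24), ([], 25),
  ([0], 25), ([1], 25), ([1, 0], 25), ([4], 24), ([4, 0], 24),
  ([4, 1], 24), ([4, 1, 0], 24), ([4], 25), ([4, 0], 25), ([4, 1], 25),
  ([9, 5], 25), ([5], 25), ([5, 0], 25), ([5, 1], 25), ([9, 4], 25),
  ([5], 24), ([5, 0], 24), ([5, 1], 24), ([5, 1, 0], 24), ([13], 25),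
  ([13, 0], 25), ([9, 0], 25), ([9], 25), ([5, 4], 24), ([5, 4, 0], 24),
  ([5, 4, 1], 24), ([5, 4, 1, 0], 24)]

/-- Certificates over the permutation 3. -/
def certK3 : List (List ℕ × ℕ) := [
  ([11], 24), ([11, 1], 24), ([11, 0], 24), ([11, 1, 0], 24), ([11], 25),
  ([11, 1], 25), ([11, 0], 25), ([11, 1, 0], 25), ([11, 5], 25), ([11, 5, 1], 25),
  ([11, 5, 0], 25), ([11, 9, 4], 25), ([11, 5], 24), ([11, 5, 1], 24), ([11, 5, 0], 24),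
  ([11, 5, 1, 0], 24), ([11, 4], 24), ([11, 4, 1], 24), ([11, 4, 0], 24), ([11, 4, 1, 0], 24),
  ([11, 4], 25), ([11, 4, 1], 25), ([11, 4, 0], 25), ([9, 11, 4], 25), ([13, 11], 25),
  ([11, 9, 0], 25), ([9, 11, 0], 25), ([11, 9], 25), ([11, 5, 4], 24), ([11, 5, 4, 1], 24),
  ([11, 5, 4, 0], 24), ([11, 5, 4, 1, 0], 24)]

/-- Certificates over the permutation 4. -/
def certK4 : List (List ℕ × ℕ) := [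
  ([], 26), ([], 27), ([0], 26), ([0], 27), ([1], 26),
  ([1], 27), ([1, 0], 26), ([1, 0], 27), ([2], 26), ([2], 27),
  ([2, 0], 26), ([2, 0], 27), ([2, 1], 26), ([2, 1], 27), ([2, 1, 0], 26),
  ([10, 3], 27), ([3], 27), ([3], 26), ([3, 0], 27), ([3, 0], 26),
  ([3, 1], 27), ([3, 1], 26), ([10, 2], 27), ([3, 1, 0], 26), ([3, 2], 27),
  ([3, 2], 26), ([10, 1], 27), ([3, 2, 0], 26), ([10, 0], 27), ([3, 2, 1], 26),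
  ([10], 27), ([3, 2, 1, 0], 26)]

/-- Certificates over the permutation 5. -/
def certK5 : List (List ℕ × ℕ) := [
  ([12], 26), ([12], 27), ([12, 1], 26), ([12, 1], 27), ([12, 0], 26),
  ([12, 0], 27), ([12, 1, 0], 26), ([12, 1, 0], 27), ([12, 3], 27), ([12, 3], 26),
  ([12, 3, 1], 27), ([12, 3, 1], 26), ([12, 3, 0], 27), ([12, 3, 0], 26), ([12, 10, 2], 27),
  ([12, 3, 1, 0], 26), ([12, 2], 26), ([12, 2], 27), ([12, 2, 1], 26), ([12, 2, 1], 27),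
  ([12, 2, 0], 26), ([12, 2, 0], 27), ([12, 2, 1, 0], 26), ([10, 12, 2], 27), ([12, 3, 2], 27),
  ([12, 3, 2], 26), ([12, 10, 0], 27), ([12, 3, 2, 1], 26), ([10, 12, 0], 27), ([12, 3, 2, 0], 26),
  ([12, 10], 27), ([12, 3, 2, 1, 0], 26)]

/-- Certificates over the permutation 6. -/
def certK6 : List (List ℕ × ℕ) := [
  ([13], 26), ([13], 27), ([13, 2], 26), ([13, 2], 27), ([13, 3], 27),
  ([13, 3], 26), ([13, 3, 2], 27), ([13, 3, 2], 26), ([13, 0], 26), ([13, 0], 27),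
  ([13, 2, 0], 26), ([13, 2, 0], 27), ([13, 3, 0], 27), ([13, 3, 0], 26), ([13, 10, 1], 27),
  ([13, 3, 2, 0], 26), ([13, 1], 26), ([13, 1], 27), ([13, 2, 1], 26), ([13, 2, 1], 27),
  ([13, 3, 1], 27), ([13, 3, 1], 26), ([13, 10, 0], 27), ([13, 3, 2, 1], 26), ([13, 1, 0], 26),
  ([13, 1, 0], 27), ([13, 2, 1, 0], 26), ([10, 13, 1], 27), ([10, 13, 0], 27), ([13, 3, 1, 0], 26),
  ([13, 10], 27), ([13, 3, 2, 1, 0], 26)]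

/-- Certificates over the permutation 7. -/
def certK7 : List (List ℕ × ℕ) := [
  ([13, 12], 26), ([13, 12], 27), ([11, 13, 2], 27), ([11, 13, 2], 26), ([13, 12, 2], 26),
  ([13, 12, 2], 27), ([13, 12, 3, 2], 27), ([13, 12, 3, 2], 26), ([13, 12, 1], 26), ([13, 12, 1], 27),
  ([11, 13, 2, 1], 27), ([11, 13, 2, 1], 26), ([13, 12, 2, 1], 26), ([13, 12, 2, 1], 27), ([13, 12, 10, 0], 27),
  ([13, 12, 3, 2, 1], 26), ([13, 12, 0], 26), ([13, 12, 0], 27), ([11, 13, 2, 0], 27), ([11, 13, 2, 0], 26),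
  ([13, 12, 2, 0], 26), ([13, 12, 2, 0], 27), ([13, 10, 12, 0], 27), ([13, 12, 3, 2, 0], 26), ([13, 12, 1, 0], 26),
  ([13, 12, 1, 0], 27), ([12, 10, 13, 0], 27), ([11, 13, 2, 1, 0], 26), ([13, 12, 2, 1, 0], 26), ([10, 13, 12, 0], 27),
  ([13, 12, 10], 27), ([13, 12, 3, 2, 1, 0], 26)]

/-- Certificates over the permutation 8. -/
def certK8 : List (List ℕ × ℕ) := [
  ([], 28), ([], 29), ([8], 29), ([], 30), ([2], 28),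
  ([2], 29), ([8, 2], 29), ([2], 30), ([10], 29), ([], 31),
  ([12, 8], 31), ([], 32), ([10, 6], 29), ([2], 31), ([12, 8, 2], 31),
  ([2], 32), ([10, 8], 29), ([12], 31), ([8], 31), ([8], 32),
  ([10, 8, 6], 29), ([12, 2], 31), ([8, 2], 31), ([8, 2], 32), ([10], 30),
  ([10], 32), ([10, 8], 32), ([], 33), ([10, 6], 30), ([10, 6], 32),
  ([10, 8, 6], 32), ([2], 33), ([6], 28), ([6], 29), ([8, 6], 29),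
  ([6], 30), ([6, 2], 28), ([6, 2], 29), ([8, 6, 2], 29), ([6, 2], 30),
  ([10, 2], 29), ([6], 31), ([10, 12, 2], 31), ([6], 32), ([10, 6, 2], 29),
  ([6, 2], 31), ([12, 8, 6, 2], 31), ([6, 2], 32), ([10, 8, 2], 29), ([12, 6], 31),
  ([8, 6], 31), ([8, 6], 32), ([10, 8, 6, 2], 29), ([12, 6, 2], 31), ([8, 6, 2], 31),
  ([8, 6, 2], 32), ([10, 2], 30), ([10, 2], 32), ([10, 8, 2], 32), ([6], 33),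
  ([10, 6, 2], 30), ([10, 6, 2], 32), ([10, 8, 6, 2], 32), ([6, 2], 33)]

/-- Certificates over the permutation 9. -/
def certK9 : List (List ℕ × ℕ) := [
  ([9], 28), ([9, 2], 28), ([9], 29), ([9, 2], 29), ([9, 8], 29),
  ([9, 8, 2], 29), ([9], 30), ([9, 2], 30), ([9, 6], 28), ([9, 6, 2], 28),
  ([9, 6], 29), ([9, 6, 2], 29), ([9, 8, 6], 29), ([9, 8, 6, 2], 29), ([9, 6], 30),
  ([9, 6, 2], 30), ([10, 9], 29), ([10, 9, 6], 29), ([9], 31), ([9, 2], 31),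
  ([12, 9, 8], 31), ([12, 9, 8, 2], 31), ([9], 32), ([9, 2], 32), ([10, 9, 2], 29),
  ([10, 9, 6, 2], 29), ([9, 6], 31), ([9, 6, 2], 31), ([10, 12, 9, 2], 31), ([12, 9, 8, 6, 2], 31),
  ([9, 6], 32), ([9, 6, 2], 32), ([10, 9, 8], 29), ([10, 9, 8, 6], 29), ([12, 9], 31),
  ([12, 9, 2], 31), ([9, 8], 31), ([9, 8, 2], 31), ([9, 8], 32), ([9, 8, 2], 32),
  ([10, 9, 8, 2], 29), ([10, 9, 8, 6, 2], 29), ([12, 9, 6], 31), ([12, 9, 6, 2], 31), ([9, 8, 6], 31),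
  ([9, 8, 6, 2], 31), ([9, 8, 6], 32), ([9, 8, 6, 2], 32), ([10, 9], 30), ([10, 9, 6], 30),
  ([10, 9], 32), ([10, 9, 6], 32), ([10, 9, 8], 32), ([10, 9, 8, 6], 32), ([9], 33),
  ([9, 2], 33), ([10, 9, 2], 30), ([10, 9, 6, 2], 30), ([10, 9, 2], 32), ([10, 9, 6, 2], 32),
  ([10, 9, 8, 2], 32), ([10, 9, 8, 6, 2], 32), ([9, 6], 33), ([9, 6, 2], 33)]

/-- Certificates over the permutation 12. -/
def certK12 : List (List ℕ × ℕ) := [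
  ([], 34), ([], 35), ([0], 34), ([0], 35), ([1], 34),
  ([1], 35), ([1, 0], 34), ([1, 0], 35), ([3], 35), ([3], 34),
  ([3, 0], 35), ([3, 0], 34), ([3, 1], 35), ([3, 1], 34), ([10, 3], 35),
  ([3, 1, 0], 34), ([2], 34), ([2], 35), ([2, 0], 34), ([2, 0], 35),
  ([2, 1], 34), ([2, 1], 35), ([2, 1, 0], 34), ([10, 2], 35), ([3, 2], 35),
  ([3, 2], 34), ([10, 1], 35), ([3, 2, 0], 34), ([10, 0], 35), ([3, 2, 1], 34),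
  ([10], 35), ([3, 2, 1, 0], 34)]

/-- Certificates over the permutation 13. -/
def certK13 : List (List ℕ × ℕ) := [
  ([9], 34), ([9], 35), ([12, 1], 34), ([12, 1], 35), ([12, 0], 34),
  ([12, 0], 35), ([12, 1, 0], 34), ([12, 1, 0], 35), ([9, 0], 34), ([9, 0], 35),
  ([9, 3, 0], 34), ([9, 3, 0], 35), ([9, 2, 0], 34), ([9, 2, 0], 35), ([12, 2, 1, 0], 34),
  ([10, 9, 1], 35), ([9, 1], 35), ([9, 1], 34), ([9, 3, 1], 35), ([9, 3, 1], 34),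
  ([12, 3, 0], 35), ([12, 3, 0], 34), ([10, 9, 0], 35), ([12, 3, 1, 0], 34), ([9, 1, 0], 35),
  ([9, 1, 0], 34), ([12, 10, 0], 35), ([9, 3, 1, 0], 34), ([10, 12, 0], 35), ([9, 2, 1, 0], 34),
  ([10, 9], 35), ([9, 3, 2, 1, 0], 34)]

/-- Certificates over the permutation 16. -/
def certK16 : List (List ℕ × ℕ) := [
  ([], 36), ([], 37), ([8], 37), ([], 38), ([9], 37),
  ([], 39), ([11, 8], 39), ([], 40), ([9, 8], 37), ([11], 39),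
  ([8], 39), ([8], 40), ([9], 38), ([9], 40), ([9, 8], 40),
  ([], 41), ([4], 36), ([4], 37), ([8, 4], 37), ([4], 38),
  ([9, 6], 37), ([4], 39), ([11, 8, 4], 39), ([4], 40), ([9, 8, 6], 37),
  ([11, 4], 39), ([8, 4], 39), ([8, 4], 40), ([9, 6], 38), ([9, 6], 40),
  ([9, 8, 6], 40), ([4], 41), ([6], 36), ([6], 37), ([8, 6], 37),
  ([6], 38), ([9, 4], 37), ([6], 39), ([9, 11, 4], 39), ([6], 40),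
  ([9, 8, 4], 37), ([11, 6], 39), ([8, 6], 39), ([8, 6], 40), ([9, 4], 38),
  ([9, 4], 40), ([9, 8, 4], 40), ([6], 41), ([6, 4], 36), ([6, 4], 37),
  ([8, 6, 4], 37), ([6, 4], 38), ([9, 6, 4], 37), ([6, 4], 39), ([11, 8, 6, 4], 39),
  ([6, 4], 40), ([9, 8, 6, 4], 37), ([11, 6, 4], 39), ([8, 6, 4], 39), ([8, 6, 4], 40),
  ([9, 6, 4], 38), ([9, 6, 4], 40), ([9, 8, 6, 4], 40), ([6, 4], 41)]

/-- Certificates over the permutation 17. -/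
def certK17 : List (List ℕ × ℕ) := [
  ([10], 36), ([10, 4], 36), ([10, 6], 36), ([10, 6, 4], 36), ([10], 37),
  ([10, 4], 37), ([10, 6], 37), ([10, 6, 4], 37), ([10, 8], 37), ([10, 8, 4], 37),
  ([10, 8, 6], 37), ([10, 8, 6, 4], 37), ([10], 38), ([10, 4], 38), ([10, 6], 38),
  ([10, 6, 4], 38), ([10, 9], 37), ([13, 10, 4], 37), ([10, 9, 4], 37), ([10, 9, 6, 4], 37),
  ([10], 39), ([10, 4], 39), ([10, 6], 39), ([10, 6, 4], 39), ([11, 10, 8], 39),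
  ([11, 10, 8, 4], 39), ([9, 11, 10, 4], 39), ([11, 10, 8, 6, 4], 39), ([10], 40), ([10, 4], 40),
  ([10, 6], 40), ([10, 6, 4], 40), ([10, 9, 8], 37), ([13, 10, 8, 4], 37), ([10, 9, 8, 4], 37),
  ([10, 9, 8, 6, 4], 37), ([11, 10], 39), ([11, 10, 4], 39), ([11, 10, 6], 39), ([11, 10, 6, 4], 39),
  ([10, 8], 39), ([10, 8, 4], 39), ([10, 8, 6], 39), ([10, 8, 6, 4], 39), ([10, 8], 40),
  ([10, 8, 4], 40), ([10, 8, 6], 40), ([10, 8, 6, 4], 40), ([10, 9], 38), ([13, 10, 4], 38),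
  ([10, 9, 4], 38), ([10, 9, 6, 4], 38), ([10, 9], 40), ([13, 10, 4], 40), ([10, 9, 4], 40),
  ([10, 9, 6, 4], 40), ([10, 9, 8], 40), ([13, 10, 8, 4], 40), ([10, 9, 8, 4], 40), ([10, 9, 8, 6, 4], 40),
  ([10], 41), ([10, 4], 41), ([10, 6], 41), ([10, 6, 4], 41)]

/-- Certificates over the permutation 18. -/
def certK18 : List (List ℕ × ℕ) := [
  ([], 42), ([0], 42), ([1], 42), ([1, 0], 42), ([], 43),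
  ([0], 43), ([1], 43), ([1, 0], 43), ([5], 43), ([5, 0], 43),
  ([5, 1], 43), ([9, 5], 43), ([5], 42), ([5, 0], 42), ([5, 1], 42),
  ([5, 1, 0], 42), ([4], 42), ([4, 0], 42), ([4, 1], 42), ([4, 1, 0], 42),
  ([4], 43), ([4, 0], 43), ([4, 1], 43), ([9, 4], 43), ([13], 43),
  ([13, 0], 43), ([9, 0], 43), ([9], 43), ([5, 4], 42), ([5, 4, 0], 42),
  ([5, 4, 1], 42), ([5, 4, 1, 0], 42)]

/-- Certificates over the permutation 19. -/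
def certK19 : List (List ℕ × ℕ) := [
  ([10], 42), ([11, 1], 42), ([11, 0], 42), ([11, 1, 0], 42), ([10], 43),
  ([11, 1], 43), ([11, 0], 43), ([10, 13], 43), ([10, 0], 42), ([10, 5, 0], 42),
  ([10, 4, 0], 42), ([11, 4, 1, 0], 42), ([10, 0], 43), ([10, 5, 0], 43), ([10, 4, 0], 43),
  ([10, 13, 0], 43), ([10, 1], 43), ([10, 5, 1], 43), ([11, 5, 0], 43), ([10, 9, 0], 43),
  ([10, 1], 42), ([10, 5, 1], 42), ([11, 5, 0], 42), ([11, 5, 1, 0], 42), ([13, 10], 43),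
  ([11, 9, 0], 43), ([9, 11, 0], 43), ([10, 9], 43), ([10, 1, 0], 42), ([10, 5, 1, 0], 42),
  ([10, 4, 1, 0], 42), ([10, 5, 4, 1, 0], 42)]

/-- Certificates over the permutation 24. -/
def certK24 : List (List ℕ × ℕ) := [
  ([13], 28), ([13], 29), ([13, 8], 29), ([13], 30), ([13, 2], 28),
  ([13, 2], 29), ([13, 8, 2], 29), ([13, 2], 30), ([13, 6], 28), ([13, 6], 29),
  ([13, 8, 6], 29), ([13, 6], 30), ([13, 6, 2], 28), ([13, 6, 2], 29), ([13, 8, 6, 2], 29),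
  ([13, 6, 2], 30), ([13, 10], 29), ([13], 31), ([13, 12, 8], 31), ([13], 32),
  ([13, 10, 6], 29), ([13, 2], 31), ([13, 12, 8, 2], 31), ([13, 2], 32), ([13, 10, 2], 29),
  ([13, 6], 31), ([13, 10, 12, 2], 31), ([13, 6], 32), ([13, 10, 6, 2], 29), ([13, 6, 2], 31),
  ([13, 12, 8, 6, 2], 31), ([13, 6, 2], 32), ([13, 10, 8], 29), ([13, 12], 31), ([13, 8], 31),
  ([13, 8], 32), ([13, 10, 8, 6], 29), ([13, 12, 2], 31), ([13, 8, 2], 31), ([13, 8, 2], 32),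
  ([13, 10, 8, 2], 29), ([13, 12, 6], 31), ([13, 8, 6], 31), ([13, 8, 6], 32), ([13, 10, 8, 6, 2], 29),
  ([13, 12, 6, 2], 31), ([13, 8, 6, 2], 31), ([13, 8, 6, 2], 32), ([13, 10], 30), ([13, 10], 32),
  ([13, 10, 8], 32), ([13], 33), ([13, 10, 6], 30), ([13, 10, 6], 32), ([13, 10, 8, 6], 32),
  ([13, 2], 33), ([13, 10, 2], 30), ([13, 10, 2], 32), ([13, 10, 8, 2], 32), ([13, 6], 33),
  ([13, 10, 6, 2], 30), ([13, 10, 6, 2], 32), ([13, 10, 8, 6, 2], 32), ([13, 6, 2], 33)]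

/-- Certificates over the permutation 25. -/
def certK25 : List (List ℕ × ℕ) := [
  ([13, 9], 28), ([13, 9, 2], 28), ([13, 9], 29), ([13, 9, 2], 29), ([13, 9, 8], 29),
  ([13, 9, 8, 2], 29), ([13, 9], 30), ([13, 9, 2], 30), ([10, 13], 29), ([10, 13, 6], 29),
  ([13, 9], 31), ([13, 9, 2], 31), ([11, 13, 9], 31), ([11, 13, 9, 2], 31), ([13, 9], 32),
  ([13, 9, 2], 32), ([10, 13, 8], 29), ([10, 13, 8, 6], 29), ([13, 12, 9], 31), ([13, 12, 9, 2], 31),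
  ([13, 9, 8], 31), ([13, 9, 8, 2], 31), ([13, 9, 8], 32), ([13, 9, 8, 2], 32), ([10, 13], 30),
  ([10, 13, 6], 30), ([10, 13], 32), ([10, 13, 6], 32), ([10, 13, 8], 32), ([10, 13, 8, 6], 32),
  ([13, 9], 33), ([13, 9, 2], 33), ([10, 13, 2], 28), ([13, 9, 6, 2], 28), ([13, 9, 6], 29),
  ([13, 9, 6, 2], 29), ([13, 9, 8, 6], 29), ([13, 9, 8, 6, 2], 29), ([13, 9, 6], 30), ([13, 9, 6, 2], 30),
  ([10, 13, 2], 29), ([10, 13, 6, 2], 29), ([10, 13, 2], 31), ([13, 9, 6, 2], 31), ([10, 13, 12, 2], 31),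
  ([11, 13, 9, 6, 2], 31), ([13, 9, 6], 32), ([13, 9, 6, 2], 32), ([10, 13, 8, 2], 29), ([10, 13, 8, 6, 2], 29),
  ([12, 10, 13, 2], 31), ([13, 12, 9, 6, 2], 31), ([10, 13, 8, 2], 31), ([13, 9, 8, 6, 2], 31), ([13, 9, 8, 6], 32),
  ([13, 9, 8, 6, 2], 32), ([10, 13, 2], 30), ([10, 13, 6, 2], 30), ([10, 13, 2], 32), ([10, 13, 6, 2], 32),
  ([10, 13, 8, 2], 32), ([10, 13, 8, 6, 2], 32), ([10, 13, 2], 33), ([13, 9, 6, 2], 33)]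

/-- Certificates over the permutation 30. -/
def certK30 : List (List ℕ × ℕ) := [
  ([13], 34), ([13], 35), ([13, 3], 35), ([13, 3], 34), ([13, 2], 34),
  ([13, 2], 35), ([13, 3, 2], 35), ([13, 3, 2], 34), ([13, 0], 34), ([13, 0], 35),
  ([13, 3, 0], 35), ([13, 3, 0], 34), ([13, 2, 0], 34), ([13, 2, 0], 35), ([13, 10, 1], 35),
  ([13, 3, 2, 0], 34), ([13, 1], 34), ([13, 1], 35), ([13, 3, 1], 35), ([13, 3, 1], 34),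
  ([13, 2, 1], 34), ([13, 2, 1], 35), ([13, 10, 0], 35), ([13, 3, 2, 1], 34), ([13, 1, 0], 34),
  ([13, 1, 0], 35), ([13, 10, 3], 35), ([13, 3, 1, 0], 34), ([13, 2, 1, 0], 34), ([13, 10, 2], 35),
  ([13, 10], 35), ([13, 3, 2, 1, 0], 34)]

/-- Certificates over the permutation 31. -/
def certK31 : List (List ℕ × ℕ) := [
  ([13, 9], 34), ([13, 9], 35), ([13, 9, 0], 34), ([13, 9, 0], 35), ([13, 9, 1], 35),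
  ([13, 9, 1], 34), ([13, 9, 1, 0], 35), ([13, 9, 1, 0], 34), ([13, 12, 1], 34), ([13, 12, 1], 35),
  ([10, 13, 2, 0], 34), ([13, 9, 3, 0], 35), ([10, 13, 3, 0], 35), ([10, 13, 2, 1], 34), ([10, 13, 3], 35),
  ([10, 13, 2, 1, 0], 34), ([13, 12, 0], 34), ([13, 12, 0], 35), ([13, 9, 2, 0], 34), ([13, 9, 2, 0], 35),
  ([10, 13, 2, 0], 35), ([11, 13, 2, 0], 34), ([10, 13, 2], 35), ([13, 9, 2, 1, 0], 34), ([13, 12, 1, 0], 34),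
  ([13, 12, 1, 0], 35), ([13, 12, 2, 1, 0], 34), ([10, 13, 1], 35), ([10, 13, 0], 35), ([11, 13, 2, 1, 0], 34),
  ([10, 13], 35), ([13, 9, 3, 2, 1, 0], 34)]

/-- Certificates over the permutation 32. -/
def certK32 : List (List ℕ × ℕ) := [
  ([], 44), ([], 45), ([8], 45), ([], 46), ([9], 45),
  ([], 47), ([], 48), ([], 49), ([9, 8], 45), ([8], 48),
  ([8], 47), ([8], 49), ([9], 46), ([9], 49), ([9, 8], 49),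
  ([], 50), ([4], 44), ([4], 45), ([8, 5], 45), ([4], 46),
  ([9, 4], 45), ([4], 47), ([4], 48), ([4], 49), ([9, 8, 5], 45),
  ([9, 4], 48), ([8, 5], 47), ([8, 5], 49), ([9, 4], 46), ([9, 4], 49),
  ([9, 8, 5], 49), ([4], 50), ([5], 44), ([5], 45), ([8, 4], 45),
  ([5], 46), ([9, 5], 45), ([5], 47), ([5], 48), ([5], 49),
  ([9, 8, 4], 45), ([8, 4], 48), ([8, 4], 47), ([8, 4], 49), ([9, 5], 46),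
  ([9, 5], 49), ([9, 8, 4], 49), ([5], 50), ([5, 4], 44), ([5, 4], 45),
  ([8, 5, 4], 45), ([5, 4], 46), ([9, 5, 4], 45), ([5, 4], 47), ([5, 4], 48),
  ([5, 4], 49), ([9, 8, 5, 4], 45), ([8, 5, 4], 48), ([8, 5, 4], 47), ([8, 5, 4], 49),
  ([9, 5, 4], 46), ([9, 5, 4], 49), ([9, 8, 5, 4], 49), ([5, 4], 50)]

/-- Certificates over the permutation 33. -/
def certK33 : List (List ℕ × ℕ) := [
  ([], 51), ([0], 51), ([2], 51), ([2, 0], 51), ([], 52),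
  ([0], 52), ([2], 52), ([8], 52), ([5], 52), ([5, 0], 52),
  ([5, 2], 52), ([8, 4], 52), ([5], 51), ([5, 0], 51), ([5, 2], 51),
  ([5, 2, 0], 51), ([4], 51), ([4, 0], 51), ([4, 2], 51), ([4, 2, 0], 51),
  ([4], 52), ([4, 0], 52), ([4, 2], 52), ([8, 5], 52), ([9], 52),
  ([13, 0], 52), ([9, 0], 52), ([9, 8], 52), ([5, 4], 51), ([5, 4, 0], 51),
  ([5, 4, 2], 51), ([5, 4, 2, 0], 51)]

/-- Certificates over the permutation 34. -/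
def certK34 : List (List ℕ × ℕ) := [
  ([10], 44), ([10, 4], 44), ([10, 5], 44), ([10, 5, 4], 44), ([10], 45),
  ([10, 4], 45), ([10, 5], 45), ([10, 5, 4], 45), ([10, 8], 45), ([12, 10, 4], 45),
  ([10, 8, 4], 45), ([10, 8, 5, 4], 45), ([10], 46), ([10, 4], 46), ([10, 5], 46),
  ([10, 5, 4], 46), ([10, 9], 45), ([10, 9, 4], 45), ([10, 9, 5], 45), ([10, 9, 5, 4], 45),
  ([10], 47), ([10, 4], 47), ([10, 5], 47), ([10, 5, 4], 47), ([10], 48),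
  ([10, 4], 48), ([10, 5], 48), ([10, 5, 4], 48), ([10], 49), ([10, 4], 49),
  ([10, 5], 49), ([10, 5, 4], 49), ([10, 9, 8], 45), ([12, 10, 9, 4], 45), ([10, 9, 8, 4], 45),
  ([10, 9, 8, 5, 4], 45), ([10, 8], 48), ([10, 9, 4], 48), ([10, 8, 4], 48), ([10, 8, 5, 4], 48),
  ([10, 8], 47), ([12, 10, 4], 47), ([10, 8, 4], 47), ([10, 8, 5, 4], 47), ([10, 8], 49),
  ([12, 10, 4], 49), ([10, 8, 4], 49), ([10, 8, 5, 4], 49), ([10, 9], 46), ([10, 9, 4], 46),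
  ([10, 9, 5], 46), ([10, 9, 5, 4], 46), ([10, 9], 49), ([10, 9, 4], 49), ([10, 9, 5], 49),
  ([10, 9, 5, 4], 49), ([10, 9, 8], 49), ([12, 10, 9, 4], 49), ([10, 9, 8, 4], 49), ([10, 9, 8, 5, 4], 49),
  ([10], 50), ([10, 4], 50), ([10, 5], 50), ([10, 5, 4], 50)]

/-- Certificates over the permutation 35. -/
def certK35 : List (List ℕ × ℕ) := [
  ([10], 51), ([10, 5], 51), ([10, 4], 51), ([10, 5, 4], 51), ([10, 0], 51),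
  ([10, 5, 0], 51), ([10, 4, 0], 51), ([10, 5, 4, 0], 51), ([10], 52), ([10, 5], 52),
  ([10, 4], 52), ([10, 9], 52), ([10, 0], 52), ([10, 5, 0], 52), ([10, 4, 0], 52),
  ([10, 13, 0], 52), ([10, 2], 52), ([10, 5, 2], 52), ([10, 4, 2], 52), ([10, 9, 0], 52),
  ([10, 8], 52), ([10, 8, 4], 52), ([12, 10, 4], 52), ([10, 9, 8], 52), ([10, 2], 51),
  ([10, 5, 2], 51), ([10, 4, 2], 51), ([10, 5, 4, 2], 51), ([10, 2, 0], 51), ([10, 5, 2, 0], 51),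
  ([10, 4, 2, 0], 51), ([10, 5, 4, 2, 0], 51)]

/-- Certificates over the permutation 48. -/
def certK48 : List (List ℕ × ℕ) := [
  ([11], 44), ([11], 45), ([11, 8], 45), ([11], 46), ([9, 11], 45),
  ([11, 8], 48), ([11, 8], 47), ([11, 8], 49), ([11, 9], 45), ([11], 47),
  ([11], 48), ([11], 49), ([11, 9], 46), ([11, 9], 49), ([9, 11], 49),
  ([11], 50), ([11, 5], 44), ([11, 5], 45), ([11, 8, 4], 45), ([11, 5], 46),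
  ([9, 11, 4], 45), ([11, 8, 4], 48), ([11, 8, 4], 47), ([11, 8, 4], 49), ([11, 9, 5], 45),
  ([11, 5], 47), ([11, 5], 48), ([11, 5], 49), ([9, 11, 4], 46), ([11, 9, 5], 49),
  ([9, 11, 4], 49), ([11, 5], 50), ([11, 4], 44), ([11, 4], 45), ([11, 8, 5], 45),
  ([11, 4], 46), ([9, 11, 5], 45), ([11, 9, 4], 48), ([11, 8, 5], 47), ([11, 8, 5], 49),
  ([11, 9, 4], 45), ([11, 4], 47), ([11, 4], 48), ([11, 4], 49), ([11, 9, 4], 46),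
  ([11, 9, 4], 49), ([9, 11, 5], 49), ([11, 4], 50), ([11, 5, 4], 44), ([11, 5, 4], 45),
  ([11, 8, 5, 4], 45), ([11, 5, 4], 46), ([9, 11, 5, 4], 45), ([11, 8, 5, 4], 48), ([11, 8, 5, 4], 47),
  ([11, 8, 5, 4], 49), ([11, 9, 5, 4], 45), ([11, 5, 4], 47), ([11, 5, 4], 48), ([11, 5, 4], 49),
  ([11, 9, 5, 4], 46), ([11, 9, 5, 4], 49), ([9, 11, 5, 4], 49), ([11, 5, 4], 50)]

/-- Certificates over the permutation 49. -/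
def certK49 : List (List ℕ × ℕ) := [
  ([11], 51), ([11, 0], 51), ([11, 2], 51), ([11, 2, 0], 51), ([11, 2], 52),
  ([11, 8], 52), ([11], 52), ([11, 0], 52), ([11, 4], 51), ([11, 4, 0], 51),
  ([11, 4, 2], 51), ([11, 4, 2, 0], 51), ([11, 4, 2], 52), ([11, 8, 5], 52), ([11, 4], 52),
  ([11, 4, 0], 52), ([11, 5, 2], 52), ([11, 8, 4], 52), ([11, 5], 52), ([11, 5, 0], 52),
  ([11, 5], 51), ([11, 5, 0], 51), ([11, 5, 2], 51), ([11, 5, 2, 0], 51), ([11, 9, 0], 52),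
  ([9, 11], 52), ([11, 9], 52), ([9, 11, 0], 52), ([11, 5, 4], 51), ([11, 5, 4, 0], 51),
  ([11, 5, 4, 2], 51), ([11, 5, 4, 2, 0], 51)]

/-- Certificates over the permutation 50. -/
def certK50 : List (List ℕ × ℕ) := [
  ([11, 10], 51), ([11, 10, 4], 51), ([11, 10, 5], 51), ([11, 10, 5, 4], 51), ([11, 10, 0], 51),
  ([11, 10, 4, 0], 51), ([11, 10, 5, 0], 51), ([11, 10, 5, 4, 0], 51), ([11, 10, 2], 52), ([11, 10, 4, 2], 52),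
  ([11, 10, 5, 2], 52), ([11, 10, 9, 0], 52), ([11, 10, 8], 52), ([12, 11, 10, 4], 52), ([11, 10, 8, 4], 52),
  ([9, 11, 10], 52), ([11, 10], 52), ([11, 10, 4], 52), ([11, 10, 5], 52), ([11, 10, 9], 52),
  ([11, 10, 0], 52), ([11, 10, 4, 0], 52), ([11, 10, 5, 0], 52), ([9, 11, 10, 0], 52), ([11, 10, 2], 51),
  ([11, 10, 4, 2], 51), ([11, 10, 5, 2], 51), ([11, 10, 5, 4, 2], 51), ([11, 10, 2, 0], 51), ([11, 10, 4, 2, 0], 51),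
  ([11, 10, 5, 2, 0], 51), ([11, 10, 5, 4, 2, 0], 51)]

/-- Certificates over the permutation 51. -/
def certK51 : List (List ℕ × ℕ) := [
  ([11, 10], 44), ([11, 10, 5], 44), ([11, 10, 4], 44), ([11, 10, 5, 4], 44), ([11, 10], 45),
  ([11, 10, 5], 45), ([11, 10, 4], 45), ([11, 10, 5, 4], 45), ([11, 10, 8], 45), ([11, 10, 8, 4], 45),
  ([12, 11, 10, 4], 45), ([11, 10, 8, 5, 4], 45), ([11, 10], 46), ([11, 10, 5], 46), ([11, 10, 4], 46),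
  ([11, 10, 5, 4], 46), ([9, 11, 10], 45), ([9, 11, 10, 4], 45), ([13, 11, 10, 4], 45), ([9, 11, 10, 5, 4], 45),
  ([11, 10, 8], 48), ([11, 10, 8, 4], 48), ([11, 10, 9, 4], 48), ([11, 10, 8, 5, 4], 48), ([11, 10, 8], 47),
  ([11, 10, 8, 4], 47), ([12, 11, 10, 4], 47), ([11, 10, 8, 5, 4], 47), ([11, 10, 8], 49), ([11, 10, 8, 4], 49),
  ([12, 11, 10, 4], 49), ([11, 10, 8, 5, 4], 49), ([11, 10, 9], 45), ([11, 10, 9, 5], 45), ([11, 10, 9, 4], 45),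
  ([11, 10, 9, 5, 4], 45), ([11, 10], 47), ([11, 10, 5], 47), ([11, 10, 4], 47), ([11, 10, 5, 4], 47),
  ([11, 10], 48), ([11, 10, 5], 48), ([11, 10, 4], 48), ([11, 10, 5, 4], 48), ([11, 10], 49),
  ([11, 10, 5], 49), ([11, 10, 4], 49), ([11, 10, 5, 4], 49), ([11, 10, 9], 46), ([9, 11, 10, 4], 46),
  ([11, 10, 9, 4], 46), ([11, 10, 9, 5, 4], 46), ([11, 10, 9], 49), ([11, 10, 9, 5], 49), ([11, 10, 9, 4], 49),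
  ([11, 10, 9, 5, 4], 49), ([9, 11, 10], 49), ([9, 11, 10, 4], 49), ([13, 11, 10, 4], 49), ([9, 11, 10, 5, 4], 49),
  ([11, 10], 50), ([11, 10, 5], 50), ([11, 10, 4], 50), ([11, 10, 5, 4], 50)]

/-- All certificates. -/
def certs : List (List (List ℕ × ℕ)) := [
  certK0, certK1, certK2, certK3, certK4, certK5, certK6, certK7,
  certK8, certK9, [], [], certK12, certK13, [], [],
  certK16, certK17, certK18, certK19, [], [], [], [],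
  certK24, certK25, [], [], [], [], certK30, certK31,
  certK32, certK33, certK34, certK35, [], [], [], [],
  [], [], [], [], [], [], [], [],
  certK48, certK49, certK50, certK51, [], [], [], [],
  [], [], [], [], [], [], [], []]

/-- The roots of the orbits, the number of the representative, whether it is negated, and the reflections. -/
def orbitRoots : List (List ℕ × ℕ × Bool × List (List ℕ)) := [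
  ([0, 2, 4, 6, 8, 10, 12, 14], 6, false, []),
  ([1, 2, 4, 6, 8, 10, 12, 14], 0, false, []),
  ([1, 3, 4, 6, 8, 10, 12, 14], 1, false, []),
  ([1, 2, 5, 6, 8, 10, 12, 14], 1, false, [[0, 1, 2, 0, 0, 1, 1, 0], [0, 1, 2, 0, 0, 2, 2, 0], [0, 0, 0, 0, 0, 1, 0, 0], [0, 0, 0, 0, 0, 0, 1, 0]]),
  ([1, 3, 5, 6, 8, 10, 12, 14], 2, false, []),
  ([1, 3, 5, 7, 8, 10, 12, 14], 3, false, []),
  ([1, 2, 4, 6, 9, 10, 12, 14], 1, false, [[0, 1, 0, 1, 0, 2, 0, 1], [0, 1, 0, 2, 0, 2, 0, 2], [0, 0, 0, 1, 0, 0, 0, 0], [0, 0, 0, 0, 0, 0, 0, 1], [0, 0, 0, 0, 1, 2, 1, 1], [0, 0, 0, 0, 1, 2, 2, 2], [0, 0, 0, 0, 0, 0, 1, 0], [0, 0, 0, 0, 0, 0, 0, 1]]),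
  ([1, 3, 4, 6, 9, 10, 12, 14], 2, false, [[0, 0, 1, 1, 2, 1, 0, 0], [0, 0, 1, 2, 2, 2, 0, 0], [0, 0, 0, 1, 0, 0, 0, 0], [0, 0, 0, 0, 0, 1, 0, 0]]),
  ([1, 2, 5, 6, 9, 10, 12, 14], 2, false, [[0, 1, 0, 1, 0, 2, 0, 1], [0, 1, 0, 2, 0, 2, 0, 2], [0, 0, 0, 1, 0, 0, 0, 0], [0, 0, 0, 0, 0, 0, 0, 1], [0, 0, 0, 0, 1, 2, 1, 1], [0, 0, 0, 0, 1, 2, 2, 2], [0, 0, 0, 0, 0, 0, 1, 0], [0, 0, 0, 0, 0, 0, 0, 1]]),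
  ([1, 3, 5, 6, 9, 10, 12, 14], 4, false, []),
  ([1, 3, 5, 7, 9, 10, 12, 14], 2, true, [[1, 2, 0, 0, 0, 0, 1, 1], [1, 2, 0, 0, 0, 0, 2, 2], [0, 0, 1, 2, 0, 0, 1, 1], [0, 0, 1, 2, 0, 0, 2, 2], [0, 0, 0, 0, 1, 2, 1, 1], [0, 0, 0, 0, 1, 2, 2, 2], [0, 0, 0, 0, 0, 0, 1, 0], [0, 0, 0, 0, 0, 0, 0, 1], [1, 0, 2, 0, 0, 1, 0, 1], [1, 0, 2, 0, 0, 2, 0, 2], [0, 1, 0, 2, 0, 1, 0, 1], [0, 1, 0, 2, 0, 2, 0, 2], [0, 0, 0, 0, 1, 1, 2, 1], [0, 0, 0, 0, 1, 2, 2, 2], [0, 0, 0, 0, 0, 1, 0, 0], [0, 0, 0, 0, 0, 0, 0, 1], [1, 0, 0, 1, 2, 0, 0, 1], [1, 0, 0, 2, 2, 0, 0, 2], [0, 1, 0, 1, 0, 2, 0, 1], [0, 1, 0, 2, 0, 2, 0, 2], [0, 0, 1, 1, 0, 0, 2, 1], [0, 0, 1, 2, 0, 0, 2, 2], [0, 0, 0, 1, 0, 0, 0, 0], [0, 0, 0, 0, 0, 0, 0, 1]]),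
  ([1, 3, 4, 6, 9, 11, 12, 14], 3, false, [[0, 0, 1, 1, 2, 1, 0, 0], [0, 0, 1, 2, 2, 2, 0, 0], [0, 0, 0, 1, 0, 0, 0, 0], [0, 0, 0, 0, 0, 1, 0, 0]]),
  ([1, 2, 5, 6, 9, 11, 12, 14], 4, false, [[0, 1, 0, 1, 0, 2, 0, 1], [0, 1, 0, 2, 0, 2, 0, 2], [0, 0, 0, 1, 0, 0, 0, 0], [0, 0, 0, 0, 0, 0, 0, 1]]),
  ([1, 3, 5, 6, 9, 11, 12, 14], 2, true, [[1, 2, 0, 0, 0, 0, 1, 1], [1, 2, 0, 0, 0, 0, 2, 2], [0, 0, 1, 2, 0, 0, 1, 1], [0, 0, 1, 2, 0, 0, 2, 2], [0, 0, 0, 0, 1, 2, 1, 1], [0, 0, 0, 0, 1, 2, 2, 2], [0, 0, 0, 0, 0, 0, 1, 0], [0, 0, 0, 0, 0, 0, 0, 1], [1, 1, 0, 0, 0, 0, 1, 1], [1, 2, 0, 0, 0, 0, 1, 2]]),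
  ([1, 3, 5, 7, 9, 11, 12, 14], 1, true, [[1, 0, 2, 0, 0, 1, 0, 1], [1, 0, 2, 0, 0, 2, 0, 2], [0, 1, 0, 2, 0, 1, 0, 1], [0, 1, 0, 2, 0, 2, 0, 2], [0, 0, 0, 0, 1, 1, 2, 1], [0, 0, 0, 0, 1, 2, 2, 2], [0, 0, 0, 0, 0, 1, 0, 0], [0, 0, 0, 0, 0, 0, 0, 1], [1, 0, 0, 1, 2, 0, 0, 1], [1, 0, 0, 2, 2, 0, 0, 2], [0, 1, 0, 1, 0, 2, 0, 1], [0, 1, 0, 2, 0, 2, 0, 2], [0, 0, 1, 1, 0, 0, 2, 1], [0, 0, 1, 2, 0, 0, 2, 2], [0, 0, 0, 1, 0, 0, 0, 0], [0, 0, 0, 0, 0, 0, 0, 1]]),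
  ([1, 2, 5, 6, 9, 10, 13, 14], 3, false, [[0, 1, 0, 1, 0, 2, 0, 1], [0, 1, 0, 2, 0, 2, 0, 2], [0, 0, 0, 1, 0, 0, 0, 0], [0, 0, 0, 0, 0, 0, 0, 1], [0, 0, 0, 0, 1, 2, 1, 1], [0, 0, 0, 0, 1, 2, 2, 2], [0, 0, 0, 0, 0, 0, 1, 0], [0, 0, 0, 0, 0, 0, 0, 1]]),
  ([0, 3, 5, 6, 9, 10, 13, 14], 4, false, [[0, 0, 0, 0, 1, 1, 2, 1], [0, 0, 0, 0, 1, 2, 2, 2], [0, 0, 0, 0, 0, 1, 0, 0], [0, 0, 0, 0, 0, 0, 0, 1], [1, 0, 0, 1, 2, 0, 0, 1], [1, 0, 0, 2, 2, 0, 0, 2], [0, 1, 0, 1, 0, 2, 0, 1], [0, 1, 0, 2, 0, 2, 0, 2], [0, 0, 1, 1, 0, 0, 2, 1], [0, 0, 1, 2, 0, 0, 2, 2], [0, 0, 0, 1, 0, 0, 0, 0], [0, 0, 0, 0, 0, 0, 0, 1], [0, 1, 0, 1, 0, 2, 0, 1], [0, 1, 0, 2, 0, 2, 0, 2], [0, 0, 0, 1, 0, 0, 0, 0], [0, 0, 0, 0, 0, 0, 0, 1]]),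
  ([1, 3, 5, 6, 9, 10, 13, 14], 2, true, [[1, 2, 0, 0, 0, 0, 1, 1], [1, 2, 0, 0, 0, 0, 2, 2], [0, 0, 1, 2, 0, 0, 1, 1], [0, 0, 1, 2, 0, 0, 2, 2], [0, 0, 0, 0, 1, 2, 1, 1], [0, 0, 0, 0, 1, 2, 2, 2], [0, 0, 0, 0, 0, 0, 1, 0], [0, 0, 0, 0, 0, 0, 0, 1], [1, 1, 0, 0, 0, 0, 1, 1], [1, 2, 0, 0, 0, 0, 1, 2], [0, 1, 2, 0, 0, 1, 1, 0], [0, 1, 2, 0, 0, 2, 2, 0], [0, 0, 0, 0, 0, 1, 0, 0], [0, 0, 0, 0, 0, 0, 1, 0]]),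
  ([1, 3, 5, 7, 9, 10, 13, 14], 1, true, [[1, 0, 2, 0, 0, 1, 0, 1], [1, 0, 2, 0, 0, 2, 0, 2], [0, 1, 0, 2, 0, 1, 0, 1], [0, 1, 0, 2, 0, 2, 0, 2], [0, 0, 0, 0, 1, 1, 2, 1], [0, 0, 0, 0, 1, 2, 2, 2], [0, 0, 0, 0, 0, 1, 0, 0], [0, 0, 0, 0, 0, 0, 0, 1], [1, 0, 0, 1, 2, 0, 0, 1], [1, 0, 0, 2, 2, 0, 0, 2], [0, 1, 0, 1, 0, 2, 0, 1], [0, 1, 0, 2, 0, 2, 0, 2], [0, 0, 1, 1, 0, 0, 2, 1], [0, 0, 1, 2, 0, 0, 2, 2], [0, 0, 0, 1, 0, 0, 0, 0], [0, 0, 0, 0, 0, 0, 0, 1], [0, 1, 2, 0, 0, 1, 1, 0], [0, 1, 2, 0, 0, 2, 2, 0], [0, 0, 0, 0, 0, 1, 0, 0], [0, 0, 0, 0, 0, 0, 1, 0]]),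
  ([1, 3, 5, 6, 9, 11, 13, 14], 1, true, [[1, 0, 2, 0, 0, 1, 0, 1], [1, 0, 2, 0, 0, 2, 0, 2], [0, 1, 0, 2, 0, 1, 0, 1], [0, 1, 0, 2, 0, 2, 0, 2], [0, 0, 0, 0, 1, 1, 2, 1], [0, 0, 0, 0, 1, 2, 2, 2], [0, 0, 0, 0, 0, 1, 0, 0], [0, 0, 0, 0, 0, 0, 0, 1], [1, 0, 0, 1, 2, 0, 0, 1], [1, 0, 0, 2, 2, 0, 0, 2], [0, 1, 0, 1, 0, 2, 0, 1], [0, 1, 0, 2, 0, 2, 0, 2], [0, 0, 1, 1, 0, 0, 2, 1], [0, 0, 1, 2, 0, 0, 2, 2], [0, 0, 0, 1, 0, 0, 0, 0], [0, 0, 0, 0, 0, 0, 0, 1], [0, 1, 0, 1, 0, 2, 0, 1], [0, 1, 0, 2, 0, 2, 0, 2], [0, 0, 0, 1, 0, 0, 0, 0], [0, 0, 0, 0, 0, 0, 0, 1], [0, 0, 0, 0, 1, 2, 1, 1], [0, 0, 0, 0, 1, 2, 2, 2], [0, 0, 0, 0, 0, 0, 1, 0], [0, 0, 0, 0, 0, 0, 0, 1]]),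
  ([1, 3, 5, 7, 9, 11, 13, 14], 0, true, [[1, 2, 0, 0, 0, 0, 1, 1], [1, 2, 0, 0, 0, 0, 2, 2], [0, 0, 1, 2, 0, 0, 1, 1], [0, 0, 1, 2, 0, 0, 2, 2], [0, 0, 0, 0, 1, 2, 1, 1], [0, 0, 0, 0, 1, 2, 2, 2], [0, 0, 0, 0, 0, 0, 1, 0], [0, 0, 0, 0, 0, 0, 0, 1], [1, 0, 2, 0, 0, 1, 0, 1], [1, 0, 2, 0, 0, 2, 0, 2], [0, 1, 0, 2, 0, 1, 0, 1], [0, 1, 0, 2, 0, 2, 0, 2], [0, 0, 0, 0, 1, 1, 2, 1], [0, 0, 0, 0, 1, 2, 2, 2], [0, 0, 0, 0, 0, 1, 0, 0], [0, 0, 0, 0, 0, 0, 0, 1], [1, 0, 0, 1, 2, 0, 0, 1], [1, 0, 0, 2, 2, 0, 0, 2], [0, 1, 0, 1, 0, 2, 0, 1], [0, 1, 0, 2, 0, 2, 0, 2], [0, 0, 1, 1, 0, 0, 2, 1], [0, 0, 1, 2, 0, 0, 2, 2], [0, 0, 0, 1, 0, 0, 0, 0], [0, 0, 0, 0, 0, 0, 0, 1]]),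
  ([1, 3, 5, 7, 9, 11, 13, 15], 6, true, []),
  ([2, 0, 6, 4, 10, 8, 14, 12], 3, false, [[0, 0, 1, 1, 0, 0, 1, 2], [1, 1, 0, 0, 1, 2, 0, 0]]),
  ([3, 0, 7, 4, 11, 8, 15, 12], 5, true, []),
  ([4, 6, 0, 2, 12, 14, 8, 10], 3, false, [[0, 1, 0, 1, 0, 2, 0, 1], [0, 1, 0, 2, 0, 2, 0, 2], [0, 0, 0, 1, 0, 0, 0, 0], [0, 0, 0, 0, 0, 0, 0, 1], [0, 0, 0, 0, 1, 1, 2, 1], [1, 1, 1, 2, 0, 0, 0, 0]]),
  ([5, 7, 0, 2, 13, 15, 8, 10], 5, true, [[0, 1, 2, 0, 0, 1, 1, 0], [0, 1, 2, 0, 0, 2, 2, 0], [0, 0, 0, 0, 0, 1, 0, 0], [0, 0, 0, 0, 0, 0, 1, 0]]),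
  ([8, 10, 12, 14, 0, 2, 4, 6], 3, false, [[0, 1, 0, 1, 0, 2, 0, 1], [0, 1, 0, 2, 0, 2, 0, 2], [0, 0, 0, 1, 0, 0, 0, 0], [0, 0, 0, 0, 0, 0, 0, 1], [0, 0, 0, 0, 1, 1, 2, 1], [1, 1, 1, 2, 0, 0, 0, 0], [0, 0, 1, 1, 2, 1, 0, 0], [0, 0, 1, 2, 2, 2, 0, 0], [0, 0, 0, 1, 0, 0, 0, 0], [0, 0, 0, 0, 0, 1, 0, 0]]),
  ([9, 11, 13, 15, 0, 2, 4, 6], 5, true, [[0, 1, 2, 0, 0, 1, 1, 0], [0, 1, 2, 0, 0, 2, 2, 0], [0, 0, 0, 0, 0, 1, 0, 0], [0, 0, 0, 0, 0, 0, 1, 0], [0, 0, 1, 1, 2, 1, 0, 0], [0, 0, 1, 2, 2, 2, 0, 0], [0, 0, 0, 1, 0, 0, 0, 0], [0, 0, 0, 0, 0, 1, 0, 0]]),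
  ([0, 2, 6, 4, 8, 10, 14, 12], 1, false, [[1, 0, 2, 0, 0, 1, 0, 1], [1, 0, 2, 0, 0, 2, 0, 2], [0, 1, 0, 2, 0, 1, 0, 1], [0, 1, 0, 2, 0, 2, 0, 2], [0, 0, 0, 0, 1, 1, 2, 1], [0, 0, 0, 0, 1, 2, 2, 2], [0, 0, 0, 0, 0, 1, 0, 0], [0, 0, 0, 0, 0, 0, 0, 1], [0, 0, 1, 1, 0, 0, 1, 2]]),
  ([1, 2, 6, 4, 8, 10, 14, 12], 2, false, [[1, 0, 2, 0, 0, 1, 0, 1], [1, 0, 2, 0, 0, 2, 0, 2], [0, 1, 0, 2, 0, 1, 0, 1], [0, 1, 0, 2, 0, 2, 0, 2], [0, 0, 0, 0, 1, 1, 2, 1], [0, 0, 0, 0, 1, 2, 2, 2], [0, 0, 0, 0, 0, 1, 0, 0], [0, 0, 0, 0, 0, 0, 0, 1], [0, 0, 1, 1, 0, 0, 1, 2]]),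
  ([1, 3, 6, 4, 8, 10, 14, 12], 3, false, [[0, 0, 1, 1, 0, 0, 1, 2]]),
  ([1, 2, 6, 4, 9, 10, 14, 12], 4, false, [[0, 1, 0, 2, 0, 1, 0, 1], [0, 1, 0, 2, 0, 2, 0, 2], [0, 0, 0, 0, 0, 1, 0, 0], [0, 0, 0, 0, 0, 0, 0, 1], [0, 0, 1, 1, 0, 0, 1, 2]]),
  ([1, 3, 6, 4, 9, 10, 14, 12], 2, true, [[1, 2, 0, 0, 0, 0, 1, 1], [1, 2, 0, 0, 0, 0, 2, 2], [0, 0, 1, 2, 0, 0, 1, 1], [0, 0, 1, 2, 0, 0, 2, 2], [0, 0, 0, 0, 1, 2, 1, 1], [0, 0, 0, 0, 1, 2, 2, 2], [0, 0, 0, 0, 0, 0, 1, 0], [0, 0, 0, 0, 0, 0, 0, 1], [1, 0, 2, 0, 0, 1, 0, 1], [1, 0, 2, 0, 0, 2, 0, 2], [0, 1, 0, 2, 0, 1, 0, 1], [0, 1, 0, 2, 0, 2, 0, 2], [0, 0, 0, 0, 1, 1, 2, 1], [0, 0, 0, 0, 1, 2, 2, 2], [0, 0, 0, 0, 0, 1, 0, 0], [0, 0, 0, 0, 0, 0, 0, 1], [1, 0, 0, 1, 2, 0, 0, 1], [1, 0, 0, 2, 2, 0, 0, 2], [0, 1, 0, 1, 0, 2, 0, 1], [0, 1, 0,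 2, 0, 2, 0, 2], [0, 0, 1, 1, 0, 0, 2, 1], [0, 0, 1, 2, 0, 0, 2, 2], [0, 0, 0, 1, 0, 0, 0, 0], [0, 0, 0, 0, 0, 0, 0, 1], [0, 0, 1, 1, 0, 0, 1, 2]]),
  ([1, 3, 6, 4, 9, 11, 14, 12], 1, true, [[1, 0, 2, 0, 0, 1, 0, 1], [1, 0, 2, 0, 0, 2, 0, 2], [0, 1, 0, 2, 0, 1, 0, 1], [0, 1, 0, 2, 0, 2, 0, 2], [0, 0, 0, 0, 1, 1, 2, 1], [0, 0, 0, 0, 1, 2, 2, 2], [0, 0, 0, 0, 0, 1, 0, 0], [0, 0, 0, 0, 0, 0, 0, 1], [0, 0, 1, 2, 0, 0, 1, 1]]),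
  ([8, 10, 14, 12, 0, 2, 6, 4], 4, false, [[0, 0, 0, 0, 1, 1, 2, 1], [0, 0, 0, 0, 1, 2, 2, 2], [0, 0, 0, 0, 0, 1, 0, 0], [0, 0, 0, 0, 0, 0, 0, 1], [0, 1, 0, 1, 0, 2, 0, 1], [0, 1, 0, 2, 0, 2, 0, 2], [0, 0, 0, 1, 0, 0, 0, 0], [0, 0, 0, 0, 0, 0, 0, 1], [0, 0, 0, 0, 1, 1, 1, 2], [1, 1, 1, 2, 0, 0, 0, 0], [0, 0, 1, 1, 2, 1, 0, 0], [0, 0, 1, 2, 2, 2, 0, 0], [0, 0, 0, 1, 0, 0, 0, 0], [0, 0, 0, 0, 0, 1, 0, 0]]),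
  ([9, 11, 15, 13, 0, 2, 6, 4], 5, true, [[0, 0, 0, 0, 1, 2, 1, 1], [0, 0, 0, 0, 1, 2, 2, 2], [0, 0, 0, 0, 0, 0, 1, 0], [0, 0, 0, 0, 0, 0, 0, 1], [0, 1, 0, 1, 0, 2, 0, 1], [0, 1, 0, 2, 0, 2, 0, 2], [0, 0, 0, 1, 0, 0, 0, 0], [0, 0, 0, 0, 0, 0, 0, 1], [1, 2, 0, 0, 1, 2, 0, 0]]),
  ([0, 2, 4, 6, 10, 8, 14, 12], 1, false, [[1, 0, 0, 1, 2, 0, 0, 1], [1, 0, 0, 2, 2, 0, 0, 2], [0, 1, 0, 1, 0, 2, 0, 1], [0, 1, 0, 2, 0, 2, 0, 2], [0, 0, 1, 1, 0, 0, 2, 1], [0, 0, 1, 2, 0, 0, 2, 2], [0, 0, 0, 1, 0, 0, 0, 0], [0, 0, 0, 0, 0, 0, 0, 1], [0, 0, 0, 0, 1, 1, 1, 2]]),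
  ([1, 2, 4, 6, 10, 8, 14, 12], 2, false, [[1, 0, 2, 0, 0, 1, 0, 1], [1, 0, 2, 0, 0, 2, 0, 2], [0, 1, 0, 2, 0, 1, 0, 1], [0, 1, 0, 2, 0, 2, 0, 2], [0, 0, 0, 0, 1, 1, 2, 1], [0, 0, 0, 0, 1, 2, 2, 2], [0, 0, 0, 0, 0, 1, 0, 0], [0, 0, 0, 0, 0, 0, 0, 1], [0, 0, 1, 1, 0, 0, 2, 1], [0, 0, 1, 2, 0, 0, 2, 2], [0, 0, 0, 1, 0, 0, 0, 0], [0, 0, 0, 0, 0, 0, 0, 1], [0, 0, 0, 0, 1, 2, 1, 1]]),
  ([1, 3, 4, 6, 10, 8, 14, 12], 3, false, [[0, 0, 1, 1, 0, 0, 2, 1], [0, 0, 1, 2, 0, 0, 2, 2], [0, 0, 0, 1, 0, 0, 0, 0], [0, 0, 0, 0, 0, 0, 0, 1], [0, 0, 0, 0, 1, 2, 1, 1]]),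
  ([1, 2, 5, 6, 10, 8, 14, 12], 4, false, [[0, 1, 0, 1, 0, 2, 0, 1], [0, 1, 0, 2, 0, 2, 0, 2], [0, 0, 0, 1, 0, 0, 0, 0], [0, 0, 0, 0, 0, 0, 0, 1], [0, 0, 0, 0, 1, 1, 1, 2]]),
  ([1, 3, 5, 6, 10, 8, 14, 12], 2, true, [[1, 2, 0, 0, 0, 0, 1, 1], [1, 2, 0, 0, 0, 0, 2, 2], [0, 0, 1, 2, 0, 0, 1, 1], [0, 0, 1, 2, 0, 0, 2, 2], [0, 0, 0, 0, 1, 2, 1, 1], [0, 0, 0, 0, 1, 2, 2, 2], [0, 0, 0, 0, 0, 0, 1, 0], [0, 0, 0, 0, 0, 0, 0, 1], [1, 1, 0, 0, 0, 0, 1, 1], [1, 2, 0, 0, 1, 1, 0, 0]]),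
  ([1, 3, 5, 7, 10, 8, 14, 12], 1, true, [[1, 0, 0, 1, 2, 0, 0, 1], [1, 0, 0, 2, 2, 0, 0, 2], [0, 1, 0, 1, 0, 2, 0, 1], [0, 1, 0, 2, 0, 2, 0, 2], [0, 0, 1, 1, 0, 0, 2, 1], [0, 0, 1, 2, 0, 0, 2, 2], [0, 0, 0, 1, 0, 0, 0, 0], [0, 0, 0, 0, 0, 0, 0, 1], [0, 0, 0, 0, 1, 2, 1, 1]]),
  ([4, 6, 0, 2, 14, 12, 10, 8], 4, false, [[0, 0, 0, 0, 1, 1, 2, 1], [0, 0, 0, 0, 1, 2, 2, 2], [0, 0, 0, 0, 0, 1, 0, 0], [0, 0, 0, 0, 0, 0, 0, 1], [0, 1, 0, 1, 0, 2, 0, 1], [0, 1, 0, 2, 0, 2, 0, 2], [0, 0, 0, 1, 0, 0, 0, 0], [0, 0, 0, 0, 0, 0, 0, 1], [0, 0, 0, 0, 1, 1, 1, 2], [1, 1, 1, 2, 0, 0, 0, 0]]),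
  ([5, 7, 0, 2, 15, 13, 10, 8], 5, true, [[0, 1, 2, 0, 0, 1, 1, 0], [0, 1, 2, 0, 0, 2, 2, 0], [0, 0, 0, 0, 0, 1, 0, 0], [0, 0, 0, 0, 0, 0, 1, 0], [0, 0, 0, 0, 1, 2, 1, 2]]),
  ([0, 2, 4, 6, 12, 14, 8, 10], 1, false, [[1, 0, 0, 1, 2, 0, 0, 1], [1, 0, 0, 2, 2, 0, 0, 2], [0, 1, 0, 1, 0, 2, 0, 1], [0, 1, 0, 2, 0, 2, 0, 2], [0, 0, 1, 1, 0, 0, 2, 1], [0, 0, 1, 2, 0, 0, 2, 2], [0, 0, 0, 1, 0, 0, 0, 0], [0, 0, 0, 0, 0, 0, 0, 1], [0, 1, 2, 0, 0, 1, 1, 0], [0, 1, 2, 0, 0, 2, 2, 0], [0, 0, 0, 0, 0, 1, 0, 0], [0, 0, 0, 0, 0, 0, 1, 0], [0, 0, 0, 0, 1, 1, 1, 2]]),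
  ([1, 2, 4, 6, 12, 14, 8, 10], 2, false, [[1, 2, 0, 0, 0, 0, 1, 1], [1, 2, 0, 0, 0, 0, 2, 2], [0, 0, 1, 2, 0, 0, 1, 1], [0, 0, 1, 2, 0, 0, 2, 2], [0, 0, 0, 0, 1, 2, 1, 1], [0, 0, 0, 0, 1, 2, 2, 2], [0, 0, 0, 0, 0, 0, 1, 0], [0, 0, 0, 0, 0, 0, 0, 1], [0, 1, 0, 1, 0, 2, 0, 1], [0, 1, 0, 2, 0, 2, 0, 2], [0, 0, 0, 1, 0, 0, 0, 0], [0, 0, 0, 0, 0, 0, 0, 1], [0, 0, 0, 0, 1, 1, 2, 1]]),
  ([1, 3, 4, 6, 12, 14, 8, 10], 4, false, [[0, 0, 1, 1, 0, 0, 2, 1], [0, 0, 1, 2, 0, 0, 2, 2], [0, 0, 0, 1, 0, 0, 0, 0], [0, 0, 0, 0, 0, 0, 0, 1], [0, 0, 0, 0, 1, 1, 1, 2]]),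
  ([1, 2, 5, 6, 12, 14, 8, 10], 3, false, [[0, 1, 0, 1, 0, 2, 0, 1], [0, 1, 0, 2, 0, 2, 0, 2], [0, 0, 0, 1, 0, 0, 0, 0], [0, 0, 0, 0, 0, 0, 0, 1], [0, 0, 0, 0, 1, 1, 2, 1]]),
  ([0, 3, 5, 6, 12, 14, 8, 10], 4, true, [[0, 0, 1, 1, 0, 0, 2, 1], [0, 0, 1, 2, 0, 0, 2, 2], [0, 0, 0, 1, 0, 0, 0, 0], [0, 0, 0, 0, 0, 0, 0, 1], [0, 1, 0, 2, 0, 1, 0, 1], [0, 1, 0, 2, 0, 2, 0, 2], [0, 0, 0, 0, 0, 1, 0, 0], [0, 0, 0, 0, 0, 0, 0, 1], [0, 0, 0, 0, 1, 1, 2, 1]]),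
  ([1, 3, 5, 6, 12, 14, 8, 10], 2, true, [[1, 2, 0, 0, 0, 0, 1, 1], [1, 2, 0, 0, 0, 0, 2, 2], [0, 0, 1, 2, 0, 0, 1, 1], [0, 0, 1, 2, 0, 0, 2, 2], [0, 0, 0, 0, 1, 2, 1, 1], [0, 0, 0, 0, 1, 2, 2, 2], [0, 0, 0, 0, 0, 0, 1, 0], [0, 0, 0, 0, 0, 0, 0, 1], [1, 1, 0, 0, 0, 0, 1, 1], [1, 2, 0, 0, 1, 1, 0, 0], [0, 1, 2, 0, 0, 1, 1, 0], [0, 1, 2, 0, 0, 2, 2, 0], [0, 0, 0, 0, 0, 1, 0, 0], [0, 0, 0, 0, 0, 0, 1, 0]]),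
  ([1, 3, 5, 7, 12, 14, 8, 10], 1, true, [[1, 0, 0, 1, 2, 0, 0, 1], [1, 0, 0, 2, 2, 0, 0, 2], [0, 1, 0, 1, 0, 2, 0, 1], [0, 1, 0, 2, 0, 2, 0, 2], [0, 0, 1, 1, 0, 0, 2, 1], [0, 0, 1, 2, 0, 0, 2, 2], [0, 0, 0, 1, 0, 0, 0, 0], [0, 0, 0, 0, 0, 0, 0, 1], [0, 1, 2, 0, 0, 1, 1, 0], [0, 1, 2, 0, 0, 2, 2, 0], [0, 0, 0, 0, 0, 1, 0, 0], [0, 0, 0, 0, 0, 0, 1, 0], [0, 0, 0, 0, 1, 1, 2, 1]]),
  ([2, 0, 6, 4, 14, 12, 10, 8], 4, false, [[0, 0, 1, 2, 0, 0, 1, 1], [0, 0, 1, 2, 0, 0, 2, 2], [0, 0, 0, 0, 0, 0, 1, 0], [0, 0, 0, 0, 0, 0, 0, 1], [0, 0, 1, 1, 0, 0, 2, 1], [0, 0, 1, 2, 0, 0, 2, 2], [0, 0, 0, 1, 0, 0, 0, 0], [0, 0, 0, 0, 0, 0, 0, 1], [0, 0, 0, 0, 1, 1, 2, 1], [1, 1, 1, 2, 0, 0, 0, 0]]),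
  ([3, 0, 7, 4, 15, 13, 10, 8], 5, true, [[0, 0, 0, 0, 1, 0, 0, 0], [0, 0, 0, 0, 1, 1, 2, 1]])]

end CfsgLib.StdForm.OmegaEight
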