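import Mathlib.LinearAlgebra.Matrix.SchurComplement
import Cfsg.Agent.Lib.StdForm.OmegaEight.Basic

/-!
Invariants of the Weyl group of type E8 modulo three: orthogonality, the roots, reflections and
the subgroup of determinant one.
-/

set_option autoImplicit false

namespace CfsgLib.StdForm.OmegaEight

open CfsgLib.Schur.D4Two
open scoped Matrix

/-- The list of a generator in frame coordinates. -/
def genL (r : Fin 24) : List (List ℕ) := genMats.getD r.val []

theorem genL_eq : ∀ r : Fin 24, mulL basisInvL (mulL (matOf r) basisL) = genL r := by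
  decide +kernel

theorem toMat_genL (r : Fin 24) :
    toMat (genL r) = (genU r : Matrix (Fin 8) (Fin 8) (ZMod 3)) := by
  rw [← genL_eq, toMat_mulL, toMat_mulL, genU, Units.val_mul, Units.val_mul, mul_assoc]
  rfl

theorem genFactors_roots : ∀ r : Fin 24, ∀ a ∈ genFactors.getD r.val [], a ∈ rootL := by
  decide +kernel

theorem genFactors_eq : ∀ r : Fin 24,
    genL r = prodL (genFactors.getD r.val []) ∧ (genFactors.getD r.val []).length % 2 = 0 := by
  decide +kernel

theorem genU_eq (r : Fin 24) : genU r = prodRefl (genFactors.getD r.val []) :=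
  Units.ext (by rw [← toMat_genL, (genFactors_eq r).1, toMat_prodL _ (genFactors_roots r)])

theorem rootSet_mem {v : Vec} (hv : v ∈ rootSet) : ∃ l ∈ rootL, vec l = v := by
  simpa [rootSet] using hv

theorem mem_rootSet {l : List ℕ} (hl : l ∈ rootL) : vec l ∈ rootSet := by
  simp only [rootSet, List.mem_toFinset, List.mem_map]
  exact ⟨l, hl, rfl⟩

theorem dot_self {v : Vec} (hv : v ∈ rootSet) : v ⬝ᵥ v = 1 := by
  obtain ⟨l, hl, rfl⟩ := rootSet_mem hv
  exact dot_self_of_mem hl

theorem refl_mul_self (a : Vec) : refl a * refl a = 1 := by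
  rw [refl, invUnit]
  split
  · rename_i h; exact Units.ext h
  · exact one_mul 1

theorem dg_zero : dg {0} = refl (ee 0) := by
  refine Units.ext ?_
  rw [refl_val (by decide +kernel), ← toMat_dgL]
  decide +kernel

/-- The image of a list vector under a matrix given by lists. -/
def mulV (A : List (List ℕ)) (v : List ℕ) : List ℕ :=
  List.ofFn fun i : Fin 8 =>
    ((List.ofFn fun k : Fin 8 => getE A i k * v.getD k.val 0).sum) % 3

theorem toMat_mulV (A : List (List ℕ)) (v : List ℕ) : toMat A *ᵥ vec v = vec (mulV A v) := by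
  funext i
  have e : (mulV A v).getD i.val 0 =
      ((List.ofFn fun k : Fin 8 => getE A i k * v.getD k.val 0).sum) % 3 := by
    rw [mulV, List.getD_eq_getElem _ _ (by rw [List.length_ofFn]; exact i.2), List.getElem_ofFn]
  simp only [Matrix.mulVec, dotProduct, toMat, vec, e, ZMod.natCast_mod, List.sum_ofFn, Nat.cast_sum,
    Nat.cast_mul]

theorem gen_img : (∀ r : Fin 24, rootL.map (mulV (genL r)) =
      (rootImgs.getD r.val []).map fun i => rootL.getD i []) ∧
    rootL.map (mulV (dgL {0})) = (rootImgs.getD 24 []).map fun i => rootL.getD i [] := by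
  decide +kernel

theorem imgs_lt : ∀ r ∈ rootImgs, ∀ i ∈ r, i < 240 := by decide +kernel

theorem mem_of_img {f : List ℕ → List ℕ} {n : ℕ}
    (h : rootL.map f = (rootImgs.getD n []).map fun i => rootL.getD i []) {l : List ℕ}
    (hl : l ∈ rootL) : f l ∈ rootL := by
  have h' := List.mem_map_of_mem (f := f) hl
  rw [h] at h'
  obtain ⟨i, hi, e⟩ := List.mem_map.1 h'
  rw [← e]
  have hlen : rootL.length = 240 := by decide +kernel
  have hr : rootImgs.getD n [] ∈ rootImgs := by
    rcases Nat.lt_or_ge n rootImgs.length with hn | hn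
    · rw [List.getD_eq_getElem _ _ hn]; exact List.getElem_mem hn
    · rw [List.getD_eq_default _ _ hn] at hi; cases hi
  have hi' : i < rootL.length := hlen ▸ imgs_lt _ hr i hi
  rw [List.getD_eq_getElem _ _ hi']
  exact List.getElem_mem hi'

theorem gen_orth : (∀ r : Fin 24, mulL (List.ofFn fun i : Fin 8 => List.ofFn fun j : Fin 8 =>
    getE (genL r) j i) (genL r) = oneL) := by
  decide +kernel

theorem map_root_gen {M : GL8} (hM : M ∈ insert (dg {0}) (Set.range genU)) {v : Vec}
    (hv : v ∈ rootSet) : (M : Matrix (Fin 8) (Fin 8) (ZMod 3)) *ᵥ v ∈ rootSet := by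
  obtain ⟨l, hl, rfl⟩ := rootSet_mem hv
  obtain rfl | ⟨r, rfl⟩ := hM
  · rw [← toMat_dgL, toMat_mulV]
    exact mem_rootSet (mem_of_img gen_img.2 hl)
  · rw [← toMat_genL, toMat_mulV]
    exact mem_rootSet (mem_of_img (gen_img.1 r) hl)

theorem orth_gen {M : GL8} (hM : M ∈ insert (dg {0}) (Set.range genU)) :
    (M : Matrix (Fin 8) (Fin 8) (ZMod 3))ᵀ * (M : Matrix (Fin 8) (Fin 8) (ZMod 3)) = 1 := by
  obtain rfl | ⟨r, rfl⟩ := hM
  · rw [dg_zero, refl_val (by decide +kernel)]
    have e : (reflM (ee 0))ᵀ = reflM (ee 0) := by decide +kernel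
    rw [e]
    have h := congrArg (fun u : GL8 => (u : Matrix (Fin 8) (Fin 8) (ZMod 3)))
      (refl_mul_self (ee 0))
    simpa [refl_val (show (ee 0) ⬝ᵥ (ee 0) = 1 by decide +kernel)] using h
  · rw [← toMat_genL, ← toMat_oneL, ← gen_orth r, toMat_mulL]
    congr 1
    ext i j
    simp only [toMat, getE_ofFn, Matrix.transpose_apply]

/-- A finite set of vectors preserved by the generators of `W` is preserved by `W`. -/
theorem W_induction {p : GL8 → Prop} (one : p 1) (gen : ∀ M ∈ insert (dg {0}) (Set.range genU), p M)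
    (mul : ∀ M N, p M → p N → p (M * N)) {M : GL8} (hM : M ∈ W) : p M := by
  have h : M ∈ Submonoid.closure (insert (dg {0}) (Set.range genU)) := by
    have h := hM
    rw [W, ← Subgroup.mem_toSubmonoid, Subgroup.closure_toSubmonoid_of_finite] at h
    exact h
  clear hM
  induction h using Submonoid.closure_induction with
  | mem x hx => exact gen x hx
  | one => exact one
  | mul x y _ _ h1 h2 => exact mul x y h1 h2

theorem map_root {M : GL8} (hM : M ∈ W) {v : Vec} (hv : v ∈ rootSet) :
    (M : Matrix (Fin 8) (Fin 8) (ZMod 3)) *ᵥ v ∈ rootSet := by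
  refine W_induction (p := fun M => ∀ v ∈ rootSet, (M : Matrix (Fin 8) (Fin 8) (ZMod 3)) *ᵥ v ∈ rootSet)
    ?_ (fun M hM v hv => map_root_gen hM hv) ?_ hM v hv
  · intro v hv; simpa using hv
  · intro M N h1 h2 v hv
    rw [Units.val_mul, ← Matrix.mulVec_mulVec]
    exact h1 _ (h2 v hv)

theorem orth {M : GL8} (hM : M ∈ W) :
    (M : Matrix (Fin 8) (Fin 8) (ZMod 3))ᵀ * (M : Matrix (Fin 8) (Fin 8) (ZMod 3)) = 1 := by
  refine W_induction (p := fun M => (M : Matrix (Fin 8) (Fin 8) (ZMod 3))ᵀ *
    (M : Matrix (Fin 8) (Fin 8) (ZMod 3)) = 1) (by simp) (fun M hM => orth_gen hM) ?_ hM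
  intro M N h1 h2
  rw [Units.val_mul, Matrix.transpose_mul, Matrix.mul_assoc, ← Matrix.mul_assoc
    (M : Matrix (Fin 8) (Fin 8) (ZMod 3))ᵀ, h1, Matrix.one_mul, h2]

theorem W1_le_W : W1 ≤ W := Subgroup.closure_mono (Set.subset_insert _ _)

theorem dg_zero_mem : dg {0} ∈ W := Subgroup.subset_closure (Set.mem_insert _ _)

theorem refl_conj {M : GL8} (hM : M ∈ W) {a : Vec} (ha : a ∈ rootSet) :
    M * refl a * M⁻¹ = refl ((M : Matrix (Fin 8) (Fin 8) (ZMod 3)) *ᵥ a) := by
  rw [mul_inv_eq_iff_eq_mul]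
  refine Units.ext ?_
  simp only [Units.val_mul]
  rw [refl_val (dot_self ha), refl_val (dot_self (map_root hM ha)), reflM, reflM, mul_add, mul_one,
    add_mul, one_mul, Matrix.mul_vecMulVec, Matrix.vecMulVec_mul]
  congr 2
  funext j
  have h := orth hM
  have : ((M : Matrix (Fin 8) (Fin 8) (ZMod 3))ᵀ * (M : Matrix (Fin 8) (Fin 8) (ZMod 3))) *ᵥ a = a := by
    rw [h, Matrix.one_mulVec]
  rw [← Matrix.mulVec_mulVec, Matrix.mulVec_transpose] at this
  exact (congrFun this j).symm

theorem normWords_eq : ∀ r : Fin 24, mulL (dgL {0}) (mulL (genL r) (dgL {0})) =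
    (normWords.getD r.val []).foldr (fun i M => mulL (genL i) M) oneL := by
  decide +kernel

theorem dg_conj_gen (r : Fin 24) : dg {0} * genU r * dg {0} ∈ W1 := by
  have key : ∀ w : List (Fin 24), toMat (w.foldr (fun i M => mulL (genL i) M) oneL) =
      ((w.map genU).prod : GL8) := by
    intro w
    induction w with
    | nil => simp [toMat_oneL]
    | cons i w ih => simp [toMat_mulL, toMat_genL, ih]
  have e : dg {0} * genU r * dg {0} = ((normWords.getD r.val []).map genU).prod := by
    refine Units.ext ?_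
    rw [← key, ← normWords_eq r, toMat_mulL, toMat_mulL, toMat_genL, toMat_dgL, Units.val_mul,
      Units.val_mul, mul_assoc]
  rw [e]
  refine list_prod_mem fun x hx => ?_
  obtain ⟨i, -, rfl⟩ := List.mem_map.1 hx
  exact Subgroup.subset_closure ⟨i, rfl⟩

theorem dg_zero_sq : dg {0} * dg {0} = 1 := by rw [dg_zero, refl_mul_self]

/-- The involution `dg {0}` normalizes `W1`. -/
theorem dg_conj {M : GL8} (hM : M ∈ W1) : dg {0} * M * dg {0} ∈ W1 := by
  induction hM using Subgroup.closure_induction with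
  | mem x hx => obtain ⟨r, rfl⟩ := hx; exact dg_conj_gen r
  | one => rw [mul_one, dg_zero_sq]; exact one_mem _
  | mul x y _ _ h1 h2 =>
    have := mul_mem h1 h2
    rwa [show dg {0} * x * dg {0} * (dg {0} * y * dg {0}) = dg {0} * x * (dg {0} * dg {0}) * y * dg {0}
      by group, dg_zero_sq, mul_one, mul_assoc (dg {0}) x y] at this
  | inv x _ h1 =>
    have := inv_mem h1
    rwa [mul_inv_rev, mul_inv_rev, inv_eq_of_mul_eq_one_left dg_zero_sq, ← mul_assoc] at this

theorem mem_W {M : GL8} (hM : M ∈ W) : M ∈ W1 ∨ M * dg {0} ∈ W1 := by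
  refine W_induction (p := fun M => M ∈ W1 ∨ M * dg {0} ∈ W1) (Or.inl (one_mem _)) ?_ ?_ hM
  · rintro M (rfl | hM)
    · exact Or.inr (by rw [dg_zero_sq]; exact one_mem _)
    · exact Or.inl (Subgroup.subset_closure hM)
  · rintro M N (h1 | h1) (h2 | h2)
    · exact Or.inl (mul_mem h1 h2)
    · exact Or.inr (by rw [mul_assoc]; exact mul_mem h1 h2)
    · refine Or.inr ?_
      have := mul_mem h1 (dg_conj h2)
      rwa [show M * dg {0} * (dg {0} * N * dg {0}) = M * (dg {0} * dg {0}) * N * dg {0} by group,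
        dg_zero_sq, mul_one] at this
    · refine Or.inl ?_
      have := mul_mem h1 (dg_conj h2)
      rwa [show M * dg {0} * (dg {0} * (N * dg {0}) * dg {0}) =
        M * (dg {0} * dg {0}) * N * (dg {0} * dg {0}) by group, dg_zero_sq, mul_one, mul_one] at this

theorem det_refl {a : Vec} (ha : a ⬝ᵥ a = 1) :
    (refl a : Matrix (Fin 8) (Fin 8) (ZMod 3)).det = -1 := by
  rw [refl_val ha, reflM, Matrix.vecMulVec_eq Unit, Matrix.det_one_add_replicateCol_mul_replicateRow, ha]
  decide

theorem det_prodRefl : ∀ w : List (List ℕ), (∀ a ∈ w, a ∈ rootL) →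
    (prodRefl w : Matrix (Fin 8) (Fin 8) (ZMod 3)).det = (-1) ^ w.length
  | [], _ => by simp [prodRefl]
  | a :: w, h => by
    have e2 : prodRefl (a :: w) = refl (vec a) * prodRefl w := by simp [prodRefl]
    rw [e2, Units.val_mul, Matrix.det_mul, det_refl (dot_self_of_mem (h a List.mem_cons_self)),
      det_prodRefl w fun b hb => h b (List.mem_cons_of_mem _ hb), List.length_cons, pow_succ']

theorem det_W1 {M : GL8} (hM : M ∈ W1) : (M : Matrix (Fin 8) (Fin 8) (ZMod 3)).det = 1 := by
  induction hM using Subgroup.closure_induction with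
  | mem x hx =>
    obtain ⟨r, rfl⟩ := hx
    rw [genU_eq, det_prodRefl _ (genFactors_roots r)]
    exact (neg_one_pow_eq_one_iff_even (by decide)).2 (Nat.even_iff.2 (genFactors_eq r).2)
  | one => simp
  | mul x y _ _ h1 h2 => simp [h1, h2]
  | inv x _ h1 =>
    have := congrArg Matrix.det (Units.mul_inv x)
    rwa [Matrix.det_mul, h1, one_mul, Matrix.det_one] at this

theorem det_dg_zero : (dg {0} : Matrix (Fin 8) (Fin 8) (ZMod 3)).det = -1 := by
  rw [dg_zero, det_refl (by decide +kernel)]

/-- The double cover is the part of determinant one. -/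
theorem mem_W1_iff {M : GL8} (hM : M ∈ W) :
    M ∈ W1 ↔ (M : Matrix (Fin 8) (Fin 8) (ZMod 3)).det = 1 := by
  refine ⟨det_W1, fun h => (mem_W hM).resolve_right fun h' => ?_⟩
  have := det_W1 h'
  rw [Units.val_mul, Matrix.det_mul, h, det_dg_zero] at this
  exact absurd this (by decide)

theorem tree_eq : ∀ k : Fin 239, (treeL.getD k.val (0, 0)).1 ≤ k.val ∧
    rootL.getD (k.val + 1) [] = mulV (genL (treeL.getD k.val (0, 0)).2)
      (rootL.getD (treeL.getD k.val (0, 0)).1 []) := by
  decide +kernel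

theorem tree_head : rootL.length = 240 ∧ rootL.getD 0 [] = [1, 0, 0, 0, 0, 0, 0, 0] := by
  decide +kernel

/-- The roots form one orbit. -/
theorem exists_map {v : Vec} (hv : v ∈ rootSet) :
    ∃ M ∈ W1, (M : Matrix (Fin 8) (Fin 8) (ZMod 3)) *ᵥ ee 0 = v := by
  obtain ⟨l, hl, rfl⟩ := rootSet_mem hv
  obtain ⟨k, hk, rfl⟩ := List.getElem_of_mem hl
  clear hv hl
  induction k using Nat.strong_induction_on with
  | _ k ih =>
    rw [tree_head.1] at hk
    rcases k with _ | k
    · refine ⟨1, one_mem _, ?_⟩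
      rw [Units.val_one, Matrix.one_mulVec, ← List.getD_eq_getElem rootL [], tree_head.2]
      decide +kernel
    · obtain ⟨h1, h2⟩ := tree_eq ⟨k, by omega⟩
      simp only at h1 h2
      set i := (treeL.getD k (0, 0)).1
      have hi : i < rootL.length := by rw [tree_head.1]; omega
      obtain ⟨M, hM, e⟩ := ih i (by omega) hi
      refine ⟨genU (treeL.getD k (0, 0)).2 * M, mul_mem (Subgroup.subset_closure ⟨_, rfl⟩) hM, ?_⟩
      rw [← List.getD_eq_getElem rootL [], h2, ← toMat_mulV, toMat_genL, Units.val_mul,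
        ← Matrix.mulVec_mulVec, e, ← List.getD_eq_getElem rootL []]

theorem ee_zero_mem : ee 0 ∈ rootSet := by decide +kernel

theorem refl_mem {v : Vec} (hv : v ∈ rootSet) : refl v ∈ W := by
  obtain ⟨M, hM, rfl⟩ := exists_map hv
  rw [← refl_conj (W1_le_W hM) ee_zero_mem, ← dg_zero]
  exact mul_mem (mul_mem (W1_le_W hM) dg_zero_mem) (inv_mem (W1_le_W hM))

theorem prodRefl_mem {w : List (List ℕ)} (h : ∀ a ∈ w, a ∈ rootL) : prodRefl w ∈ W := by
  refine list_prod_mem fun x hx => ?_
  obtain ⟨a, ha, rfl⟩ := List.mem_map.1 hx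
  exact refl_mem (mem_rootSet (h a ha))

theorem prodRefl_mem_W1 {w : List (List ℕ)} (h : ∀ a ∈ w, a ∈ rootL) (hev : Even w.length) :
    prodRefl w ∈ W1 := by
  rw [mem_W1_iff (prodRefl_mem h), det_prodRefl w h, hev.neg_one_pow]

end CfsgLib.StdForm.OmegaEight
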