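import Cfsg.Agent.Lib.StdForm.OmegaEight.Basic
import Mathlib.GroupTheory.Commutator.Basic

/-!
Checking equations between products of reflections on lists.
-/

set_option autoImplicit false

namespace CfsgLib.StdForm.OmegaEight

open CfsgLib.Schur.D4Two
open scoped Matrix commutatorElement

theorem prodRefl_nil : prodRefl [] = 1 := rfl

theorem prodRefl_cons (a : List ℕ) (w : List (List ℕ)) : prodRefl (a :: w) = refl (vec a) * prodRefl w := by
  simp [prodRefl]

theorem prodRefl_append (u v : List (List ℕ)) : prodRefl (u ++ v) = prodRefl u * prodRefl v := by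
  simp [prodRefl]

theorem refl_mul_refl (a : Vec) : refl a * refl a = 1 := by
  unfold refl invUnit
  split
  · next h => exact Units.ext h
  · exact one_mul 1

theorem prodRefl_reverse : ∀ w : List (List ℕ), prodRefl w.reverse = (prodRefl w)⁻¹
  | [] => by simp [prodRefl]
  | a :: w => by
    rw [List.reverse_cons, prodRefl_append, prodRefl_reverse w, prodRefl_cons a w, prodRefl_cons a [],
      prodRefl_nil, mul_one, mul_inv_rev, inv_eq_of_mul_eq_one_right (refl_mul_refl (vec a))]

/-- One reflection on a vector given by a list. -/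
def reflV (a v : List ℕ) : List ℕ :=
  let d := (List.ofFn fun k : Fin 8 => a.getD k.val 0 * v.getD k.val 0).sum % 3
  List.ofFn fun i : Fin 8 => (v.getD i.val 0 + a.getD i.val 0 * d) % 3

/-- A word of reflections on a vector given by a list. -/
def imgV (w : List (List ℕ)) (v : List ℕ) : List ℕ := w.foldr reflV v

theorem reflM_mulVec (a x : Vec) : reflM a *ᵥ x = x + (a ⬝ᵥ x) • a := by
  rw [reflM, Matrix.add_mulVec, Matrix.one_mulVec, Matrix.vecMulVec_mulVec]
  congr 1
  ext i
  simp [mul_comm]

theorem vec_reflV (a v : List ℕ) : vec (reflV a v) = reflM (vec a) *ᵥ vec v := by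
  have hd : (((List.ofFn fun k : Fin 8 => a.getD k.val 0 * v.getD k.val 0).sum % 3 : ℕ) : ZMod 3) =
      vec a ⬝ᵥ vec v := by
    rw [ZMod.natCast_mod, List.sum_ofFn, Nat.cast_sum]
    exact Finset.sum_congr rfl fun k _ => Nat.cast_mul _ _
  rw [reflM_mulVec]
  funext i
  show (((List.ofFn fun i : Fin 8 => (v.getD i.val 0 + a.getD i.val 0 *
    ((List.ofFn fun k : Fin 8 => a.getD k.val 0 * v.getD k.val 0).sum % 3)) % 3).getD i.val 0 : ℕ) : ZMod 3) =
      vec v i + (vec a ⬝ᵥ vec v) * vec a i
  have hi : i.val < (List.ofFn fun i : Fin 8 => (v.getD i.val 0 + a.getD i.val 0 *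
    ((List.ofFn fun k : Fin 8 => a.getD k.val 0 * v.getD k.val 0).sum % 3)) % 3).length := by
    rw [List.length_ofFn]; exact i.isLt
  rw [List.getD_eq_getElem _ _ hi, List.getElem_ofFn, ZMod.natCast_mod, Nat.cast_add, Nat.cast_mul, hd,
    mul_comm]
  rfl

theorem prodRefl_imgV : ∀ (w : List (List ℕ)), (∀ a ∈ w, a ∈ rootL) → ∀ v,
    (prodRefl w : Matrix (Fin 8) (Fin 8) (ZMod 3)) *ᵥ vec v = vec (imgV w v)
  | [], _, v => by rw [prodRefl_nil, Units.val_one, Matrix.one_mulVec]; rfl
  | a :: w, h, v => by
    rw [prodRefl_cons, Units.val_mul, ← Matrix.mulVec_mulVec,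
      prodRefl_imgV w (fun b hb => h b (List.mem_cons_of_mem _ hb)) v,
      refl_val (dot_self_of_mem (h a List.mem_cons_self)), ← vec_reflV]
    rfl

/-- The list of a coordinate vector. -/
def eL (i : ℕ) : List ℕ := (List.range 8).map fun j => if j = i then 1 else 0

theorem vec_eL : ∀ i : Fin 8, vec (eL i.val) = ee i := by decide +kernel

theorem prodRefl_col {w : List (List ℕ)} (h : ∀ a ∈ w, a ∈ rootL) (i j : Fin 8) :
    (prodRefl w : Matrix (Fin 8) (Fin 8) (ZMod 3)) i j = vec (imgV w (eL j.val)) i := by
  rw [← prodRefl_imgV w h, vec_eL, Matrix.mulVec_single_one]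
  rfl

/-- All letters are roots. -/
def rootsOK (u : List (List ℕ)) : Bool := u.all fun a => decide (a ∈ rootL)

theorem mem_of_rootsOK {u : List (List ℕ)} (h : rootsOK u = true) : ∀ a ∈ u, a ∈ rootL := fun a ha =>
  of_decide_eq_true (List.all_eq_true.1 h a ha)

/-- Two words of roots with the same images of the coordinate vectors. -/
def sameW (u v : List (List ℕ)) : Bool :=
  rootsOK u && rootsOK v && (List.range 8).all fun j => decide (imgV u (eL j) = imgV v (eL j))

theorem prodRefl_eq_of_sameW {u v : List (List ℕ)} (h : sameW u v = true) : prodRefl u = prodRefl v := by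
  simp only [sameW, Bool.and_eq_true] at h
  refine Units.ext (Matrix.ext fun i j => ?_)
  rw [prodRefl_col (mem_of_rootsOK h.1.1), prodRefl_col (mem_of_rootsOK h.1.2),
    of_decide_eq_true (List.all_eq_true.1 h.2 j.val (List.mem_range.2 j.isLt))]

theorem prodRefl_ne {u v : List (List ℕ)} (i j : Fin 8)
    (h : (rootsOK u && rootsOK v &&
      decide ((imgV u (eL j.val)).getD i.val 0 % 3 ≠ (imgV v (eL j.val)).getD i.val 0 % 3)) = true) :
    prodRefl u ≠ prodRefl v := by
  simp only [Bool.and_eq_true, decide_eq_true_eq] at h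
  intro e
  have e' := congrArg (fun g : GL8 => (g : Matrix (Fin 8) (Fin 8) (ZMod 3)) i j) e
  rw [prodRefl_col (mem_of_rootsOK h.1.1), prodRefl_col (mem_of_rootsOK h.1.2)] at e'
  exact h.2 ((ZMod.natCast_eq_natCast_iff' _ _ _).1 e')

/-- A word that is a sign matrix. -/
def isDg (u : List (List ℕ)) (S : Finset (Fin 8)) : Bool :=
  rootsOK u && decide (∀ j : Fin 8, imgV u (eL j.val) =
    List.ofFn fun i : Fin 8 => if i = j then (if j ∈ S then 2 else 1) else 0)

theorem prodRefl_eq_dg {u : List (List ℕ)} {S : Finset (Fin 8)} (h : isDg u S = true) : prodRefl u = dg S := by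
  simp only [isDg, Bool.and_eq_true, decide_eq_true_eq] at h
  refine Units.ext (Matrix.ext fun i j => ?_)
  rw [prodRefl_col (mem_of_rootsOK h.1), h.2 j]
  simp only [vec, dg, Matrix.diagonal_apply]
  rw [List.getD_eq_getElem _ _ (by simp [i.isLt]), List.getElem_ofFn]
  by_cases hij : i = j
  · subst hij
    simp only [Fin.eta, if_true]
    split <;> decide
  · simp [Fin.eta, hij]

theorem neg_dg (S : Finset (Fin 8)) : -dg S = dg Sᶜ := by
  refine Units.ext ?_
  rw [Units.val_neg]
  simp only [dg]
  ext i j
  rw [Matrix.neg_apply, Matrix.diagonal_apply, Matrix.diagonal_apply]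
  by_cases hij : i = j
  · simp only [if_pos hij, Finset.mem_compl]
    split <;> simp
  · simp [if_neg hij]

theorem neg_one_eq_dg : (-1 : GL8) = dg Finset.univ := by
  refine Units.ext ?_
  rw [Units.val_neg, Units.val_one]
  simp only [dg]
  ext i j
  rw [Matrix.neg_apply, Matrix.diagonal_apply, Matrix.one_apply]
  by_cases hij : i = j
  · simp [if_pos hij]
  · simp [if_neg hij]

/-- A word sending a coordinate vector to another. -/
def fixesC (u : List (List ℕ)) (i k : Fin 8) : Bool := rootsOK u && decide (imgV u (eL i.val) = eL k.val)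

theorem prodRefl_mulVec {u : List (List ℕ)} {i k : Fin 8} (h : fixesC u i k = true) :
    (prodRefl u : Matrix (Fin 8) (Fin 8) (ZMod 3)) *ᵥ ee i = ee k := by
  simp only [fixesC, Bool.and_eq_true, decide_eq_true_eq] at h
  rw [← vec_eL i, prodRefl_imgV u (mem_of_rootsOK h.1), h.2, vec_eL k]

/-- The word of a sequence of generators. -/
def wordOf (gs : List (List (List ℕ))) (ix : List ℕ) : List (List ℕ) := ix.flatMap fun i => gs.getD i []

/-- The group generated by words. -/
def genGroup (gs : List (List (List ℕ))) : Subgroup GL8 :=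
  Subgroup.closure {M | ∃ g ∈ gs, prodRefl g = M}

theorem wordOf_mem (gs : List (List (List ℕ))) : ∀ ix : List ℕ, prodRefl (wordOf gs ix) ∈ genGroup gs
  | [] => one_mem _
  | i :: ix => by
    rw [wordOf, List.flatMap_cons, prodRefl_append]
    refine mul_mem ?_ (wordOf_mem gs ix)
    by_cases hi : i < gs.length
    · rw [List.getD_eq_getElem _ _ hi]
      exact Subgroup.subset_closure ⟨_, List.getElem_mem hi, rfl⟩
    · rw [List.getD_eq_default _ _ (Nat.le_of_not_lt hi), prodRefl_nil]
      exact one_mem _

/-- The check that generators are involutions and commutators. -/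
def perfCheck (gs : List (List (List ℕ))) (cs : List (List ℕ × List ℕ)) : Bool :=
  decide (cs.length = gs.length) && (List.range gs.length).all fun i =>
    sameW (gs.getD i [] ++ gs.getD i []) [] &&
    sameW (gs.getD i [])
      (wordOf gs (cs.getD i ([], [])).1 ++ wordOf gs (cs.getD i ([], [])).2 ++
        (wordOf gs (cs.getD i ([], [])).1).reverse ++ (wordOf gs (cs.getD i ([], [])).2).reverse)

theorem perfectInv_of_check {gs : List (List (List ℕ))} {cs : List (List ℕ × List ℕ)}
    (h : perfCheck gs cs = true) : PerfectInv (genGroup gs) := by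
  simp only [perfCheck, Bool.and_eq_true, List.all_eq_true, decide_eq_true_eq, List.mem_range] at h
  refine ⟨le_antisymm ?_ ?_, le_antisymm ?_ ?_⟩
  · rw [Subgroup.commutator_le]
    intro a ha b hb
    rw [commutatorElement_def]
    exact mul_mem (mul_mem (mul_mem ha hb) (inv_mem ha)) (inv_mem hb)
  · refine (Subgroup.closure_le _).2 ?_
    rintro _ ⟨g, hg, rfl⟩
    obtain ⟨i, hi, rfl⟩ := List.mem_iff_getElem.1 hg
    have e := prodRefl_eq_of_sameW (h.2 i hi).2
    rw [List.getD_eq_getElem _ _ hi] at e
    rw [e]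
    simp only [prodRefl_append, prodRefl_reverse]
    exact Subgroup.commutator_mem_commutator (wordOf_mem gs _) (wordOf_mem gs _)
  · exact (Subgroup.closure_le _).2 fun x hx => hx.1
  · refine (Subgroup.closure_le _).2 ?_
    rintro _ ⟨g, hg, rfl⟩
    obtain ⟨i, hi, rfl⟩ := List.mem_iff_getElem.1 hg
    refine Subgroup.subset_closure ⟨Subgroup.subset_closure ⟨_, hg, rfl⟩, ?_⟩
    have e := prodRefl_eq_of_sameW (h.2 i hi).1
    rw [List.getD_eq_getElem _ _ hi, prodRefl_append, prodRefl_nil] at e
    exact e

/-- Elements fixing a coordinate vector. -/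
theorem genGroup_fix {gs : List (List (List ℕ))} {i : Fin 8} (h : (gs.all fun g => fixesC g i i) = true) :
    ∀ M ∈ genGroup gs, (M : Matrix (Fin 8) (Fin 8) (ZMod 3)) *ᵥ ee i = ee i := by
  simp only [List.all_eq_true] at h
  intro M hM
  induction hM using Subgroup.closure_induction with
  | mem x hx => obtain ⟨g, hg, rfl⟩ := hx; exact prodRefl_mulVec (h g hg)
  | one => exact Matrix.one_mulVec _
  | mul a b _ _ ha hb => rw [Units.val_mul, ← Matrix.mulVec_mulVec, hb, ha]
  | inv a _ ha =>
    conv_lhs => rw [← ha]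
    rw [Matrix.mulVec_mulVec, ← Units.val_mul, inv_mul_cancel, Units.val_one, Matrix.one_mulVec]

theorem genGroup_commute {gs : List (List (List ℕ))} {u : List (List ℕ)}
    (h : (gs.all fun g => sameW (g ++ u) (u ++ g)) = true) : ∀ M ∈ genGroup gs, Commute M (prodRefl u) := by
  simp only [List.all_eq_true] at h
  intro M hM
  induction hM using Subgroup.closure_induction with
  | mem x hx =>
    obtain ⟨g, hg, rfl⟩ := hx
    have e := prodRefl_eq_of_sameW (h g hg)
    rwa [prodRefl_append, prodRefl_append] at e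
  | one => exact Commute.one_left _
  | mul a b _ _ ha hb => exact ha.mul_left hb
  | inv a _ ha => exact ha.inv_left

theorem conj_eq_of_sameW {c x y : List (List ℕ)} (h : sameW (c ++ x ++ c.reverse) y = true) :
    prodRefl c * prodRefl x * (prodRefl c)⁻¹ = prodRefl y := by
  rw [← prodRefl_reverse, ← prodRefl_append, ← prodRefl_append]
  exact prodRefl_eq_of_sameW h

end CfsgLib.StdForm.OmegaEight
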