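import Mathlib.GroupTheory.Sylow
import Cfsg.Agent.Lib.StdForm.OmegaEight.Core
import Cfsg.Agent.Lib.StdForm.OmegaEight.WitnessTools
import Cfsg.Agent.Lib.StdForm.OmegaEight.ClassifyData

/-!
The classes of the elements with square a sign in the Weyl group of type E8 modulo three.
Such an element is conjugate into the monomial Sylow subgroup of order `2 ^ 14`; there each one is
moved by certificates to a representative, up to sign.
-/

set_option autoImplicit false

namespace CfsgLib.StdForm.OmegaEight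

open CfsgLib.Schur.D4Two
open scoped Matrix Pointwise

/-- The permutation of an index. -/
def pK (k j : ℕ) : ℕ :=
  k % 8 ^^^ j % 2 ^^^ (if j / 2 % 2 = 1 then 2 ||| k / 8 % 2 else 0) ^^^
    (if j / 4 % 2 = 1 then 4 ||| k / 16 % 2 ||| k / 32 % 2 * 2 else 0)

/-- The permutation of an index as a function. -/
def pF (k : ℕ) (j : Fin 8) : Fin 8 := ⟨pK k j % 8, Nat.mod_lt _ (by norm_num)⟩

/-- A monomial matrix. -/
def monM (p : Fin 8 → Fin 8) (s : Fin 8 → Bool) : Matrix (Fin 8) (Fin 8) (ZMod 3) :=
  fun i j => if i = p j then (if s j then -1 else 1) else 0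

theorem monM_mul (p q : Fin 8 → Fin 8) (s t : Fin 8 → Bool) :
    monM p s * monM q t = monM (p ∘ q) (fun j => Bool.xor (s (q j)) (t j)) := by
  ext i j
  rw [Matrix.mul_apply, Finset.sum_eq_single (q j) (fun k _ hk => by simp [monM, hk])
    (fun h => absurd (Finset.mem_univ _) h)]
  simp only [monM, Function.comp_apply, if_true]
  rcases Bool.eq_false_or_eq_true (s (q j)) with a | a <;>
    rcases Bool.eq_false_or_eq_true (t j) with b | b <;>
      by_cases h : i = p (q j) <;> simp [a, b, h]

theorem monM_one : monM id (fun _ => false) = 1 := by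
  ext i j; simp [monM, Matrix.one_apply]

theorem monM_neg_one : monM id (fun _ => true) = -1 := by
  ext i j
  by_cases h : i = j <;> simp [monM, h]

theorem monM_inj {p q : Fin 8 → Fin 8} {s t : Fin 8 → Bool} (h : monM p s = monM q t) :
    p = q ∧ s = t := by
  have key : ∀ j, p j = q j ∧ s j = t j := by
    intro j
    have e := congrFun (congrFun h (p j)) j
    simp only [monM, if_true] at e
    by_cases hp : p j = q j
    · refine ⟨hp, ?_⟩
      rw [if_pos hp] at e
      revert e
      cases s j <;> cases t j <;> decide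
    · rw [if_neg hp] at e
      exfalso
      revert e
      cases s j <;> decide
  exact ⟨funext fun j => (key j).1, funext fun j => (key j).2⟩

/-- The permutation of a code. -/
def pC (l : List ℕ) (j : Fin 8) : Fin 8 := ⟨l.getD j 0 / 2 % 8, Nat.mod_lt _ (by norm_num)⟩

/-- The signs of a code. -/
def sC (l : List ℕ) (j : Fin 8) : Bool := decide (l.getD j 0 % 2 = 1)

/-- The matrix of a code. -/
def monC (l : List ℕ) : Matrix (Fin 8) (Fin 8) (ZMod 3) := monM (pC l) (sC l)

/-- The matrix of a code as lists. -/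
def monL (l : List ℕ) : List (List ℕ) :=
  List.ofFn fun i : Fin 8 => List.ofFn fun j : Fin 8 =>
    if i.val = l.getD j 0 / 2 % 8 then (if l.getD j 0 % 2 = 1 then 2 else 1) else 0

theorem toMat_monL (l : List ℕ) : toMat (monL l) = monC l := by
  ext i j
  simp only [toMat, monL, getE_ofFn, monC, monM, pC, sC, Fin.ext_iff, decide_eq_true_eq]
  split_ifs <;> decide

/-- The code of a function. -/
def ofF (f : ℕ → ℕ) : List ℕ := List.ofFn fun j : Fin 8 => f j

theorem getD_ofF (f : ℕ → ℕ) (j : Fin 8) : (ofF f).getD j 0 = f j := by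
  rw [ofF, List.getD_eq_getElem _ _ (by rw [List.length_ofFn]; exact j.2), List.getElem_ofFn]

theorem parity (x y z a : ℕ) : decide ((2 * a + (x + y + z) % 2) % 2 = 1) =
    Bool.xor (decide (x % 2 = 1)) (Bool.xor (decide (y % 2 = 1)) (decide (z % 2 = 1))) := by
  rcases Nat.mod_two_eq_zero_or_one x with hx | hx <;>
    rcases Nat.mod_two_eq_zero_or_one y with hy | hy <;>
      rcases Nat.mod_two_eq_zero_or_one z with hz | hz <;>
        simp [hx, hy, hz, Nat.add_mod]

/-- Conjugation of codes by an involutory code. -/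
def step (g l : List ℕ) : List ℕ :=
  ofF fun j =>
    2 * (g.getD (l.getD (g.getD j 0 / 2 % 8) 0 / 2 % 8) 0 / 2 % 8) +
      (g.getD (l.getD (g.getD j 0 / 2 % 8) 0 / 2 % 8) 0 + l.getD (g.getD j 0 / 2 % 8) 0 + g.getD j 0) % 2

theorem monC_step (g l : List ℕ) : monC (step g l) = monC g * (monC l * monC g) := by
  rw [monC, monC, monC, monM_mul, monM_mul]
  congr 1
  · funext j
    simp only [pC, step, getD_ofF, Function.comp_apply, Fin.ext_iff]
    omega
  · funext j
    simp only [sC, step, getD_ofF, Function.comp_apply, pC]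
    exact parity _ _ _ _

/-- The code of a move. -/
def moveC (i : ℕ) : List ℕ :=
  if i % 14 < 8 then ofF fun j => 2 * j + if j = i % 14 then 1 else 0
  else ofF fun j => 2 * pK (2 ^ (i % 14 - 8)) j

/-- The word of a move. -/
def moveW (i : ℕ) : List (List ℕ) :=
  if i % 14 < 8 then [eL (i % 14)] else genWordsL.getD (i % 14 - 8) []

/-- The unit of a move. -/
def moveU (i : ℕ) : GL8 := prodRefl (moveW i)

theorem move_check : ∀ i : Fin 14, rootsOK (moveW i) = true ∧
    prodL (moveW i) = monL (moveC i) ∧ mulL (monL (moveC i)) (monL (moveC i)) = oneL := by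
  decide +kernel

theorem moveW_mod (i : ℕ) : moveW (i % 14) = moveW i := by simp [moveW]

theorem moveC_mod (i : ℕ) : moveC (i % 14) = moveC i := by simp [moveC]

theorem move_facts (i : ℕ) : moveU i ∈ W ∧
    (moveU i : Matrix (Fin 8) (Fin 8) (ZMod 3)) = monC (moveC i) ∧ moveU i * moveU i = 1 := by
  have h : rootsOK (moveW (i % 14)) = true ∧ prodL (moveW (i % 14)) = monL (moveC (i % 14)) ∧
      mulL (monL (moveC (i % 14))) (monL (moveC (i % 14))) = oneL :=
    move_check ⟨i % 14, Nat.mod_lt _ (by norm_num)⟩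
  rw [moveW_mod, moveC_mod] at h
  obtain ⟨h1, h2, h3⟩ := h
  have hr := mem_of_rootsOK h1
  have hv : (moveU i : Matrix (Fin 8) (Fin 8) (ZMod 3)) = monC (moveC i) := by
    rw [moveU, ← toMat_prodL _ hr, h2, toMat_monL]
  refine ⟨prodRefl_mem hr, hv, Units.ext ?_⟩
  rw [Units.val_mul, hv, ← toMat_monL, ← toMat_mulL, h3, toMat_oneL, Units.val_one]

theorem exists_conj_moves : ∀ (w : List ℕ) (l : List ℕ) (N : GL8),
    (N : Matrix (Fin 8) (Fin 8) (ZMod 3)) = monC l →
    ∃ c ∈ W, ((c * N * c⁻¹ : GL8) : Matrix (Fin 8) (Fin 8) (ZMod 3)) =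
      monC (w.foldl (fun x i => step (moveC i) x) l)
  | [], l, N, h => ⟨1, one_mem _, by simpa using h⟩
  | i :: w, l, N, h => by
    obtain ⟨h1, h2, h3⟩ := move_facts i
    obtain ⟨c, hc, e⟩ := exists_conj_moves w (step (moveC i) l) (moveU i * (N * moveU i)) (by
      rw [monC_step, Units.val_mul, Units.val_mul, h, h2])
    refine ⟨c * moveU i, mul_mem hc h1, ?_⟩
    have e' : c * moveU i * N * (c * moveU i)⁻¹ = c * (moveU i * (N * moveU i)) * c⁻¹ := by
      rw [mul_inv_rev, inv_eq_of_mul_eq_one_right h3]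
      simp only [mul_assoc]
    rw [List.foldl_cons, ← e, e']

/-- The bits of an index in the order of composition. -/
def bitsK (k : ℕ) : List ℕ := [0, 1, 2, 4, 5, 3].filter fun i => decide (k / 2 ^ i % 2 = 1)

/-- The index of a composed permutation. -/
def idxK (k l : ℕ) : ℕ :=
  pK k (pK l 0) + 8 * ((pK k (pK l 2) ^^^ pK k (pK l 0)) % 2) +
    16 * ((pK k (pK l 4) ^^^ pK k (pK l 0)) % 2) + 32 * ((pK k (pK l 4) ^^^ pK k (pK l 0)) / 2 % 2)

theorem pK_lt : (List.range 64).all (fun k => (List.range 8).all fun j => decide (pK k j < 8)) = true := by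
  decide +kernel

theorem pK_comp : (List.range 64).all (fun k => (List.range 64).all fun l =>
    decide (idxK k l < 64) && (List.range 8).all fun j =>
      decide (pK k (pK l j) = pK (idxK k l) j)) = true := by
  decide +kernel

theorem pK_bits : (List.range 64).all (fun k => (List.range 8).all fun j =>
    decide ((bitsK k).foldr (fun i x => pK (2 ^ i) x) j = pK k j)) = true := by
  decide +kernel

theorem pK_idx : (List.range 64).all (fun k => decide (pK k 0 + 8 * ((pK k 2 ^^^ pK k 0) % 2) +
    16 * ((pK k 4 ^^^ pK k 0) % 2) + 32 * ((pK k 4 ^^^ pK k 0) / 2 % 2) = k)) = true := by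
  decide +kernel

theorem pF_val {k : ℕ} (hk : k < 64) (j : Fin 8) : (pF k j : ℕ) = pK k j := by
  have := List.all_eq_true.1 (List.all_eq_true.1 pK_lt k (List.mem_range.2 hk)) j.val (List.mem_range.2 j.2)
  exact Nat.mod_eq_of_lt (of_decide_eq_true this)

theorem pF_comp {k l : ℕ} (hk : k < 64) (hl : l < 64) :
    idxK k l < 64 ∧ pF k ∘ pF l = pF (idxK k l) := by
  have h := List.all_eq_true.1 (List.all_eq_true.1 pK_comp k (List.mem_range.2 hk)) l (List.mem_range.2 hl)
  rw [Bool.and_eq_true] at h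
  have hi := of_decide_eq_true h.1
  refine ⟨hi, funext fun j => Fin.ext ?_⟩
  rw [Function.comp_apply, pF_val hk, pF_val hl, pF_val hi]
  exact of_decide_eq_true (List.all_eq_true.1 h.2 j.val (List.mem_range.2 j.2))

theorem pF_inj {k l : ℕ} (hk : k < 64) (hl : l < 64) (h : pF k = pF l) : k = l := by
  have e : ∀ j : Fin 8, pK k j = pK l j := fun j => by rw [← pF_val hk, ← pF_val hl, h]
  have e0 := e 0
  have e2 := e 2
  have e4 := e 4
  rw [← of_decide_eq_true (List.all_eq_true.1 pK_idx k (List.mem_range.2 hk)),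
    ← of_decide_eq_true (List.all_eq_true.1 pK_idx l (List.mem_range.2 hl))]
  simp only [Fin.val_zero, Fin.val_two] at e0 e2
  rw [e0, e2, show pK k 4 = pK l 4 from e4]

/-- The word of an index. -/
def permW (k : ℕ) : List (List ℕ) := (bitsK k).flatMap fun i => moveW (8 + i)

/-- The word of signs. -/
def signW (s : Fin 8 → Bool) : List (List ℕ) :=
  ((List.finRange 8).filter s).map fun i : Fin 8 => eL i

/-- The element of the monomial subgroup. -/
def monU (k : Fin 64) (s : Fin 8 → Bool) : GL8 := prodRefl (permW k ++ signW s)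

theorem eL_root : ∀ i : Fin 8, eL i ∈ rootL := by decide +kernel

theorem signL_check : ∀ i : Fin 8, reflL (eL i) = monL (ofF fun j => 2 * j + if j = i.val then 1 else 0) := by
  decide +kernel

theorem val_signs : ∀ l : List (Fin 8), l.Nodup →
    (prodRefl (l.map fun i : Fin 8 => eL i) : Matrix (Fin 8) (Fin 8) (ZMod 3)) =
      monM id (fun j => decide (j ∈ l))
  | [], _ => by simp [prodRefl, monM_one]
  | i :: l, h => by
    rw [List.nodup_cons] at h
    rw [List.map_cons, prodRefl_cons, Units.val_mul, val_signs l h.2,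
      refl_val (dot_self_of_mem (eL_root i)), ← toMat_reflL, signL_check, toMat_monL, monC, monM_mul]
    congr 1
    · funext j
      simp only [Function.comp_apply, id, pC, getD_ofF, Fin.ext_iff]
      split_ifs <;> omega
    · funext j
      simp only [id, sC, getD_ofF, List.mem_cons]
      by_cases hj : j = i
      · subst hj; simp [h.1]
      · simp [hj, Fin.val_ne_of_ne hj]

theorem pK_pow : ∀ i : Fin 6, moveC (8 + i) = ofF (fun j => 2 * pK (2 ^ i.val) j) := by decide +kernel

theorem val_perm : ∀ l : List ℕ, (∀ i ∈ l, i < 6) →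
    (prodRefl (l.flatMap fun i => moveW (8 + i)) : Matrix (Fin 8) (Fin 8) (ZMod 3)) =
      monM (l.foldr (fun i q => pF (2 ^ i) ∘ q) id) (fun _ => false)
  | [], _ => by simp [prodRefl, monM_one]
  | i :: l, h => by
    have hi := h i List.mem_cons_self
    have hi' : 2 ^ i < 64 := by
      calc 2 ^ i < 2 ^ 6 := Nat.pow_lt_pow_right (by norm_num) hi
        _ = 64 := by norm_num
    have e1 : monC (moveC (8 + i)) = monM (pF (2 ^ i)) (fun _ => false) := by
      rw [monC, show moveC (8 + i) = _ from pK_pow ⟨i, hi⟩]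
      congr 1
      · funext j
        apply Fin.ext
        simp only [pC, getD_ofF, pF]
        omega
      · funext j
        simp only [sC, getD_ofF, Nat.mul_mod_right, decide_eq_false_iff_not]
        omega
    rw [List.flatMap_cons, prodRefl_append, Units.val_mul,
      val_perm l (fun j hj => h j (List.mem_cons_of_mem _ hj))]
    change (moveU (8 + i) : Matrix (Fin 8) (Fin 8) (ZMod 3)) * _ = _
    rw [(move_facts _).2.1, e1, monM_mul]
    rfl

theorem bitsK_lt (k : ℕ) : ∀ i ∈ bitsK k, i < 6 := by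
  intro i hi
  have := List.mem_of_mem_filter hi
  simp only [List.mem_cons, List.not_mem_nil, or_false] at this
  omega

theorem foldr_pF {k : ℕ} (hk : k < 64) :
    (bitsK k).foldr (fun i q => pF (2 ^ i) ∘ q) id = pF k := by
  have key : ∀ (l : List ℕ), (∀ i ∈ l, i < 6) → ∀ j : Fin 8,
      ((l.foldr (fun i q => pF (2 ^ i) ∘ q) id) j : ℕ) = l.foldr (fun i x => pK (2 ^ i) x) j.val := by
    intro l hl j
    induction l with
    | nil => rfl
    | cons i l ih =>
      rw [List.foldr_cons, List.foldr_cons, Function.comp_apply,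
        pF_val (show 2 ^ i < 64 from lt_of_lt_of_le
          (Nat.pow_lt_pow_right (by norm_num) (hl i List.mem_cons_self)) le_rfl),
        ih fun a ha => hl a (List.mem_cons_of_mem _ ha)]
  funext j
  apply Fin.ext
  rw [key _ (bitsK_lt k), pF_val hk]
  exact of_decide_eq_true
    (List.all_eq_true.1 (List.all_eq_true.1 pK_bits k (List.mem_range.2 hk)) j.val (List.mem_range.2 j.2))

theorem permW_roots (k : ℕ) : ∀ a ∈ permW k, a ∈ rootL := by
  intro a ha
  obtain ⟨i, hi, ha⟩ := List.mem_flatMap.1 ha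
  exact mem_of_rootsOK (move_check ⟨8 + i, by have := bitsK_lt k i hi; omega⟩).1 a ha

theorem monU_roots (k : Fin 64) (s : Fin 8 → Bool) : ∀ a ∈ permW k ++ signW s, a ∈ rootL := by
  intro a ha
  rcases List.mem_append.1 ha with ha | ha
  · exact permW_roots k a ha
  · obtain ⟨i, -, rfl⟩ := List.mem_map.1 ha
    exact eL_root i

theorem monU_mem (k : Fin 64) (s : Fin 8 → Bool) : monU k s ∈ W := prodRefl_mem (monU_roots k s)

theorem monU_val (k : Fin 64) (s : Fin 8 → Bool) :
    (monU k s : Matrix (Fin 8) (Fin 8) (ZMod 3)) = monM (pF k) s := by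
  rw [monU, prodRefl_append, Units.val_mul, permW, val_perm _ (bitsK_lt k), foldr_pF k.2, signW,
    val_signs _ ((List.nodup_finRange 8).filter _), monM_mul]
  congr 1
  funext j
  simp

theorem monU_injective : Function.Injective fun x : Fin 64 × (Fin 8 → Bool) => monU x.1 x.2 := by
  rintro ⟨k, s⟩ ⟨l, t⟩ h
  have e := congrArg (fun g : GL8 => (g : Matrix (Fin 8) (Fin 8) (ZMod 3))) h
  simp only [monU_val] at e
  obtain ⟨hp, rfl⟩ := monM_inj e
  rw [Fin.ext (pF_inj k.2 l.2 hp)]

/-- The monomial subgroup as a submonoid. -/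
def monS : Submonoid GL8 where
  carrier := Set.range fun x : Fin 64 × (Fin 8 → Bool) => monU x.1 x.2
  one_mem' := by
    refine ⟨(0, fun _ => false), Units.ext ?_⟩
    rw [monU_val, Units.val_one, ← monM_one]
    congr 1
    exact (show pF 0 = id by decide +kernel)
  mul_mem' := by
    rintro _ _ ⟨⟨k, s⟩, rfl⟩ ⟨⟨l, t⟩, rfl⟩
    obtain ⟨hi, e⟩ := pF_comp k.2 l.2
    refine ⟨(⟨idxK k l, hi⟩, fun j => Bool.xor (s (pF l j)) (t j)), Units.ext ?_⟩
    simp only [monU_val, Units.val_mul, monM_mul, e]

/-- The monomial subgroup. -/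
def monP : Subgroup GL8 where
  toSubmonoid := monS
  inv_mem' := fun {x} hx => by
    have e : x * x ^ (orderOf x - 1) = 1 := by
      rw [← pow_succ', Nat.sub_add_cancel (orderOf_pos x), pow_orderOf_eq_one]
    rw [inv_eq_of_mul_eq_one_right e]
    exact monS.pow_mem hx _

theorem monP_le : monP ≤ W := by
  rintro _ ⟨⟨k, s⟩, rfl⟩
  exact monU_mem k s

theorem card_monP : Nat.card monP = 2 ^ 14 := by
  refine (Nat.card_range_of_injective monU_injective).trans ?_
  rw [Nat.card_eq_fintype_card, Fintype.card_prod, Fintype.card_fun, Fintype.card_bool, Fintype.card_fin, Fintype.card_fin]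
  norm_num

theorem card_W (hcard : Nat.card W1 = 348364800) : Nat.card W = 2 ^ 14 * 42525 := by
  have hle : Nat.card W ≤ 2 * Nat.card W1 := by
    have hm : ∀ M : W, ∃ x : W1 × Bool, (x.1 : GL8) * (if x.2 then dg {0} else 1) = (M : GL8) := by
      rintro ⟨M, hM⟩
      rcases mem_W hM with h | h
      · exact ⟨(⟨M, h⟩, false), by simp⟩
      · exact ⟨(⟨_, h⟩, true), by simp [mul_assoc, dg_zero_sq]⟩
    choose f hf using hm
    have := Nat.card_le_card_of_injective f fun a b h => Subtype.ext (by rw [← hf a, ← hf b, h])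
    rwa [Nat.card_prod, Nat.card_eq_fintype_card (α := Bool), Fintype.card_bool, mul_comm] at this
  have h1 : Nat.card W1 ∣ Nat.card W := Subgroup.card_dvd_of_le W1_le_W
  have h2 : Nat.card monP ∣ Nat.card W := Subgroup.card_dvd_of_le monP_le
  rw [card_monP] at h2
  rw [hcard] at hle h1
  have hpos : 0 < Nat.card W := Nat.card_pos
  generalize Nat.card W = n at hle h1 h2 hpos ⊢
  clear hcard
  obtain ⟨a, rfl⟩ := h1
  have ha : a ≤ 2 := Nat.le_of_mul_le_mul_left (by linarith) (show 0 < 348364800 by norm_num)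
  interval_cases a
  · exact absurd hpos (by norm_num)
  · exact absurd h2 (by norm_num)
  · norm_num

theorem exists_conj_monU (hcard : Nat.card W1 = 348364800) {M : GL8} (hM : M ∈ W) (h4 : M ^ 4 = 1) :
    ∃ c ∈ W, ∃ (k : Fin 64) (s : Fin 8 → Bool), c * M * c⁻¹ = monU k s := by
  have hW := card_W hcard
  have : Fact (Nat.Prime 2) := ⟨Nat.prime_two⟩
  have hP : IsPGroup 2 (monP.subgroupOf W) := IsPGroup.of_card (n := 14) (by
    rw [Nat.card_congr (Subgroup.subgroupOfEquivOfLe monP_le).toEquiv, card_monP])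
  obtain ⟨R, hR⟩ := hP.exists_le_sylow
  have hReq : (R : Subgroup W) = monP.subgroupOf W := by
    refine (Subgroup.eq_of_le_of_card_ge hR ?_).symm
    rw [Nat.card_congr (Subgroup.subgroupOfEquivOfLe monP_le).toEquiv, card_monP]
    obtain ⟨n, hn⟩ := IsPGroup.iff_card.1 R.2
    have hd : Nat.card (R : Subgroup W) ∣ 2 ^ 14 * 42525 := hW ▸ Subgroup.card_subgroup_dvd_card _
    rw [hn] at hd ⊢
    exact Nat.le_of_dvd (by positivity)
      ((Nat.Coprime.pow_left n (by norm_num : Nat.Coprime 2 42525)).dvd_of_dvd_mul_right hd)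
  have hord : orderOf (⟨M, hM⟩ : W) ∣ 2 ^ 2 := orderOf_dvd_of_pow_eq_one (Subtype.ext (by simpa using h4))
  obtain ⟨n, -, hn⟩ := (Nat.dvd_prime_pow Nat.prime_two).1 hord
  have hz : IsPGroup 2 (Subgroup.zpowers (⟨M, hM⟩ : W)) :=
    IsPGroup.of_card (n := n) (by rw [Nat.card_zpowers, hn])
  obtain ⟨Q, hQ⟩ := hz.exists_le_sylow
  obtain ⟨c, hc⟩ := MulAction.exists_smul_eq W Q R
  have hmem : MulAut.conj c • (⟨M, hM⟩ : W) ∈ MulAut.conj c • (Q : Subgroup W) :=
    Subgroup.smul_mem_pointwise_smul _ _ _ (hQ (Subgroup.mem_zpowers _))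
  rw [← Sylow.coe_subgroup_smul, hc, hReq, Subgroup.mem_subgroupOf] at hmem
  obtain ⟨⟨k, s⟩, hks⟩ := hmem
  exact ⟨c, c.2, k, s, hks.symm⟩

/-- The code of an element of the monomial subgroup. -/
def codeK (k m : ℕ) : List ℕ := ofF fun j => 2 * pK k j + m / 2 ^ j % 2

theorem exists_mask (s : Fin 8 → Bool) : ∃ m < 256, ∀ j : Fin 8, s j = decide (m / 2 ^ j.val % 2 = 1) := by
  have h : ∀ b0 b1 b2 b3 b4 b5 b6 b7 : Bool, ∀ j : Fin 8, ![b0, b1, b2, b3, b4, b5, b6, b7] j =
      decide ((b0.toNat + 2 * b1.toNat + 4 * b2.toNat + 8 * b3.toNat + 16 * b4.toNat + 32 * b5.toNat +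
        64 * b6.toNat + 128 * b7.toNat) / 2 ^ j.val % 2 = 1) := by decide +kernel
  refine ⟨(s 0).toNat + 2 * (s 1).toNat + 4 * (s 2).toNat + 8 * (s 3).toNat + 16 * (s 4).toNat +
    32 * (s 5).toNat + 64 * (s 6).toNat + 128 * (s 7).toNat, ?_, fun j => ?_⟩
  · have b := fun i => Bool.toNat_le (s i)
    have := b 0; have := b 1; have := b 2; have := b 3
    have := b 4; have := b 5; have := b 6; have := b 7
    omega
  · rw [← h]
    fin_cases j <;> rfl

/-- The permutation of an index is involutory. -/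
def involK (k : ℕ) : Bool := (List.range 8).all fun j => decide (pK k (pK k j) = j)

/-- The square is a sign. -/
def goodK (k m : ℕ) : Bool :=
  (List.range 8).all fun j =>
    decide ((m / 2 ^ pK k j + m / 2 ^ j) % 2 = (m / 2 ^ pK k 0 + m / 2 ^ 0) % 2)

/-- The root of an orbit. -/
def rootC (r : ℕ) : List ℕ := (orbitRoots.getD r ([], 0, false, [])).1

/-- The certificates of an index are correct. -/
def checkK (k : ℕ) : Bool :=
  !involK k ||
    (decide (((List.range 256).filter (goodK k)).length = (certs.getD k []).length) &&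
      (((List.range 256).filter (goodK k)).zip (certs.getD k [])).all fun x =>
        decide (x.2.2 < 53) &&
          decide (x.2.1.foldl (fun y i => step (moveC i) y) (codeK k x.1) = rootC x.2.2))

/-- The word of the last representative. -/
def rotJW : List (List ℕ) :=
  [[1, 2, 0, 0, 0, 0, 1, 1], [1, 2, 0, 0, 0, 0, 2, 2],
    [0, 1, 0, 0, 0, 0, 0, 0], [0, 0, 1, 2, 0, 0, 1, 1],
    [0, 0, 1, 2, 0, 0, 2, 2], [0, 0, 0, 1, 0, 0, 0, 0],
    [0, 0, 0, 0, 1, 2, 1, 1], [0, 0, 0, 0, 1, 2, 2, 2],
    [0, 0, 0, 0, 0, 1, 0, 0], [0, 0, 0, 0, 0, 0, 1, 0]]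

/-- The representatives as lists, followed by the identity. -/
def repsL : List (List (List ℕ)) :=
  [dgL {0}, dgL {0, 1}, dgL {0, 1, 2}, dgL {0, 1, 2, 3}, dgL {0, 1, 2, 4}, prodL rotJW, oneL]

/-- The representatives, followed by the identity. -/
def repsU : List GL8 := reps ++ [1]

theorem rotJW_roots : rootsOK rotJW = true := by decide +kernel

theorem toMat_repsL : ∀ t : ℕ, t < 7 →
    toMat (repsL.getD t []) = (repsU.getD t 1 : Matrix (Fin 8) (Fin 8) (ZMod 3)) := by
  intro t ht
  have e : rotJ = prodRefl rotJW := rfl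
  interval_cases t <;> simp only [repsL, repsU, reps, List.cons_append, List.nil_append,
    List.getD_cons_zero, List.getD_cons_succ]
  · exact toMat_dgL {0}
  · exact toMat_dgL {0, 1}
  · exact toMat_dgL {0, 1, 2}
  · exact toMat_dgL {0, 1, 2, 3}
  · exact toMat_dgL {0, 1, 2, 4}
  · rw [toMat_prodL _ (mem_of_rootsOK rotJW_roots), e]
  · rw [toMat_oneL, Units.val_one]

/-- The root of an orbit is conjugate to a representative. -/
def checkR (x : List ℕ × ℕ × Bool × List (List ℕ)) : Bool :=
  rootsOK x.2.2.2 && decide (x.2.1 < 7) &&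
    decide (mulL (prodL x.2.2.2) (mulL (monL x.1) (prodL x.2.2.2.reverse)) =
      if x.2.2.1 then negL (repsL.getD x.2.1 []) else repsL.getD x.2.1 [])

theorem roots_check : orbitRoots.length = 53 ∧ orbitRoots.all checkR = true := by
  decide +kernel

theorem certs_check : (List.range 64).all checkK = true := by decide +kernel

theorem root_conj {r : ℕ} (hr : r < 53) {N : GL8}
    (hN : (N : Matrix (Fin 8) (Fin 8) (ZMod 3)) = monC (rootC r)) :
    ∃ c ∈ W, ∃ X, (X ∈ reps ∨ X = 1) ∧ (c * N * c⁻¹ = X ∨ c * N * c⁻¹ = -X) := by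
  have hr' : r < orbitRoots.length := by rw [roots_check.1]; exact hr
  have h := List.all_eq_true.1 roots_check.2 _ (List.getElem_mem hr')
  rw [rootC, List.getD_eq_getElem _ _ hr'] at hN
  set x := orbitRoots[r]
  simp only [checkR, Bool.and_eq_true, decide_eq_true_eq] at h
  have hw := mem_of_rootsOK h.1.1
  refine ⟨prodRefl x.2.2.2, prodRefl_mem hw, repsU.getD x.2.1 1, ?_, ?_⟩
  · have hm : repsU.getD x.2.1 1 ∈ repsU := by
      rw [List.getD_eq_getElem _ _ (by simpa [repsU, reps] using h.1.2)]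
      exact List.getElem_mem _
    simpa [repsU, or_comm] using hm
  · have e := congrArg toMat h.2
    rw [toMat_mulL, toMat_mulL, toMat_prodL _ hw,
      toMat_prodL _ (fun a ha => hw a (List.mem_reverse.1 ha)), toMat_monL, ← hN, prodRefl_reverse,
      apply_ite toMat, toMat_negL, toMat_repsL _ h.1.2, ← mul_assoc] at e
    rcases hb : x.2.2.1 with _ | _ <;> rw [hb] at e
    · exact Or.inl (Units.ext (by simpa using e))
    · exact Or.inr (Units.ext (by simpa using e))

theorem monU_conj {k : Fin 64} {s : Fin 8 → Bool}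
    (hsq : monU k s * monU k s = 1 ∨ monU k s * monU k s = -1) :
    ∃ c ∈ W, ∃ X, (X ∈ reps ∨ X = 1) ∧
      (c * monU k s * c⁻¹ = X ∨ c * monU k s * c⁻¹ = -X) := by
  obtain ⟨b, hb⟩ : ∃ b, monM (pF k) s * monM (pF k) s = monM id (fun _ => b) := by
    rcases hsq with h | h
    · exact ⟨false, by rw [monM_one, ← monU_val, ← Units.val_mul, h, Units.val_one]⟩
    · exact ⟨true, by rw [monM_neg_one, ← monU_val, ← Units.val_mul, h, Units.val_neg, Units.val_one]⟩
  rw [monM_mul] at hb
  obtain ⟨hp, hs⟩ := monM_inj hb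
  obtain ⟨m, hm, hms⟩ := exists_mask s
  have hinv : involK k = true := List.all_eq_true.2 fun j hj => decide_eq_true (by
    have e := congrArg Fin.val (congrFun hp ⟨j, List.mem_range.1 hj⟩)
    rwa [Function.comp_apply, pF_val k.2, pF_val k.2] at e)
  have hgood : goodK k m = true := by
    have key : ∀ j : Fin 8, Bool.xor (decide (m / 2 ^ pK k j % 2 = 1)) (decide (m / 2 ^ j.val % 2 = 1)) = b := by
      intro j
      rw [← pF_val k.2, ← hms, ← hms]
      exact congrFun hs j
    refine List.all_eq_true.2 fun j hj => decide_eq_true ?_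
    have h1 := key ⟨j, List.mem_range.1 hj⟩
    have h2 := key 0
    rw [← h2] at h1
    simp only [Fin.val_zero] at h1
    revert h1
    rcases Nat.mod_two_eq_zero_or_one (m / 2 ^ pK k j) with a | a <;>
      rcases Nat.mod_two_eq_zero_or_one (m / 2 ^ j) with b | b <;>
        rcases Nat.mod_two_eq_zero_or_one (m / 2 ^ pK k 0) with c | c <;>
          rcases Nat.mod_two_eq_zero_or_one (m / 2 ^ 0) with d | d <;>
            simp [a, b, c, Nat.add_mod] <;> simp_all
  have hc := List.all_eq_true.1 certs_check k.val (List.mem_range.2 k.2)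
  simp only [checkK, hinv, Bool.not_true, Bool.false_or, Bool.and_eq_true, decide_eq_true_eq] at hc
  obtain ⟨i, hi, hi'⟩ := List.getElem_of_mem
    (List.mem_filter.2 ⟨List.mem_range.2 hm, hgood⟩ : m ∈ (List.range 256).filter (goodK k))
  have hzi : i < (((List.range 256).filter (goodK k)).zip (certs.getD k.val [])).length := by
    rw [List.length_zip, ← hc.1, min_self]; exact hi
  have h := List.all_eq_true.1 hc.2 _ (List.getElem_mem hzi)
  rw [List.getElem_zip, hi'] at h
  simp only [Bool.and_eq_true, decide_eq_true_eq] at h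
  have hcode : (monU k s : Matrix (Fin 8) (Fin 8) (ZMod 3)) = monC (codeK k m) := by
    rw [monU_val, monC]
    congr 1
    · funext j
      apply Fin.ext
      simp only [pC, codeK, getD_ofF, pF]
      omega
    · funext j
      rw [hms]
      simp only [sC, codeK, getD_ofF, decide_eq_decide]
      omega
  obtain ⟨c, hc1, e⟩ := exists_conj_moves _ _ _ hcode
  rw [h.2] at e
  obtain ⟨d, hd, X, hX, hX'⟩ := root_conj h.1 e
  refine ⟨d * c, mul_mem hd hc1, X, hX, ?_⟩
  simpa [mul_assoc] using hX'

/-- An element whose square is a sign is central or conjugate to a representative up to sign. -/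
theorem classify (hcard : Nat.card W1 = 348364800) {M : GL8} (hM : M ∈ W)
    (hsq : M * M = 1 ∨ M * M = -1) :
    M = 1 ∨ M = -1 ∨ ∃ c ∈ W, ∃ X ∈ reps, c * M * c⁻¹ = X ∨ c * M * c⁻¹ = -X := by
  have h4 : M ^ 4 = 1 := by
    rw [show (4 : ℕ) = 2 * 2 from rfl, pow_mul, pow_two, pow_two]
    rcases hsq with h | h <;> simp [h]
  obtain ⟨c, hc, k, s, hks⟩ := exists_conj_monU hcard hM h4
  have hsq' : monU k s * monU k s = 1 ∨ monU k s * monU k s = -1 := by
    rw [← hks, show c * M * c⁻¹ * (c * M * c⁻¹) = c * (M * M) * c⁻¹ by group]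
    rcases hsq with h | h
    · exact Or.inl (by simp [h])
    · exact Or.inr (by simp [h])
  obtain ⟨d, hd, X, hX, hX'⟩ := monU_conj hsq'
  rw [← hks, show d * (c * M * c⁻¹) * d⁻¹ = d * c * M * (d * c)⁻¹ by group] at hX'
  rcases hX with hX | rfl
  · exact Or.inr (Or.inr ⟨d * c, mul_mem hd hc, X, hX, hX'⟩)
  · rcases hX' with h | h
    · left
      rw [mul_inv_eq_one] at h
      exact mul_left_cancel (h.trans (mul_one _).symm)
    · right; left
      rw [mul_inv_eq_iff_eq_mul, neg_mul, one_mul] at h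
      exact mul_left_cancel (h.trans (by simp))

end CfsgLib.StdForm.OmegaEight
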