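import Mathlib.Data.Nat.Notation

/-!
Words for the witnesses in the double cover of the orthogonal group in dimension eight over the
field with two elements.
-/

set_option autoImplicit false

namespace CfsgLib.StdForm.OmegaEight.Witness

/-- generators -/
def sixGens : List (List (List ℕ)) :=
  [[[0, 0, 0, 1, 0, 0, 0, 0], [0, 0, 0, 0, 1, 1, 2, 2]],
    [[0, 0, 1, 2, 0, 0, 1, 1], [0, 0, 0, 0, 0, 1, 0, 0]],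
    [[0, 0, 1, 2, 0, 0, 1, 1], [0, 0, 1, 2, 0, 0, 2, 2], [0, 0, 0, 0, 1, 2, 1, 1], [0, 0, 0, 0, 1, 2, 2, 2]],
    [[0, 0, 1, 1, 0, 0, 1, 2], [0, 0, 0, 0, 1, 2, 1, 1]]]

/-- each generator as a commutator -/
def sixCom : List (List ℕ × List ℕ) :=
  [([2, 0, 3, 0, 1, 3], [0, 3, 0, 1, 0, 1, 2, 0]), ([3, 1, 2, 0, 2, 1, 0], [0, 2, 1, 3, 0, 1]), ([3, 1, 3, 0], [2, 3, 2, 3]), ([0, 2, 1, 2, 3], [1, 0, 2, 1, 0, 3, 2, 0])]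

/-- generators -/
def fiveGens : List (List (List ℕ)) :=
  [[[0, 0, 1, 2, 0, 0, 1, 2], [0, 0, 0, 0, 1, 2, 2, 2]],
    [[0, 0, 1, 2, 0, 0, 1, 1], [0, 0, 0, 0, 1, 1, 2, 1]],
    [[0, 0, 0, 0, 1, 1, 1, 1], [0, 0, 0, 0, 1, 2, 2, 1]]]

/-- each generator as a commutator -/
def fiveCom : List (List ℕ × List ℕ) :=
  [([1, 0, 2, 1, 2, 0], [1, 2, 1, 0, 2]), ([0, 2, 1, 2], [0, 2, 0, 2, 1, 0, 2]), ([0, 1, 0, 1, 2, 0, 1], [0, 1, 2, 1])]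

/-- generators -/
def jayGens : List (List (List ℕ)) :=
  [[[1, 0, 0, 1, 0, 1, 1, 0], [0, 1, 2, 0, 2, 0, 0, 1], [0, 0, 0, 0, 1, 1, 1, 1], [0, 0, 0, 0, 1, 2, 2, 1], [0, 0, 0, 0, 0, 1, 0, 0], [0, 0, 0, 0, 0, 0, 1, 0]],
    [[1, 0, 1, 0, 0, 1, 0, 1], [1, 0, 1, 0, 0, 2, 0, 2], [0, 1, 0, 1, 0, 1, 0, 1], [0, 1, 0, 1, 0, 2, 0, 2], [0, 0, 0, 0, 1, 0, 0, 0], [0, 0, 0, 0, 0, 1, 0, 0]],
    [[1, 0, 0, 2, 0, 2, 1, 0], [1, 0, 2, 0, 1, 0, 2, 0], [0, 1, 0, 2, 0, 1, 0, 1], [0, 1, 1, 0, 1, 0, 0, 2], [0, 0, 1, 1, 1, 2, 0, 0], [0, 0, 0, 0, 0, 0, 0, 1]],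
    [[1, 0, 0, 2, 0, 2, 1, 0], [1, 0, 1, 0, 1, 0, 2, 0], [0, 1, 0, 1, 1, 0, 1, 0], [0, 1, 0, 2, 2, 0, 1, 0], [0, 0, 1, 1, 0, 0, 2, 1], [0, 0, 1, 2, 2, 1, 0, 0], [0, 0, 0, 0, 1, 1, 2, 2], [0, 0, 0, 0, 0, 0, 1, 0]]]

/-- each generator as a commutator -/
def jayCom : List (List ℕ × List ℕ) :=
  [([0, 2, 1, 3, 1, 2], [0, 3, 0, 1, 2]), ([1, 3, 2, 3, 1, 0], [1, 0, 1, 2, 3, 2]), ([1, 3, 2, 1, 0, 3, 1, 3], [1, 0, 3, 1, 3, 1, 0]), ([2, 0, 3, 1, 3, 2, 3], [0, 1, 2, 1, 2, 1, 0])]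

/-- a word for a sign matrix -/
def mem23 : List ℕ :=
  [0, 2, 0, 2]

/-- a word for a sign matrix -/
def mem45 : List ℕ :=
  [3, 1, 2, 1, 3]

/-- a word for a sign matrix -/
def mem24 : List ℕ :=
  [1, 0, 1, 3, 1, 3, 0, 1]

/-- a word for a sign matrix -/
def mem26 : List ℕ :=
  [1, 2, 0, 1, 3, 1, 0, 2, 1]

/-- a word for a sign matrix -/
def mem27 : List ℕ :=
  [1, 0, 1, 3, 1, 0, 1]

/-- a word for a sign matrix -/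
def mem234567 : List ℕ :=
  [0, 2, 3, 0, 2, 3, 0, 2, 3]

/-- a word for minus one -/
def memNeg : List ℕ :=
  [0, 2, 0, 2, 0, 2]

/-- the element of order three -/
def sixX : List ℕ :=
  [1, 3, 1, 0, 1, 2, 3]

/-- its translate -/
def sixY : List ℕ :=
  [1, 3, 0, 1, 2, 0, 1, 2, 3]

/-- a translation -/
def transW : List (List ℕ) :=
  [[1, 0, 2, 0, 0, 1, 0, 1], [1, 0, 2, 0, 0, 2, 0, 2], [0, 1, 0, 2, 0, 1, 0, 1], [0, 1, 0, 2, 0, 2, 0, 2], [0, 0, 0, 0, 1, 1, 2, 1], [0, 0, 0, 0, 1, 2, 2, 2], [0, 0, 0, 0, 0, 1, 0, 0], [0, 0, 0, 0, 0, 0, 0, 1]]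

/-- the two roots -/
def u2W : List (List ℕ) :=
  [[1, 2, 1, 1, 0, 0, 0, 0], [1, 2, 2, 2, 0, 0, 0, 0]]

/-- a conjugating word -/
def cjTri : List (List ℕ) :=
  [[0, 1, 0, 1, 2, 0, 1, 0], [0, 1, 0, 2, 2, 0, 2, 0], [0, 0, 1, 1, 0, 0, 1, 2], [0, 0, 1, 2, 0, 0, 2, 2]]

/-- a conjugating word -/
def cjU2 : List (List ℕ) :=
  [[0, 0, 0, 0, 0, 0, 0, 1], [1, 1, 1, 1, 0, 0, 0, 0]]

/-- a conjugating word -/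
def cjKU : List (List ℕ) :=
  [[0, 0, 0, 0, 0, 0, 0, 1], [1, 2, 1, 1, 0, 0, 0, 0]]

/-- a conjugating word -/
def cjNegDp : List (List ℕ) :=
  [[1, 0, 0, 1, 2, 0, 0, 1], [1, 0, 0, 2, 2, 0, 0, 2], [0, 1, 0, 1, 0, 2, 0, 1], [0, 1, 0, 2, 0, 2, 0, 2], [0, 0, 1, 1, 0, 0, 2, 1], [0, 0, 1, 2, 0, 0, 2, 2], [0, 0, 0, 1, 0, 0, 0, 0], [0, 0, 0, 0, 0, 0, 0, 1]]

/-- a conjugating word -/
def cjNegDn : List (List ℕ) :=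
  [[1, 0, 0, 2, 0, 1, 1, 0], [1, 0, 0, 2, 0, 2, 2, 0], [0, 1, 0, 1, 0, 1, 0, 2], [0, 1, 0, 2, 0, 2, 0, 2], [0, 0, 1, 2, 0, 0, 1, 1], [0, 0, 1, 2, 0, 0, 2, 2], [0, 0, 0, 0, 1, 1, 1, 2], [0, 0, 0, 0, 1, 2, 2, 2]]

/-- a conjugating word -/
def cjEd : List (List ℕ) :=
  [[0, 1, 0, 1, 2, 0, 1, 0], [0, 1, 0, 2, 2, 0, 2, 0], [0, 0, 1, 1, 1, 2, 0, 0], [0, 0, 1, 2, 2, 2, 0, 0], [0, 0, 0, 1, 0, 0, 0, 0], [0, 0, 0, 0, 0, 0, 1, 0]]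

/-- a conjugating word -/
def cjDp : List (List ℕ) :=
  [[0, 0, 1, 1, 0, 0, 1, 1], [0, 0, 0, 0, 0, 0, 0, 1]]

/-- a conjugating word for the product -/
def cjDpProd : List (List ℕ) :=
  [[1, 2, 1, 1, 0, 0, 0, 0], [1, 1, 0, 0, 0, 0, 1, 1]]

/-- a conjugating word -/
def cjDn : List (List ℕ) :=
  [[0, 0, 0, 0, 1, 1, 2, 2], [0, 0, 0, 0, 1, 1, 1, 1]]

/-- a conjugating word for the product -/
def cjDnProd : List (List ℕ) :=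
  [[1, 2, 0, 0, 1, 2, 0, 0], [1, 1, 0, 0, 1, 1, 0, 0]]

/-- an element commuting with the triple -/
def tcE0 : List (List ℕ) :=
  [[1, 2, 0, 0, 0, 0, 1, 1], [1, 2, 0, 0, 0, 0, 2, 2], [0, 1, 2, 0, 0, 1, 1, 0], [0, 1, 2, 0, 0, 2, 2, 0], [0, 0, 0, 0, 1, 1, 1, 1], [0, 0, 0, 0, 1, 2, 2, 1], [0, 0, 0, 0, 0, 0, 1, 0], [0, 0, 0, 0, 0, 0, 0, 1]]

/-- an element commuting with the triple -/
def tcE1 : List (List ℕ) :=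
  [[0, 1, 2, 0, 0, 1, 1, 0], [0, 1, 2, 0, 0, 2, 2, 0], [0, 0, 0, 0, 1, 1, 1, 1], [0, 0, 0, 0, 1, 2, 2, 1]]

/-- an element commuting with the triple -/
def tcE2 : List (List ℕ) :=
  [[1, 2, 0, 0, 0, 0, 1, 1], [1, 2, 0, 0, 0, 0, 2, 2], [0, 0, 0, 0, 1, 2, 1, 1], [0, 0, 0, 0, 1, 2, 2, 2]]

/-- an element commuting with the triple -/
def tcE3 : List (List ℕ) :=
  [[0, 1, 0, 0, 0, 0, 0, 0], [0, 0, 0, 0, 1, 2, 1, 1], [0, 0, 0, 0, 1, 2, 2, 2], [0, 0, 0, 0, 0, 1, 0, 0]]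

/-- an element commuting with the triple -/
def tcD0 : List (List ℕ) :=
  [[1, 1, 0, 0, 0, 0, 1, 1], [1, 1, 0, 0, 0, 0, 2, 2]]

/-- an element commuting with the triple -/
def tcD1 : List (List ℕ) :=
  [[0, 0, 0, 0, 1, 0, 0, 0], [0, 0, 0, 0, 0, 0, 0, 1]]

/-- an element commuting with the triple -/
def tcD2 : List (List ℕ) :=
  [[0, 1, 0, 0, 0, 0, 0, 0], [0, 0, 0, 0, 1, 1, 1, 1]]

/-- an element commuting with the triple -/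
def tcD3 : List (List ℕ) :=
  [[0, 1, 1, 0, 0, 1, 1, 0], [0, 1, 1, 0, 0, 2, 2, 0], [0, 0, 0, 0, 1, 1, 1, 1], [0, 0, 0, 0, 1, 2, 2, 1]]

end CfsgLib.StdForm.OmegaEight.Witness
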