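import Cfsg.Agent.Lib.StdForm.OmegaEight.Core
import Cfsg.Agent.Lib.StdForm.OmegaEight.WitnessTools
import Cfsg.Agent.Lib.StdForm.OmegaEight.WitnessData

/-!
Witness subgroups and conjugating elements in the double cover of the orthogonal group in dimension
eight over the field with two elements.
-/

set_option autoImplicit false
set_option maxRecDepth 20000

namespace CfsgLib.StdForm.OmegaEight

open CfsgLib.Schur.D4Two Witness
open scoped Matrix commutatorElement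

/-- A product of two reflections of the kind of `dg {0, 1}`. -/
def U2 : GL8 := prodRefl [[1, 2, 1, 1, 0, 0, 0, 0], [1, 2, 2, 2, 0, 0, 0, 0]]

/-- Fixing a vector. -/
def Fix (M : GL8) (v : Vec) : Prop := (M : Matrix (Fin 8) (Fin 8) (ZMod 3)) *ᵥ v = v

theorem u2W_eq : prodRefl u2W = U2 := rfl

/-- The word of an even word of roots is in `W1`. -/
def evenW (w : List (List ℕ)) : Bool := w.all (fun a => decide (a ∈ rootL)) && decide (w.length % 2 = 0)

theorem mem_W1_of_evenW {w : List (List ℕ)} (h : evenW w = true) : prodRefl w ∈ W1 := by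
  simp only [evenW, Bool.and_eq_true, List.all_eq_true, decide_eq_true_eq] at h
  exact prodRefl_mem_W1 h.1 (Nat.even_iff.2 h.2)

theorem genGroup_le_W1 {gs : List (List (List ℕ))} (h : gs.all evenW = true) : genGroup gs ≤ W1 :=
  (Subgroup.closure_le _).2 fun _ ⟨g, hg, e⟩ => e ▸ mem_W1_of_evenW (List.all_eq_true.1 h g hg)

/-- The word of a sign matrix. -/
def dgW (S : List ℕ) : List (List ℕ) := S.map fun i => (List.range 8).map fun j => if j = i then 1 else 0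

theorem dgW_eq {S : List ℕ} {T : Finset (Fin 8)} (h : isDg (dgW S) T = true) : prodRefl (dgW S) = dg T :=
  prodRefl_eq_dg h

theorem six : ∃ P : Subgroup GL8, P ≤ W1 ∧ PerfectInv P ∧ (∀ M ∈ P, Fix M (ee 0) ∧ Fix M (ee 1)) ∧
    -dg {0, 1} ∈ P ∧ dg {2, 3} ∈ P ∧ dg {4, 5} ∈ P ∧ dg {2, 4} ∈ P ∧ dg {2, 6} ∈ P ∧ dg {2, 7} ∈ P ∧
    U2 * dg {2, 4} ≠ dg {2, 4} * U2 ∧
    ∃ x ∈ P, ∃ c ∈ W1, x ≠ 1 ∧ x ^ 3 = 1 ∧ (∀ i : Fin 8, i.1 < 4 → Fix x (ee i)) ∧ c * x * c⁻¹ ∈ P ∧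
      (∀ i : Fin 8, ∀ j : Fin 8, i.1 < 4 → j.1 = i.1 ^^^ 2 →
        (c : Matrix (Fin 8) (Fin 8) (ZMod 3)) *ᵥ ee i = ee j ∧
        ((c⁻¹ : GL8) : Matrix (Fin 8) (Fin 8) (ZMod 3)) *ᵥ ee i = ee j) ∧
      c * dg {0, 1} * c⁻¹ = dg {2, 3} := by
  refine ⟨genGroup sixGens, genGroup_le_W1 (by decide +kernel),
    perfectInv_of_check (cs := sixCom) (by decide +kernel),
    fun M hM => ⟨genGroup_fix (by decide +kernel) M hM, genGroup_fix (by decide +kernel) M hM⟩,
    ?_, (prodRefl_eq_dg (u := wordOf sixGens mem23) (S := {2, 3}) (by decide +kernel)) ▸ wordOf_mem _ _, (prodRefl_eq_dg (u := wordOf sixGens mem45) (S := {4, 5}) (by decide +kernel)) ▸ wordOf_mem _ _, (prodRefl_eq_dg (u := wordOf sixGens mem24) (S := {2, 4}) (by decide +kernel)) ▸ wordOf_mem _ _, (prodRefl_eq_dg (u := wordOf sixGens mem26) (S := {2, 6}) (by decide +kernel)) ▸ wordOf_mem _ _, (prodRefl_eq_dg (u := wordOf sixGens mem27) (S := {2, 7}) (by decide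 +kernel)) ▸ wordOf_mem _ _, ?_,
    prodRefl (wordOf sixGens sixX), wordOf_mem _ _, prodRefl transW, mem_W1_of_evenW (by decide +kernel),
    ?_, ?_, ?_, ?_, ?_, ?_⟩
  · rw [neg_dg, show ({0, 1} : Finset (Fin 8))ᶜ = {2, 3, 4, 5, 6, 7} by decide,
      ← prodRefl_eq_dg (u := wordOf sixGens mem234567) (S := {2, 3, 4, 5, 6, 7}) (by decide +kernel)]
    exact wordOf_mem _ _
  · rw [← u2W_eq, ← dgW_eq (S := [2, 4]) (T := {2, 4}) (by decide +kernel), ← prodRefl_append, ← prodRefl_append]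
    exact prodRefl_ne 2 3 (by decide +kernel)
  · rw [← prodRefl_nil]
    exact prodRefl_ne 4 4 (by decide +kernel)
  · rw [pow_succ, pow_succ, pow_one, ← prodRefl_append, ← prodRefl_append, ← prodRefl_nil]
    exact prodRefl_eq_of_sameW (by decide +kernel)
  · have h : ∀ i : Fin 8, i.1 < 4 → fixesC (wordOf sixGens sixX) i i = true := by decide +kernel
    exact fun i hi => prodRefl_mulVec (h i hi)
  · rw [conj_eq_of_sameW (y := wordOf sixGens sixY) (by decide +kernel)]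
    exact wordOf_mem _ _
  · have h : ∀ i j : Fin 8, i.1 < 4 → j.1 = i.1 ^^^ 2 →
        fixesC transW i j = true ∧ fixesC transW.reverse i j = true := by decide +kernel
    intro i j hi hj
    exact ⟨prodRefl_mulVec (h i j hi hj).1, prodRefl_reverse transW ▸ prodRefl_mulVec (h i j hi hj).2⟩
  · rw [← dgW_eq (S := [0, 1]) (T := {0, 1}) (by decide +kernel),
      ← dgW_eq (S := [2, 3]) (T := {2, 3}) (by decide +kernel)]
    exact conj_eq_of_sameW (by decide +kernel)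

theorem five : ∃ P : Subgroup GL8, P ≤ W1 ∧ P ≠ ⊥ ∧ PerfectInv P ∧ (∀ M ∈ P, Fix M (ee 0) ∧ Fix M (ee 1)) ∧
    ∀ M ∈ P, M * U2 = U2 * M := by
  refine ⟨genGroup fiveGens, genGroup_le_W1 (by decide +kernel), ?_,
    perfectInv_of_check (cs := fiveCom) (by decide +kernel),
    fun M hM => ⟨genGroup_fix (by decide +kernel) M hM, genGroup_fix (by decide +kernel) M hM⟩,
    fun M hM => ?_⟩
  · intro e
    have h : prodRefl (wordOf fiveGens [0]) = 1 := Subgroup.mem_bot.1 (e ▸ wordOf_mem fiveGens [0])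
    rw [← prodRefl_nil] at h
    exact prodRefl_ne 2 2 (by decide +kernel) h
  · rw [← u2W_eq]
    exact genGroup_commute (by decide +kernel) M hM

theorem jay : ∃ P : Subgroup GL8, P ≤ W1 ∧ PerfectInv P ∧ -1 ∈ P ∧ ∀ M ∈ P, M * rotJ = rotJ * M := by
  refine ⟨genGroup jayGens, genGroup_le_W1 (by decide +kernel),
    perfectInv_of_check (cs := jayCom) (by decide +kernel), ?_, fun M hM => genGroup_commute (by decide +kernel) M hM⟩
  rw [neg_one_eq_dg, ← prodRefl_eq_dg (u := wordOf jayGens memNeg) (S := Finset.univ) (by decide +kernel)]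
  exact wordOf_mem _ _

theorem tri_comm_1247 : ∃ a b c d : GL8, a ∈ W1 ∧ b ∈ W1 ∧ c ∈ W1 ∧ d ∈ W1 ∧
    Commute a (dg {0, 1, 2}) ∧ Commute b (dg {0, 1, 2}) ∧ Commute c (dg {0, 1, 2}) ∧
    Commute d (dg {0, 1, 2}) ∧ ⁅⁅a, b⁆, ⁅c, d⁆⁆ = dg {1, 2, 4, 7} := by
  have hc : ∀ {w : List (List ℕ)}, sameW (w ++ dgW [0, 1, 2]) (dgW [0, 1, 2] ++ w) = true →
      Commute (prodRefl w) (dg {0, 1, 2}) := fun {w} h => by
    have e := prodRefl_eq_of_sameW h
    rw [prodRefl_append, prodRefl_append, dgW_eq (S := [0, 1, 2]) (T := {0, 1, 2}) (by decide +kernel)] at e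
    exact e
  refine ⟨prodRefl tcE0, prodRefl tcE1, prodRefl tcE2, prodRefl tcE3, mem_W1_of_evenW (by decide +kernel),
    mem_W1_of_evenW (by decide +kernel), mem_W1_of_evenW (by decide +kernel), mem_W1_of_evenW (by decide +kernel),
    hc (by decide +kernel), hc (by decide +kernel), hc (by decide +kernel), hc (by decide +kernel), ?_⟩
  simp only [commutatorElement_def, ← prodRefl_reverse, ← prodRefl_append]
  exact prodRefl_eq_dg (by decide +kernel)

theorem tri_comm_4567 : ∃ a b c d : GL8, a ∈ W1 ∧ b ∈ W1 ∧ c ∈ W1 ∧ d ∈ W1 ∧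
    Commute a (dg {0, 1, 2}) ∧ Commute b (dg {0, 1, 2}) ∧ Commute c (dg {0, 1, 2}) ∧
    Commute d (dg {0, 1, 2}) ∧ ⁅⁅a, b⁆, ⁅c, d⁆⁆ = dg {4, 5, 6, 7} := by
  have hc : ∀ {w : List (List ℕ)}, sameW (w ++ dgW [0, 1, 2]) (dgW [0, 1, 2] ++ w) = true →
      Commute (prodRefl w) (dg {0, 1, 2}) := fun {w} h => by
    have e := prodRefl_eq_of_sameW h
    rw [prodRefl_append, prodRefl_append, dgW_eq (S := [0, 1, 2]) (T := {0, 1, 2}) (by decide +kernel)] at e
    exact e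
  refine ⟨prodRefl tcD0, prodRefl tcD1, prodRefl tcD2, prodRefl tcD3, mem_W1_of_evenW (by decide +kernel),
    mem_W1_of_evenW (by decide +kernel), mem_W1_of_evenW (by decide +kernel), mem_W1_of_evenW (by decide +kernel),
    hc (by decide +kernel), hc (by decide +kernel), hc (by decide +kernel), hc (by decide +kernel), ?_⟩
  simp only [commutatorElement_def, ← prodRefl_reverse, ← prodRefl_append]
  exact prodRefl_eq_dg (by decide +kernel)

theorem tri_conj : ∃ c ∈ W1, c * dg {0, 1, 2} * c⁻¹ = dg {0, 4, 7} := by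
  refine ⟨prodRefl cjTri, mem_W1_of_evenW (by decide +kernel), ?_⟩
  rw [← dgW_eq (S := [0, 1, 2]) (T := {0, 1, 2}) (by decide +kernel), ← dgW_eq (S := [0, 4, 7]) (T := {0, 4, 7}) (by decide +kernel)]
  exact conj_eq_of_sameW (by decide +kernel)

theorem U2_conj : ∃ c ∈ W1, c * U2 * c⁻¹ = dg {0, 1} := by
  refine ⟨prodRefl cjU2, mem_W1_of_evenW (by decide +kernel), ?_⟩
  rw [← u2W_eq, ← dgW_eq (S := [0, 1]) (T := {0, 1}) (by decide +kernel)]
  exact conj_eq_of_sameW (by decide +kernel)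

theorem kU_conj : ∃ c ∈ W1, c * (dg {0, 1} * U2) * c⁻¹ = dg {0, 1} := by
  refine ⟨prodRefl cjKU, mem_W1_of_evenW (by decide +kernel), ?_⟩
  rw [← u2W_eq, ← dgW_eq (S := [0, 1]) (T := {0, 1}) (by decide +kernel), ← prodRefl_append]
  exact conj_eq_of_sameW (by decide +kernel)

theorem negDp_conj : ∃ c ∈ W1, c * -dg {0, 1, 2, 3} * c⁻¹ = dg {0, 1, 2, 3} := by
  refine ⟨prodRefl cjNegDp, mem_W1_of_evenW (by decide +kernel), ?_⟩
  rw [neg_dg, show ({0, 1, 2, 3} : Finset (Fin 8))ᶜ = {4, 5, 6, 7} by decide,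
    ← dgW_eq (S := [0, 1, 2, 3]) (T := {0, 1, 2, 3}) (by decide +kernel),
    ← dgW_eq (S := [4, 5, 6, 7]) (T := {4, 5, 6, 7}) (by decide +kernel)]
  exact conj_eq_of_sameW (by decide +kernel)

theorem negDn_conj : ∃ c ∈ W1, c * -dg {0, 1, 2, 4} * c⁻¹ = dg {0, 1, 2, 4} := by
  refine ⟨prodRefl cjNegDn, mem_W1_of_evenW (by decide +kernel), ?_⟩
  rw [neg_dg, show ({0, 1, 2, 4} : Finset (Fin 8))ᶜ = {3, 5, 6, 7} by decide,
    ← dgW_eq (S := [0, 1, 2, 4]) (T := {0, 1, 2, 4}) (by decide +kernel),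
    ← dgW_eq (S := [3, 5, 6, 7]) (T := {3, 5, 6, 7}) (by decide +kernel)]
  exact conj_eq_of_sameW (by decide +kernel)

theorem ed_conj : ∃ c ∈ W1, c * dg {1, 2, 4, 7} * c⁻¹ = dg {4, 5, 6, 7} := by
  refine ⟨prodRefl cjEd, mem_W1_of_evenW (by decide +kernel), ?_⟩
  rw [← dgW_eq (S := [1, 2, 4, 7]) (T := {1, 2, 4, 7}) (by decide +kernel), ← dgW_eq (S := [4, 5, 6, 7]) (T := {4, 5, 6, 7}) (by decide +kernel)]
  exact conj_eq_of_sameW (by decide +kernel)

theorem Dp_prod : ∃ c ∈ W1, ∃ c' ∈ W1, Commute (dg {0, 1, 2, 3}) (c * dg {0, 1, 2, 3} * c⁻¹) ∧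
    c' * (dg {0, 1, 2, 3} * (c * dg {0, 1, 2, 3} * c⁻¹)) * c'⁻¹ = dg {0, 1} := by
  refine ⟨prodRefl cjDp, mem_W1_of_evenW (by decide +kernel), prodRefl cjDpProd,
    mem_W1_of_evenW (by decide +kernel), ?_, ?_⟩
  · rw [← dgW_eq (S := [0, 1, 2, 3]) (T := {0, 1, 2, 3}) (by decide +kernel), ← prodRefl_reverse, ← prodRefl_append, ← prodRefl_append]
    show _ * _ = _ * _
    rw [← prodRefl_append, ← prodRefl_append]
    exact prodRefl_eq_of_sameW (by decide +kernel)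
  · rw [← dgW_eq (S := [0, 1, 2, 3]) (T := {0, 1, 2, 3}) (by decide +kernel), ← dgW_eq (S := [0, 1]) (T := {0, 1}) (by decide +kernel), ← prodRefl_reverse cjDp, ← prodRefl_append, ← prodRefl_append,
      ← prodRefl_append]
    exact conj_eq_of_sameW (by decide +kernel)

theorem Dn_prod : ∃ c ∈ W1, ∃ c' ∈ W1, Commute (dg {0, 1, 2, 4}) (c * dg {0, 1, 2, 4} * c⁻¹) ∧
    c' * (dg {0, 1, 2, 4} * (c * dg {0, 1, 2, 4} * c⁻¹)) * c'⁻¹ = dg {0, 1} := by
  refine ⟨prodRefl cjDn, mem_W1_of_evenW (by decide +kernel), prodRefl cjDnProd,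
    mem_W1_of_evenW (by decide +kernel), ?_, ?_⟩
  · rw [← dgW_eq (S := [0, 1, 2, 4]) (T := {0, 1, 2, 4}) (by decide +kernel), ← prodRefl_reverse, ← prodRefl_append, ← prodRefl_append]
    show _ * _ = _ * _
    rw [← prodRefl_append, ← prodRefl_append]
    exact prodRefl_eq_of_sameW (by decide +kernel)
  · rw [← dgW_eq (S := [0, 1, 2, 4]) (T := {0, 1, 2, 4}) (by decide +kernel), ← dgW_eq (S := [0, 1]) (T := {0, 1}) (by decide +kernel), ← prodRefl_reverse cjDn, ← prodRefl_append, ← prodRefl_append,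
      ← prodRefl_append]
    exact conj_eq_of_sameW (by decide +kernel)

end CfsgLib.StdForm.OmegaEight
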