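import Cfsg.Agent.Lib.StdForm.OmegaEight.Planes
import Cfsg.Agent.Lib.StdForm.OmegaEight.Witness
import Cfsg.Agent.Lib.Char.Burnside
import Mathlib.LinearAlgebra.Matrix.Trace

/-!
Fixed vectors of perfect subgroups of the Weyl group of type E8 modulo three commuting with sign
matrices, and small facts about roots and reflections.
-/

set_option autoImplicit false
set_option maxRecDepth 4000

namespace CfsgLib.StdForm.OmegaEight

open scoped Matrix

namespace FixBlock

/-! ### Perfect groups acting on at most four points -/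

theorem isSolvable_perm_four : Group.IsSolvable (Equiv.Perm (Fin 4)) :=
  CfsgLib.Char.isSolvable_of_card_eq_prime_pow_mul Nat.prime_two Nat.prime_three (a := 3) (b := 1)
    (by rw [Nat.card_eq_fintype_card, Fintype.card_perm]; rfl)

theorem eq_bot_of_perfect_of_solvable {Q : Type*} [Group Q] [Group.IsSolvable Q] {H : Subgroup Q}
    (hH : ⁅H, H⁆ = H) : H = ⊥ := by
  obtain ⟨n, hn⟩ := Group.IsSolvable.solvable (G := Q)
  have h : ∀ k, H ≤ derivedSeries Q k := by
    intro k
    induction k with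
    | zero => simp
    | succ k ih => rw [derivedSeries_succ, ← hH]; exact Subgroup.commutator_mono ih ih
  rw [eq_bot_iff, ← hn]
  exact h n

theorem perfect_fix {G α : Type*} [Group G] [DecidableEq α] {P : Subgroup G} (hP : ⁅P, P⁆ = P)
    (f : G →* Equiv.Perm α) (S : Finset α) (hS : S.card ≤ 4)
    (hinv : ∀ g ∈ P, ∀ x ∈ S, f g x ∈ S) {g : G} (hg : g ∈ P) {x : α} (hx : x ∈ S) : f g x = x := by
  have hiff : ∀ g : ↥P, ∀ y, f g y ∈ S ↔ y ∈ S := by
    refine fun g y => ⟨fun h => ?_, hinv _ g.2 y⟩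
    have := hinv _ (inv_mem g.2) _ h
    rwa [← Equiv.Perm.mul_apply, ← map_mul, inv_mul_cancel, map_one, Equiv.Perm.one_apply] at this
  let h : ↥P →* Equiv.Perm {y // y ∈ S} :=
    { toFun := fun g => (f g).subtypePerm (fun y => hiff g y)
      map_one' := by ext y; simp
      map_mul' := fun a b => Equiv.ext fun y => Subtype.ext (by simp; rfl) }
  obtain ⟨ι⟩ : Nonempty ({y // y ∈ S} ↪ Fin 4) :=
    Function.Embedding.nonempty_of_card_le (by simpa using hS)
  haveI := isSolvable_perm_four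
  haveI : Group.IsSolvable (Equiv.Perm {y // y ∈ S}) :=
    Group.isSolvable_of_isSolvable_injective (f := Equiv.Perm.viaEmbeddingHom ι)
      (Equiv.Perm.viaEmbeddingHom_injective ι)
  have htop : ⁅(⊤ : Subgroup ↥P), (⊤ : Subgroup ↥P)⁆ = (⊤ : Subgroup ↥P) := by
    apply Subgroup.map_injective P.subtype_injective
    rw [Subgroup.map_commutator, ← MonoidHom.range_eq_map, P.range_subtype, hP]
  have hbot : h.range = ⊥ := by
    refine eq_bot_of_perfect_of_solvable ?_
    rw [MonoidHom.range_eq_map, ← Subgroup.map_commutator, htop]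
  have h1 : h ⟨g, hg⟩ = 1 := by
    rw [← Subgroup.mem_bot, ← hbot]; exact ⟨_, rfl⟩
  exact congrArg Subtype.val (Equiv.congr_fun h1 ⟨x, hx⟩)

/-- The action on vectors. -/
def actV : GL8 →* Equiv.Perm Vec where
  toFun M :=
    { toFun := fun v => (M : Matrix (Fin 8) (Fin 8) (ZMod 3)) *ᵥ v
      invFun := fun v => ((M⁻¹ : GL8) : Matrix (Fin 8) (Fin 8) (ZMod 3)) *ᵥ v
      left_inv := inv_mul_vec M
      right_inv := mul_inv_vec M }
  map_one' := by ext v; simp
  map_mul' M N := by ext v; simp [Matrix.mulVec_mulVec]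

theorem actV_apply (M : GL8) (v : Vec) :
    actV M v = (M : Matrix (Fin 8) (Fin 8) (ZMod 3)) *ᵥ v := rfl

theorem actV_neg (M : GL8) (v : Vec) : actV M (-v) = -actV M v := by
  rw [actV_apply, actV_apply, Matrix.mulVec_neg]

/-- The action on sets of vectors. -/
def actS : GL8 →* Equiv.Perm (Finset Vec) where
  toFun M := (actV M).finsetCongr
  map_one' := by
    refine Equiv.ext fun s => ?_
    simp only [map_one, Equiv.finsetCongr_apply]
    exact Finset.map_refl
  map_mul' M N := by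
    refine Equiv.ext fun s => ?_
    simp [Finset.map_map, map_mul]
    rfl

theorem actS_apply (M : GL8) (s : Finset Vec) : actS M s = s.image (actV M) := by
  show (actV M).finsetCongr s = _
  rw [Equiv.finsetCongr_apply, Finset.map_eq_image]
  rfl

/-- A line invariant under a perfect group is fixed pointwise. -/
theorem fix_pm {P : Subgroup GL8} (hP : ⁅P, P⁆ = P) {v : Vec}
    (h : ∀ M ∈ P, actV M v = v ∨ actV M v = -v) {M : GL8} (hM : M ∈ P) : actV M v = v := by
  refine perfect_fix hP actV {v, -v} ((Finset.card_le_two).trans (by norm_num)) ?_ hM (by simp)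
  intro g hg x hx
  simp only [Finset.mem_insert, Finset.mem_singleton] at hx ⊢
  rcases hx with rfl | rfl <;> rcases h g hg with e | e <;> simp [actV_neg, e]

theorem dot_actV {M : GL8} (hM : M ∈ W) (u v : Vec) : actV M u ⬝ᵥ actV M v = u ⬝ᵥ v :=
  dot_map hM u v

theorem actV_root {M : GL8} (hM : M ∈ W) {v : Vec} (hv : v ∈ rootSet) : actV M v ∈ rootSet :=
  map_root hM hv

theorem fix_apply {M : GL8} (hM : M ∈ W) {i : Fin 8} (hi : actV M (ee i) = ee i) (v : Vec) :
    actV M v i = v i := by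
  have e := dot_actV hM (ee i) v
  rwa [hi, ee_dot, ee_dot] at e

theorem eq_one_of_fix_all {M : GL8} (h : ∀ i, actV M (ee i) = ee i) : M = 1 := by
  refine Units.ext ?_
  refine Matrix.ext_of_mulVec_single fun i => ?_
  rw [Units.val_one, Matrix.one_mulVec]
  exact h i

/-! ### Supports -/

/-- Supported in a set of coordinates. -/
def Supp (T : Finset (Fin 8)) (v : Vec) : Prop := ∀ i, i ∉ T → v i = 0

theorem dg_apply (S : Finset (Fin 8)) (v : Vec) (i : Fin 8) :
    actV (dg S) v i = (if i ∈ S then -1 else 1) * v i := Matrix.mulVec_diagonal _ _ i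

theorem eq_zero_of_eq_neg : ∀ x : ZMod 3, x = -x → x = 0 := by decide

theorem dg_neg_iff (S : Finset (Fin 8)) (v : Vec) : actV (dg S) v = -v ↔ Supp S v := by
  refine ⟨fun h i hi => ?_, fun h => funext fun i => ?_⟩
  · have e := congrFun h i
    rw [dg_apply, if_neg hi, one_mul] at e
    exact eq_zero_of_eq_neg _ e
  · rw [dg_apply, Pi.neg_apply]
    split_ifs with hi
    · exact neg_one_mul _
    · rw [h i hi]; simp

theorem dg_eq_iff (S : Finset (Fin 8)) (v : Vec) : actV (dg S) v = v ↔ Supp Sᶜ v := by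
  refine ⟨fun h i hi => ?_, fun h => funext fun i => ?_⟩
  · have e := congrFun h i
    rw [dg_apply, if_pos (by simpa using hi), neg_one_mul] at e
    exact eq_zero_of_eq_neg _ e.symm
  · rw [dg_apply]
    split_ifs with hi
    · rw [h i (by simpa using hi)]; simp
    · exact one_mul _

theorem supp_map {S : Finset (Fin 8)} {M : GL8} (hc : M * dg S = dg S * M) {v : Vec}
    (hv : Supp S v) : Supp S (actV M v) := by
  rw [← dg_neg_iff] at hv ⊢
  rw [← Equiv.Perm.mul_apply, ← map_mul, ← hc, map_mul, Equiv.Perm.mul_apply, hv, actV_neg]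

theorem supp_compl_map {S : Finset (Fin 8)} {M : GL8} (hc : M * dg S = dg S * M) {v : Vec}
    (hv : Supp Sᶜ v) : Supp Sᶜ (actV M v) := by
  rw [← dg_eq_iff] at hv ⊢
  rw [← Equiv.Perm.mul_apply, ← map_mul, ← hc, map_mul, Equiv.Perm.mul_apply, hv]

/-- The roots supported in a block, as lists. -/
def blockL (T : Finset (Fin 8)) : List (List ℕ) :=
  rootL.filter fun l => (List.finRange 8).all fun i => decide (i ∈ T) || l.getD i.val 0 == 0

/-- The coordinate vectors of a block up to sign, as lists. -/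
def pmL (T : Finset (Fin 8)) : List (List ℕ) :=
  ((List.finRange 8).filter fun i => decide (i ∈ T)).flatMap fun i => [unitL i, neL i]

/-- The negative of a list. -/
def negL (l : List ℕ) : List ℕ := l.map fun x => (3 - x) % 3

/-- The members of a block in the frame of a root. -/
def frameL (T : Finset (Fin 8)) (a : List ℕ) : List (List ℕ) :=
  (blockL T).filter fun b => b == a || b == negL a || dotL a b == 0

/-- The numerical facts about a block: few frames, and the frame of a coordinate vector. -/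
def BlockOK (T : Finset (Fin 8)) : Prop :=
  T.card ≤ 4 ∧ ((blockL T).map (frameL T)).dedup.length ≤ 4 ∧
    ∀ i : Fin 8, i ∈ T → unitL i ∈ blockL T ∧
      (∀ b ∈ frameL T (unitL i), b ∈ pmL T) ∧ unitL i ∈ frameL T (unitL i)

theorem mem_blockL {T : Finset (Fin 8)} {v : Vec} :
    toL v ∈ blockL T ↔ toL v ∈ rootL ∧ Supp T v := by
  simp only [blockL, List.mem_filter, List.all_eq_true, List.mem_finRange, Bool.or_eq_true,
    decide_eq_true_eq, beq_iff_eq, toL_getD, forall_const, Supp]
  refine and_congr_right fun _ => forall_congr' fun i => ?_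
  rw [ZMod.val_eq_zero]
  tauto

theorem toL_neg (v : Vec) : toL (-v) = negL (toL v) := by
  simp only [toL, negL, List.map_ofFn, Function.comp_def, Pi.neg_apply]
  congr 1

theorem dotL_iff (u v : Vec) : dotL (toL u) (toL v) = 0 ↔ u ⬝ᵥ v = 0 := by
  have e : (dotL (toL u) (toL v) : ZMod 3) = u ⬝ᵥ v := by
    simp only [dotL, ZMod.natCast_mod, List.sum_ofFn, Nat.cast_sum, Nat.cast_mul, toL_getD,
      ZMod.natCast_zmod_val, dotProduct]
  rw [← e, CharP.cast_eq_zero_iff (ZMod 3) 3]
  exact ⟨fun h => h ▸ dvd_zero _, fun h => Nat.eq_zero_of_dvd_of_lt h (Nat.mod_lt _ (by norm_num))⟩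

theorem mem_frameL {T : Finset (Fin 8)} {v w : Vec} :
    toL w ∈ frameL T (toL v) ↔ toL w ∈ blockL T ∧ (w = v ∨ w = -v ∨ v ⬝ᵥ w = 0) := by
  rw [frameL, List.mem_filter]
  simp only [Bool.or_eq_true, beq_iff_eq, ← toL_neg, dotL_iff, or_assoc]
  exact and_congr_right fun _ => or_congr ⟨toL_inj, congrArg toL⟩ (or_congr ⟨toL_inj, congrArg toL⟩ Iff.rfl)

/-- The vectors of a list of lists. -/
def setOf' (L : List (List ℕ)) : Finset Vec := (L.map vec).toFinset

theorem vec_toL' (v : Vec) : vec (toL v) = v := by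
  funext i
  rw [toL, vec_getD, ZMod.natCast_zmod_val]

theorem mem_setOf' {L : List (List ℕ)} (hL : ∀ l ∈ L, l ∈ rootL) {v : Vec} :
    v ∈ setOf' L ↔ toL v ∈ L := by
  simp only [setOf', List.mem_toFinset, List.mem_map]
  refine ⟨?_, fun h => ⟨_, h, vec_toL' v⟩⟩
  rintro ⟨l, hl, rfl⟩
  rwa [toL_vec l (hL l hl)]

/-- A perfect group preserving the roots of a block fixes its coordinate vectors. -/
theorem fix_block {T : Finset (Fin 8)} (hT : BlockOK T) {P : Subgroup GL8} (hPW : P ≤ W)
    (hP : ⁅P, P⁆ = P)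
    (hinv : ∀ M ∈ P, ∀ v ∈ rootSet, Supp T v → Supp T (actV M v))
    {M : GL8} (hM : M ∈ P) {i : Fin 8} (hi : i ∈ T) : actV M (ee i) = ee i := by
  obtain ⟨hc, hn, hfr⟩ := hT
  have hroot : ∀ {v}, toL v ∈ blockL T → v ∈ rootSet := fun {v} h => by
    rw [← vec_toL' v]; exact mem_rootSet (List.mem_filter.1 h).1
  have hfroot : ∀ a, ∀ l ∈ frameL T a, l ∈ rootL := fun a l h =>
    (List.mem_filter.1 (List.mem_filter.1 h).1).1
  have hB : ∀ M ∈ P, ∀ v, toL v ∈ blockL T → toL (actV M v) ∈ blockL T := fun M hM v hv =>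
    mem_blockL.2 ⟨(toL_mem (actV_root (hPW hM) (hroot hv))).1,
      hinv M hM v (hroot hv) (mem_blockL.1 hv).2⟩
  have hsub : ∀ M ∈ P, ∀ v w, toL w ∈ frameL T (toL v) →
      toL (actV M w) ∈ frameL T (toL (actV M v)) := fun M hM v w hw => by
    rw [mem_frameL] at hw ⊢
    refine ⟨hB M hM w hw.1, ?_⟩
    rcases hw.2 with rfl | rfl | h
    · exact Or.inl rfl
    · exact Or.inr (Or.inl (actV_neg M v))
    · exact Or.inr (Or.inr (by rw [dot_actV (hPW hM), h]))
  have himg : ∀ M ∈ P, ∀ v, actS M (setOf' (frameL T (toL v))) =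
      setOf' (frameL T (toL (actV M v))) := fun M hM v => by
    rw [actS_apply]
    ext w
    rw [Finset.mem_image, mem_setOf' (hfroot _)]
    refine ⟨?_, fun hw => ⟨actV M⁻¹ w, (mem_setOf' (hfroot _)).2 ?_, ?_⟩⟩
    · rintro ⟨u, hu, rfl⟩; exact hsub M hM v u ((mem_setOf' (hfroot _)).1 hu)
    · have := hsub M⁻¹ (inv_mem hM) _ _ hw
      rwa [map_inv, Equiv.Perm.coe_inv, Equiv.symm_apply_apply] at this
    · rw [map_inv, Equiv.Perm.coe_inv, Equiv.apply_symm_apply]
  let S := (((blockL T).map (frameL T)).dedup.map setOf').toFinset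
  have hS : ∀ v, toL v ∈ blockL T → setOf' (frameL T (toL v)) ∈ S := fun v hv => by
    simp only [S, List.mem_toFinset, List.mem_map, List.mem_dedup]
    exact ⟨_, ⟨_, hv, rfl⟩, rfl⟩
  have hScard : S.card ≤ 4 := (List.toFinset_card_le _).trans (by rwa [List.length_map])
  have hpm : ∀ M ∈ P, ∀ i ∈ T, ∃ j ∈ T, actV M (ee i) = ee j ∨ actV M (ee i) = -ee j := by
    intro M hM i hi
    obtain ⟨hb, hp, hs⟩ := hfr i hi
    rw [← toL_ee] at hb hp hs
    have h := perfect_fix hP actS S hScard (fun g hg s hs' => by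
      simp only [S, List.mem_toFinset, List.mem_map, List.mem_dedup] at hs'
      obtain ⟨_, ⟨l, hl, rfl⟩, rfl⟩ := hs'
      have hl' : toL (vec l) = l := toL_vec l (List.mem_filter.1 hl).1
      rw [← hl', himg g hg]
      exact hS _ (hB g hg _ (by rwa [hl']))) hM (hS _ hb)
    have h' := hsub M hM _ _ hs
    rw [← mem_setOf' (hfroot _), ← himg M hM, h, mem_setOf' (hfroot _)] at h'
    have h'' := hp _ h'
    simp only [pmL, List.mem_flatMap, List.mem_filter, List.mem_finRange, decide_eq_true_eq,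
      true_and, List.mem_cons, List.not_mem_nil, or_false] at h''
    obtain ⟨j, hj, e | e⟩ := h''
    · exact ⟨j, hj, Or.inl (toL_inj (e.trans (toL_ee j).symm))⟩
    · refine ⟨j, hj, Or.inr ?_⟩
      rw [← vec_toL' (actV M (ee i)), e, (vec_unitL j).2]
  refine fix_pm hP (fun M hM => ?_) hM
  have h := perfect_fix hP actS (T.image fun i => ({ee i, -ee i} : Finset Vec))
    (Finset.card_image_le.trans hc) (fun g hg s hs => by
      obtain ⟨k, hk, rfl⟩ := Finset.mem_image.1 hs
      obtain ⟨j, hj, e⟩ := hpm g hg k hk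
      refine Finset.mem_image.2 ⟨j, hj, ?_⟩
      rw [actS_apply, Finset.image_insert, Finset.image_singleton, actV_neg]
      rcases e with e | e <;> rw [e] <;> simp [Finset.pair_comm]) hM (Finset.mem_image_of_mem _ hi)
  have h' : actV M (ee i) ∈ actS M ({ee i, -ee i} : Finset Vec) := by
    rw [actS_apply]; exact Finset.mem_image_of_mem _ (by simp)
  rw [h] at h'
  simpa using h'

theorem block_zero : BlockOK {0} := by unfold BlockOK; decide +kernel

theorem block_zero_one : BlockOK {0, 1} := by unfold BlockOK; decide +kernel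

theorem block_tri : BlockOK {0, 1, 2} := by unfold BlockOK; decide +kernel

theorem block_planar : BlockOK {0, 1, 2, 3} := by unfold BlockOK; decide +kernel

theorem block_planar' : BlockOK {4, 5, 6, 7} := by unfold BlockOK; decide +kernel

theorem block_nonplanar : BlockOK {0, 1, 2, 4} := by unfold BlockOK; decide +kernel

theorem block_nonplanar' : BlockOK {3, 5, 6, 7} := by unfold BlockOK; decide +kernel

/-- An element fixing three roots of the frame moves the fourth within its line. -/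
theorem map_ee_three {M : GL8} (hM : M ∈ W) (h0 : actV M (ee 0) = ee 0)
    (h1 : actV M (ee 1) = ee 1) (h2 : actV M (ee 2) = ee 2) :
    actV M (ee 3) = ee 3 ∨ actV M (ee 3) = -ee 3 := by
  refine planar_ee_three (actV_root hM (ee_mem 3)) (fun i hi => ?_) ?_
  · have : i = 0 ∨ i = 1 ∨ i = 2 := by revert hi; revert i; decide
    rcases this with rfl | rfl | rfl
    · rw [fix_apply hM h0]; decide
    · rw [fix_apply hM h1]; decide
    · rw [fix_apply hM h2]; decide
  · have h := planar_map hM planar_ee.1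
    simp only [← actV_apply, h0, h1, h2] at h
    exact h

/-! ### Sign matrices -/

theorem supp_pm_check : ∀ l ∈ rootL, ∀ i : Fin 8,
    (List.finRange 8).all (fun j => j == i || l.getD j.val 0 == 0) = true →
    l = unitL i ∨ l = neL i := by decide +kernel

theorem no_root_check : ∀ l ∈ rootL, l.getD 0 0 = 0 → l.getD 1 0 ≠ 0 → l.getD 3 0 = 0 →
    l.getD 5 0 = 0 → l.getD 7 0 = 0 → l.getD 2 0 ≠ 0 → l.getD 4 0 ≠ 0 → l.getD 6 0 = 0 := by
  decide +kernel

theorem pair_check : ∀ l ∈ blockL {0, 1}, l.getD 1 0 ≠ 0 → l.getD 0 0 = 0 := by decide +kernel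

theorem test_root : ([1, 0, 1, 0, 2, 0, 1, 0] : List ℕ) ∈ rootL := by decide +kernel

theorem sign_sep : ∀ i j : Fin 8,
    ((i ∈ ({2, 3} : Finset (Fin 8)) ↔ j ∈ ({2, 3} : Finset (Fin 8))) ∧
      (i ∈ ({4, 5} : Finset (Fin 8)) ↔ j ∈ ({4, 5} : Finset (Fin 8))) ∧
      (i ∈ ({2, 4} : Finset (Fin 8)) ↔ j ∈ ({2, 4} : Finset (Fin 8))) ∧
      (i ∈ ({2, 6} : Finset (Fin 8)) ↔ j ∈ ({2, 6} : Finset (Fin 8))) ∧
      (i ∈ ({2, 7} : Finset (Fin 8)) ↔ j ∈ ({2, 7} : Finset (Fin 8)))) →
    i = j ∨ ((i = 0 ∨ i = 1) ∧ (j = 0 ∨ j = 1)) := by decide +kernel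

theorem entry_eq_zero {S : Finset (Fin 8)} {M : GL8} (hc : M * dg S = dg S * M) {i j : Fin 8}
    (h : ¬ (i ∈ S ↔ j ∈ S)) : actV M (ee i) j = 0 := by
  by_cases hi : i ∈ S
  · exact supp_map hc (fun k hk => Pi.single_eq_of_ne (fun (e : k = i) => hk (e ▸ hi)) _) j
      fun hj => h ⟨fun _ => hj, fun _ => hi⟩
  · refine supp_compl_map hc (fun k hk => Pi.single_eq_of_ne
      (fun (e : k = i) => hk (Finset.mem_compl.2 (e ▸ hi))) _) j fun hj => h ⟨fun h' => absurd h' hi,
        fun h' => absurd h' (Finset.mem_compl.1 hj)⟩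

/-- The entries of the sign matrix of the first two coordinates. -/
def kd (i : Fin 8) : ZMod 3 := if i ∈ ({0, 1} : Finset (Fin 8)) then -1 else 1

theorem refl_dg_check : ∀ l ∈ rootL,
    (∀ i j : Fin 8, (i.val < 2 ∧ 2 ≤ j.val) → l.getD i.val 0 * l.getD j.val 0 % 3 = 0) →
    l = unitL 0 ∨ l = neL 0 ∨ l = unitL 1 ∨ l = neL 1 ∨
      ∑ i : Fin 8, kd i * (1 + (l.getD i.val 0 : ZMod 3) * (l.getD i.val 0 : ZMod 3)) = 2 := by
  decide +kernel

theorem tri_neg_check : ∀ l ∈ blockL {0, 1, 2}, l = unitL 0 ∨ l = neL 0 ∨ l = unitL 1 ∨ l = neL 1 ∨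
    l = unitL 2 ∨ l = neL 2 := by decide +kernel

theorem eq_of_toL {v : Vec} {i : Fin 8} :
    (toL v = unitL i → v = ee i) ∧ (toL v = neL i → v = -ee i) := by
  constructor <;> intro h <;> rw [← vec_toL' v, h]
  exacts [(vec_unitL i).1, (vec_unitL i).2]

end FixBlock

open FixBlock

variable {P : Subgroup GL8}

theorem fix_one (hP : P ≤ W) (hperf : ⁅P, P⁆ = P) (hc : ∀ M ∈ P, M * dg {0} = dg {0} * M) :
    ∀ M ∈ P, Fix M (ee 0) := fun _ hM =>
  fix_block block_zero hP hperf (fun g hg _ _ hv => supp_map (hc g hg) hv) hM (by simp)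

theorem fix_two (hP : P ≤ W) (hperf : ⁅P, P⁆ = P) (hc : ∀ M ∈ P, M * dg {0, 1} = dg {0, 1} * M) :
    ∀ M ∈ P, Fix M (ee 0) ∧ Fix M (ee 1) := fun _ hM =>
  ⟨fix_block block_zero_one hP hperf (fun g hg _ _ hv => supp_map (hc g hg) hv) hM (by simp),
    fix_block block_zero_one hP hperf (fun g hg _ _ hv => supp_map (hc g hg) hv) hM (by simp)⟩

theorem fix_bot (hP : P ≤ W) (hperf : ⁅P, P⁆ = P) {X : GL8}
    (hX : X ∈ [dg {0, 1, 2}, dg {0, 1, 2, 3}, dg {0, 1, 2, 4}])
    (hc : ∀ M ∈ P, M * X = X * M) : P = ⊥ := by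
  simp only [List.mem_cons, List.not_mem_nil, or_false] at hX
  refine (Subgroup.eq_bot_iff_forall P).2 fun M hM => eq_one_of_fix_all ?_
  rcases hX with rfl | rfl | rfl
  · have h : ∀ g ∈ P, ∀ i ∈ ({0, 1, 2} : Finset (Fin 8)), actV g (ee i) = ee i := fun g hg i hi =>
      fix_block block_tri hP hperf (fun g hg _ _ hv => supp_map (hc g hg) hv) hg hi
    have h3 : ∀ g ∈ P, actV g (ee 3) = ee 3 := fun g hg =>
      fix_pm hperf (fun g hg => map_ee_three (hP hg) (h g hg 0 (by simp)) (h g hg 1 (by simp))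
        (h g hg 2 (by simp))) hg
    have h4 : ∀ g ∈ P, ∀ i ∈ ({4, 5, 6, 7} : Finset (Fin 8)), actV g (ee i) = ee i :=
      fun g hg i hi => fix_block block_planar' hP hperf (fun g hg v _ hv j hj => by
        have hj4 : j = 0 ∨ j = 1 ∨ j = 2 ∨ j = 3 := by revert hj; revert j; decide
        rw [fix_apply (hP hg) ?_, hv j hj]
        rcases hj4 with rfl | rfl | rfl | rfl
        exacts [h g hg _ (by simp), h g hg _ (by simp), h g hg _ (by simp), h3 g hg]) hg hi
    intro i
    fin_cases i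
    exacts [h M hM _ (by simp), h M hM _ (by simp), h M hM _ (by simp), h3 M hM,
      h4 M hM _ (by simp), h4 M hM _ (by simp), h4 M hM _ (by simp), h4 M hM _ (by simp)]
  · intro i
    by_cases hi : i ∈ ({0, 1, 2, 3} : Finset (Fin 8))
    · exact fix_block block_planar hP hperf (fun g hg _ _ hv => supp_map (hc g hg) hv) hM hi
    · have e : ({0, 1, 2, 3} : Finset (Fin 8))ᶜ = {4, 5, 6, 7} := by decide
      refine fix_block block_planar' hP hperf (fun g hg v _ hv => ?_) hM (e ▸ Finset.mem_compl.2 hi)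
      rw [← e] at hv ⊢
      exact supp_compl_map (hc g hg) hv
  · intro i
    by_cases hi : i ∈ ({0, 1, 2, 4} : Finset (Fin 8))
    · exact fix_block block_nonplanar hP hperf (fun g hg _ _ hv => supp_map (hc g hg) hv) hM hi
    · have e : ({0, 1, 2, 4} : Finset (Fin 8))ᶜ = {3, 5, 6, 7} := by decide
      refine fix_block block_nonplanar' hP hperf (fun g hg v _ hv => ?_) hM
        (e ▸ Finset.mem_compl.2 hi)
      rw [← e] at hv ⊢
      exact supp_compl_map (hc g hg) hv

theorem sq_of_commute_six {M : GL8} (hM : M ∈ W)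
    (h : ∀ S ∈ [({2, 3} : Finset (Fin 8)), {4, 5}, {2, 4}, {2, 6}, {2, 7}], M * dg S = dg S * M) :
    M * M = 1 := by
  have key : ∀ i j : Fin 8, actV M (ee i) j ≠ 0 → i = j ∨ ((i = 0 ∨ i = 1) ∧ (j = 0 ∨ j = 1)) :=
    fun i j hne => sign_sep i j
      ⟨by_contra fun h' => hne (entry_eq_zero (h _ (by simp)) h'),
        by_contra fun h' => hne (entry_eq_zero (h _ (by simp)) h'),
        by_contra fun h' => hne (entry_eq_zero (h _ (by simp)) h'),
        by_contra fun h' => hne (entry_eq_zero (h _ (by simp)) h'),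
        by_contra fun h' => hne (entry_eq_zero (h _ (by simp)) h')⟩
  have hbig : ∀ i : Fin 8, (∀ j, j ≠ i → actV M (ee i) j = 0) →
      actV M (ee i) = ee i ∨ actV M (ee i) = -ee i := by
    intro i hz
    rcases supp_pm_check _ (toL_mem (actV_root hM (ee_mem i))).1 i (by
      simp only [List.all_eq_true, List.mem_finRange, Bool.or_eq_true, beq_iff_eq, toL_getD,
        ZMod.val_eq_zero, forall_const]
      intro j
      by_cases hj : j = i
      · exact Or.inl hj
      · exact Or.inr (hz j hj)) with e | e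
    exacts [Or.inl (eq_of_toL.1 e), Or.inr (eq_of_toL.2 e)]
  have htail : ∀ i : Fin 8, i ≠ 0 → i ≠ 1 → ∀ j, j ≠ i → actV M (ee i) j = 0 := fun i a b j hj => by
    by_contra hne
    rcases key i j hne with e | ⟨e | e, -⟩
    exacts [hj e.symm, a e, b e]
  have h00 : actV M (ee 0) 1 = 0 := by
    by_contra h1
    have hr := toL_mem (actV_root hM (mem_rootSet test_root))
    have hs : vec [1, 0, 1, 0, 2, 0, 1, 0] = ee 0 + ee 2 + (2 : ZMod 3) • ee 4 + ee 6 := by
      decide +kernel
    have hv : ∀ j : Fin 8, actV M (vec [1, 0, 1, 0, 2, 0, 1, 0]) j =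
        actV M (ee 0) j + actV M (ee 2) j + 2 * actV M (ee 4) j + actV M (ee 6) j := fun j => by
      rw [hs]
      simp only [actV_apply, Matrix.mulVec_add, Matrix.mulVec_smul, Pi.add_apply, Pi.smul_apply,
        smul_eq_mul]
    have z : ∀ j : Fin 8, j ≠ 1 → actV M (ee 0) j = 0 := by
      intro j hj
      by_contra hne
      have hj0 : j = 0 := by
        rcases key 0 j hne with e | ⟨-, e | e⟩
        exacts [e.symm, e, absurd e hj]
      subst hj0
      have hsupp : Supp {0, 1} (actV M (ee 0)) := fun i hi => by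
        by_contra hi'
        rcases key 0 i hi' with e | ⟨-, e | e⟩ <;> simp [← e] at hi <;> simp [e] at hi
      have := pair_check _ (mem_blockL.2 ⟨(toL_mem (actV_root hM (ee_mem 0))).1, hsupp⟩)
      rw [show (1 : ℕ) = (1 : Fin 8).val from rfl, show (toL (actV M (ee 0))).getD 0 0 =
        (toL (actV M (ee 0))).getD (0 : Fin 8).val 0 from rfl, toL_getD, toL_getD, ne_eq,
        ZMod.val_eq_zero, ZMod.val_eq_zero] at this
      exact hne (this h1)
    refine (fun h6 e => h6 e : ∀ {p : Prop}, ¬p → p → False) ?_ (no_root_check _ hr.1 ?_ ?_ ?_ ?_ ?_ ?_ ?_)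
    all_goals
      simp only [show ∀ n (hn : n < 8), (toL (actV M (vec [1, 0, 1, 0, 2, 0, 1, 0]))).getD n 0 =
        (actV M (vec [1, 0, 1, 0, 2, 0, 1, 0]) ⟨n, hn⟩).val from fun n hn => toL_getD _ ⟨n, hn⟩,
        Nat.reduceLT, ne_eq, ZMod.val_eq_zero]
      rw [hv]
      simp (disch := decide) only [z, htail 2 (by decide) (by decide), htail 4 (by decide) (by decide),
        htail 6 (by decide) (by decide), mul_zero, add_zero, zero_add]
    all_goals
      first
      | exact h1
      | (rcases hbig 2 (htail 2 (by decide) (by decide)) with e | e <;> rw [e] <;> decide +kernel)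
      | (rcases hbig 4 (htail 4 (by decide) (by decide)) with e | e <;> rw [e] <;> decide +kernel)
      | (rcases hbig 6 (htail 6 (by decide) (by decide)) with e | e <;> rw [e] <;> decide +kernel)
  have h0 : actV M (ee 0) = ee 0 ∨ actV M (ee 0) = -ee 0 := hbig 0 fun j hj => by
    by_contra hne
    rcases key 0 j hne with e | ⟨-, e | e⟩
    exacts [hj e.symm, hj e, hne (e ▸ h00)]
  have h1 : actV M (ee 1) = ee 1 ∨ actV M (ee 1) = -ee 1 := hbig 1 fun j hj => by
    by_contra hne
    rcases key 1 j hne with e | ⟨-, e | e⟩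
    · exact hj e.symm
    · subst e
      have h' := dot_actV hM (ee 0) (ee 1)
      rcases h0 with e' | e' <;> rw [e'] at h' <;> simp [neg_dotProduct, ee_dot] at h' <;>
        exact hne h'
    · exact hj e
  have hall : ∀ i, actV M (ee i) = ee i ∨ actV M (ee i) = -ee i := fun i => by
    by_cases a : i = 0
    · exact a ▸ h0
    by_cases b : i = 1
    · exact b ▸ h1
    exact hbig i (htail i a b)
  refine eq_one_of_fix_all fun i => ?_
  rw [map_mul, Equiv.Perm.mul_apply]
  rcases hall i with e | e <;> rw [e]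
  · exact e
  · rw [actV_neg, e, neg_neg]

theorem root_pair {a : Vec} (ha : a ∈ rootSet) (h : refl a * dg {0, 1} = dg {0, 1} * refl a) :
    a = ee 0 ∨ a = -ee 0 ∨ a = ee 1 ∨ a = -ee 1 ∨
      ((dg {0, 1} : Matrix (Fin 8) (Fin 8) (ZMod 3)) * refl a).trace = 2 := by
  have e : (dg ({0, 1} : Finset (Fin 8)) : Matrix (Fin 8) (Fin 8) (ZMod 3)) = Matrix.diagonal kd := rfl
  have hc : reflM a * Matrix.diagonal kd = Matrix.diagonal kd * reflM a := by
    rw [← refl_val (dot_self ha), ← e, ← Units.val_mul, ← Units.val_mul, h]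
  have hh := refl_dg_check _ (toL_mem ha).1 fun i j hij => by
    have h' := congrFun (congrFun hc i) j
    rw [Matrix.mul_diagonal, Matrix.diagonal_mul, reflM, Matrix.add_apply,
      Matrix.one_apply_ne (fun e : i = j => by subst e; omega), zero_add,
      Matrix.vecMulVec_apply] at h'
    have ki : kd i = -1 := if_pos (by
      simp only [Finset.mem_insert, Finset.mem_singleton, Fin.ext_iff, Fin.val_zero, Fin.val_one]
      omega)
    have kj : kd j = 1 := if_neg (by
      simp only [Finset.mem_insert, Finset.mem_singleton, Fin.ext_iff, Fin.val_zero, Fin.val_one]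
      omega)
    rw [ki, kj, mul_one, neg_one_mul] at h'
    rw [toL_getD, toL_getD, ← ZMod.val_mul, eq_zero_of_eq_neg _ h', ZMod.val_zero]
  simp only [toL_getD, ZMod.natCast_zmod_val] at hh
  rcases hh with e' | e' | e' | e' | e'
  · exact Or.inl (eq_of_toL.1 e')
  · exact Or.inr (Or.inl (eq_of_toL.2 e'))
  · exact Or.inr (Or.inr (Or.inl (eq_of_toL.1 e')))
  · exact Or.inr (Or.inr (Or.inr (Or.inl (eq_of_toL.2 e'))))
  · refine Or.inr (Or.inr (Or.inr (Or.inr ?_)))
    rw [refl_val (dot_self ha), e, Matrix.trace, ← e']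
    simp [Matrix.diag, Matrix.diagonal_mul, reflM, Matrix.vecMulVec_apply]

theorem commute_refl {a b : Vec} (ha : a ∈ rootSet) (hb : b ∈ rootSet)
    (h : refl a * refl b = refl b * refl a) : a ⬝ᵥ b = 0 ∨ a = b ∨ a = -b := by
  have h' := Equiv.congr_fun (congrArg actV h) a
  simp only [map_mul, Equiv.Perm.mul_apply, actV_apply, refl_vec ha, refl_vec hb, dotProduct_add,
    dotProduct_smul, dot_self ha, smul_eq_mul, dotProduct_comm b a, one_smul] at h'
  by_cases hab : a ⬝ᵥ b = 0
  · exact Or.inl hab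
  refine Or.inr ?_
  obtain ⟨c, hc⟩ : ∃ c, c = a ⬝ᵥ b := ⟨_, rfl⟩
  rw [← hc] at h' hab
  have key : ∀ i, a i = c * b i := fun i => by
    have e := congrFun h' i
    simp only [Pi.add_apply, Pi.smul_apply, smul_eq_mul] at e
    exact (by decide : ∀ c x y : ZMod 3, c ≠ 0 →
      x + c * y + (1 + c * c) * x = x + x + (c + c) * y → x = c * y) c (a i) (b i) hab e
  rcases (by decide : ∀ x : ZMod 3, x ≠ 0 → x = 1 ∨ x = -1) c hab with rfl | rfl
  · exact Or.inl (funext fun i => by rw [key i, one_mul])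
  · exact Or.inr (funext fun i => by rw [key i, neg_one_mul, Pi.neg_apply])

theorem tri_neg {a : Vec} (ha : a ∈ rootSet)
    (h : (dg {0, 1, 2} : Matrix (Fin 8) (Fin 8) (ZMod 3)) *ᵥ a = -a) :
    a = ee 0 ∨ a = -ee 0 ∨ a = ee 1 ∨ a = -ee 1 ∨ a = ee 2 ∨ a = -ee 2 := by
  rcases tri_neg_check _ (mem_blockL.2 ⟨(toL_mem ha).1, (dg_neg_iff _ _).1 h⟩) with
    e | e | e | e | e | e
  · exact Or.inl (eq_of_toL.1 e)
  · exact Or.inr (Or.inl (eq_of_toL.2 e))
  · exact Or.inr (Or.inr (Or.inl (eq_of_toL.1 e)))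
  · exact Or.inr (Or.inr (Or.inr (Or.inl (eq_of_toL.2 e))))
  · exact Or.inr (Or.inr (Or.inr (Or.inr (Or.inl (eq_of_toL.1 e)))))
  · exact Or.inr (Or.inr (Or.inr (Or.inr (Or.inr (eq_of_toL.2 e)))))

end CfsgLib.StdForm.OmegaEight
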