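import Cfsg.Agent.Lib.StdForm.OmegaEight.Basic

/-!
Orbit trees for the stabilisers of one and of two coordinate roots.
-/

set_option autoImplicit false

namespace CfsgLib.StdForm.OmegaEight

/-- The roots orthogonal to the first 1 coordinate roots, in tree order. -/
def orbit1L : List (List ℕ) := [
  [0, 1, 0, 0, 0, 0, 0, 0], [0, 2, 1, 0, 1, 0, 0, 2],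
  [0, 2, 0, 0, 0, 0, 0, 0], [0, 2, 0, 2, 0, 1, 0, 1],
  [0, 2, 2, 0, 2, 0, 0, 2], [0, 2, 2, 0, 0, 2, 1, 0],
  [0, 2, 0, 1, 0, 1, 0, 1], [0, 2, 0, 1, 0, 2, 0, 1],
  [0, 2, 0, 1, 2, 0, 2, 0], [0, 2, 2, 0, 1, 0, 0, 2],
  [0, 2, 0, 2, 0, 2, 0, 1], [0, 2, 1, 0, 0, 1, 1, 0],
  [0, 2, 0, 2, 2, 0, 2, 0], [0, 2, 2, 0, 2, 0, 0, 1],
  [0, 2, 2, 0, 0, 1, 1, 0], [0, 2, 0, 2, 1, 0, 2, 0],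
  [0, 2, 1, 0, 2, 0, 0, 2], [0, 2, 1, 0, 0, 2, 1, 0],
  [0, 2, 1, 0, 2, 0, 0, 1], [0, 2, 0, 1, 0, 2, 0, 2],
  [0, 2, 2, 0, 0, 2, 2, 0], [0, 2, 0, 1, 1, 0, 2, 0],
  [0, 2, 1, 0, 1, 0, 0, 1], [0, 2, 1, 0, 0, 1, 2, 0],
  [0, 2, 0, 2, 0, 2, 0, 2], [0, 2, 0, 1, 2, 0, 1, 0],
  [0, 2, 2, 0, 1, 0, 0, 1], [0, 2, 0, 2, 0, 1, 0, 2],
  [0, 2, 2, 0, 0, 1, 2, 0], [0, 2, 0, 2, 1, 0, 1, 0],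
  [0, 2, 0, 2, 2, 0, 1, 0], [0, 2, 0, 1, 0, 1, 0, 2],
  [0, 2, 0, 1, 1, 0, 1, 0], [0, 2, 1, 0, 0, 2, 2, 0],
  [0, 1, 1, 0, 1, 0, 0, 2], [0, 0, 1, 2, 1, 1, 0, 0],
  [0, 0, 0, 0, 0, 0, 0, 1], [0, 0, 0, 0, 1, 2, 1, 2],
  [0, 0, 1, 1, 1, 1, 0, 0], [0, 0, 1, 1, 1, 2, 0, 0],
  [0, 0, 1, 1, 0, 0, 2, 2], [0, 0, 1, 2, 1, 2, 0, 0],
  [0, 0, 1, 2, 0, 0, 2, 2], [0, 1, 2, 0, 2, 0, 0, 1],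
  [0, 0, 0, 0, 1, 1, 1, 2], [0, 0, 2, 0, 0, 0, 0, 0],
  [0, 0, 0, 0, 1, 2, 2, 2], [0, 0, 1, 1, 0, 0, 1, 2],
  [0, 0, 0, 0, 2, 0, 0, 0], [0, 0, 0, 0, 1, 1, 2, 2],
  [0, 0, 1, 2, 0, 0, 1, 2], [0, 1, 0, 1, 0, 2, 0, 2],
  [0, 1, 1, 0, 1, 0, 0, 1], [0, 1, 1, 0, 0, 1, 2, 0],
  [0, 1, 0, 2, 0, 2, 0, 2], [0, 1, 0, 2, 0, 1, 0, 2],
  [0, 1, 0, 2, 1, 0, 1, 0], [0, 1, 1, 0, 2, 0, 0, 1],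
  [0, 1, 0, 1, 0, 1, 0, 2], [0, 1, 2, 0, 0, 2, 2, 0],
  [0, 1, 0, 1, 1, 0, 1, 0], [0, 1, 1, 0, 0, 2, 2, 0],
  [0, 1, 0, 1, 2, 0, 1, 0], [0, 1, 2, 0, 1, 0, 0, 1],
  [0, 1, 2, 0, 0, 1, 2, 0], [0, 1, 2, 0, 1, 0, 0, 2],
  [0, 1, 0, 2, 0, 1, 0, 1], [0, 1, 1, 0, 0, 1, 1, 0],
  [0, 1, 0, 2, 2, 0, 1, 0], [0, 1, 2, 0, 2, 0, 0, 2],
  [0, 1, 2, 0, 0, 2, 1, 0], [0, 1, 0, 1, 0, 1, 0, 1],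
  [0, 1, 0, 2, 1, 0, 2, 0], [0, 1, 1, 0, 2, 0, 0, 2],
  [0, 1, 0, 1, 0, 2, 0, 1], [0, 1, 1, 0, 0, 2, 1, 0],
  [0, 1, 0, 1, 2, 0, 2, 0], [0, 1, 0, 1, 1, 0, 2, 0],
  [0, 1, 0, 2, 0, 2, 0, 1], [0, 1, 0, 2, 2, 0, 2, 0],
  [0, 1, 2, 0, 0, 1, 1, 0], [0, 0, 2, 2, 2, 1, 0, 0],
  [0, 0, 2, 2, 0, 0, 1, 1], [0, 0, 0, 0, 0, 0, 0, 2],
  [0, 0, 0, 0, 2, 1, 2, 1], [0, 0, 2, 2, 1, 1, 0, 0],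
  [0, 0, 1, 2, 2, 1, 0, 0], [0, 0, 1, 2, 0, 0, 1, 1],
  [0, 0, 2, 2, 0, 0, 2, 1], [0, 0, 0, 0, 1, 1, 2, 1],
  [0, 0, 0, 1, 0, 0, 0, 0], [0, 0, 0, 0, 2, 1, 1, 1],
  [0, 0, 0, 0, 0, 2, 0, 0], [0, 0, 0, 0, 1, 1, 1, 1],
  [0, 0, 1, 2, 0, 0, 2, 1], [0, 0, 2, 1, 2, 1, 0, 0],
  [0, 0, 2, 1, 2, 2, 0, 0], [0, 0, 2, 2, 2, 2, 0, 0],
  [0, 0, 0, 0, 2, 1, 1, 2], [0, 0, 2, 2, 0, 0, 2, 2],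
  [0, 0, 0, 0, 2, 2, 1, 2], [0, 0, 0, 0, 1, 0, 0, 0],
  [0, 0, 2, 1, 0, 0, 2, 2], [0, 0, 0, 0, 2, 1, 2, 2],
  [0, 0, 1, 0, 0, 0, 0, 0], [0, 0, 2, 2, 0, 0, 1, 2],
  [0, 0, 2, 1, 0, 0, 1, 2], [0, 0, 0, 0, 2, 2, 2, 2],
  [0, 0, 2, 1, 0, 0, 1, 1], [0, 0, 0, 0, 0, 0, 2, 0],
  [0, 0, 2, 2, 1, 2, 0, 0], [0, 0, 0, 0, 2, 2, 1, 1],
  [0, 0, 2, 1, 1, 2, 0, 0], [0, 0, 0, 0, 1, 2, 1, 1],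
  [0, 0, 0, 0, 0, 1, 0, 0], [0, 0, 2, 1, 1, 1, 0, 0],
  [0, 0, 1, 1, 2, 1, 0, 0], [0, 0, 1, 1, 0, 0, 1, 1],
  [0, 0, 0, 2, 0, 0, 0, 0], [0, 0, 2, 1, 0, 0, 2, 1],
  [0, 0, 1, 1, 0, 0, 2, 1], [0, 0, 0, 0, 2, 2, 2, 1],
  [0, 0, 0, 0, 1, 2, 2, 1], [0, 0, 1, 1, 2, 2, 0, 0],
  [0, 0, 0, 0, 0, 0, 1, 0], [0, 0, 1, 2, 2, 2, 0, 0]]

/-- The steps of the tree: parent and reflecting root. -/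
def orbit1Steps : List (ℕ × List ℕ) := [
  (0, [0, 2, 2, 0, 2, 0, 0, 1]), (0, [0, 1, 0, 0, 0, 0, 0, 0]),
  (0, [0, 2, 0, 1, 0, 2, 0, 2]), (0, [0, 2, 1, 0, 1, 0, 0, 1]),
  (0, [0, 2, 1, 0, 0, 1, 2, 0]), (0, [0, 2, 0, 2, 0, 2, 0, 2]),
  (0, [0, 1, 0, 1, 0, 2, 0, 1]), (0, [0, 1, 0, 1, 2, 0, 2, 0]),
  (0, [0, 1, 2, 0, 1, 0, 0, 2]), (0, [0, 1, 0, 2, 0, 2, 0, 1]),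
  (0, [0, 1, 1, 0, 0, 1, 1, 0]), (0, [0, 1, 0, 2, 2, 0, 2, 0]),
  (0, [0, 2, 1, 0, 1, 0, 0, 2]), (0, [0, 1, 2, 0, 0, 1, 1, 0]),
  (0, [0, 2, 0, 1, 2, 0, 1, 0]), (0, [0, 2, 2, 0, 1, 0, 0, 1]),
  (0, [0, 2, 2, 0, 0, 1, 2, 0]), (0, [0, 2, 2, 0, 1, 0, 0, 2]),
  (0, [0, 1, 0, 1, 0, 2, 0, 2]), (0, [0, 2, 1, 0, 0, 1, 1, 0]),
  (0, [0, 2, 0, 2, 2, 0, 1, 0]), (0, [0, 1, 1, 0, 1, 0, 0, 1]),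
  (0, [0, 1, 1, 0, 0, 1, 2, 0]), (0, [0, 1, 0, 2, 0, 2, 0, 2]),
  (0, [0, 1, 0, 1, 2, 0, 1, 0]), (0, [0, 1, 2, 0, 1, 0, 0, 1]),
  (0, [0, 2, 0, 1, 0, 2, 0, 1]), (0, [0, 1, 2, 0, 0, 1, 2, 0]),
  (0, [0, 2, 0, 1, 2, 0, 2, 0]), (0, [0, 1, 0, 2, 2, 0, 1, 0]),
  (0, [0, 2, 0, 2, 0, 2, 0, 1]), (0, [0, 2, 0, 2, 2, 0, 2, 0]),
  (0, [0, 2, 2, 0, 0, 1, 1, 0]), (1, [0, 1, 0, 0, 0, 0, 0, 0]),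
  (1, [0, 2, 0, 1, 0, 2, 0, 2]), (1, [0, 2, 1, 0, 1, 0, 0, 1]),
  (1, [0, 2, 1, 0, 0, 1, 2, 0]), (1, [0, 2, 0, 2, 0, 2, 0, 2]),
  (1, [0, 1, 0, 1, 0, 2, 0, 1]), (1, [0, 1, 0, 1, 2, 0, 2, 0]),
  (1, [0, 1, 0, 2, 0, 2, 0, 1]), (1, [0, 1, 0, 2, 2, 0, 2, 0]),
  (1, [0, 2, 1, 0, 1, 0, 0, 2]), (1, [0, 1, 2, 0, 0, 1, 1, 0]),
  (1, [0, 2, 2, 0, 1, 0, 0, 2]), (1, [0, 2, 1, 0, 0, 1, 1, 0]),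
  (1, [0, 1, 0, 1, 2, 0, 1, 0]), (1, [0, 1, 2, 0, 1, 0, 0, 1]),
  (1, [0, 1, 2, 0, 0, 1, 2, 0]), (1, [0, 1, 0, 2, 2, 0, 1, 0]),
  (2, [0, 2, 0, 1, 0, 2, 0, 2]), (2, [0, 2, 1, 0, 1, 0, 0, 1]),
  (2, [0, 2, 1, 0, 0, 1, 2, 0]), (2, [0, 2, 0, 2, 0, 2, 0, 2]),
  (2, [0, 1, 0, 1, 0, 2, 0, 1]), (2, [0, 1, 0, 1, 2, 0, 2, 0]),
  (2, [0, 1, 2, 0, 1, 0, 0, 2]), (2, [0, 1, 0, 2, 0, 2, 0, 1]),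
  (2, [0, 1, 1, 0, 0, 1, 1, 0]), (2, [0, 1, 0, 2, 2, 0, 2, 0]),
  (2, [0, 1, 2, 0, 0, 1, 1, 0]), (2, [0, 2, 0, 1, 2, 0, 1, 0]),
  (2, [0, 2, 2, 0, 1, 0, 0, 1]), (2, [0, 2, 2, 0, 0, 1, 2, 0]),
  (2, [0, 2, 2, 0, 1, 0, 0, 2]), (2, [0, 1, 0, 1, 0, 2, 0, 2]),
  (2, [0, 2, 1, 0, 0, 1, 1, 0]), (2, [0, 2, 0, 2, 2, 0, 1, 0]),
  (2, [0, 1, 1, 0, 1, 0, 0, 1]), (2, [0, 1, 1, 0, 0, 1, 2, 0]),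
  (2, [0, 1, 0, 2, 0, 2, 0, 2]), (2, [0, 1, 0, 1, 2, 0, 1, 0]),
  (2, [0, 1, 2, 0, 1, 0, 0, 1]), (2, [0, 2, 0, 1, 0, 2, 0, 1]),
  (2, [0, 1, 2, 0, 0, 1, 2, 0]), (2, [0, 2, 0, 1, 2, 0, 2, 0]),
  (2, [0, 1, 0, 2, 2, 0, 1, 0]), (2, [0, 2, 0, 2, 0, 2, 0, 1]),
  (2, [0, 2, 0, 2, 2, 0, 2, 0]), (2, [0, 2, 2, 0, 0, 1, 1, 0]),
  (3, [0, 2, 1, 0, 1, 0, 0, 1]), (3, [0, 2, 1, 0, 0, 1, 2, 0]),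
  (3, [0, 1, 0, 1, 0, 2, 0, 1]), (3, [0, 1, 0, 1, 2, 0, 2, 0]),
  (3, [0, 1, 2, 0, 1, 0, 0, 2]), (3, [0, 2, 2, 0, 1, 0, 0, 1]),
  (3, [0, 2, 2, 0, 0, 1, 2, 0]), (3, [0, 2, 1, 0, 0, 1, 1, 0]),
  (3, [0, 2, 0, 2, 2, 0, 1, 0]), (3, [0, 1, 0, 2, 0, 2, 0, 2]),
  (3, [0, 1, 0, 1, 2, 0, 1, 0]), (3, [0, 2, 0, 2, 0, 2, 0, 1]),
  (3, [0, 2, 0, 2, 2, 0, 2, 0]), (3, [0, 2, 2, 0, 0, 1, 1, 0]),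
  (4, [0, 2, 0, 2, 0, 2, 0, 2]), (4, [0, 1, 0, 1, 0, 2, 0, 1]),
  (4, [0, 1, 0, 2, 0, 2, 0, 1]), (4, [0, 1, 1, 0, 0, 1, 1, 0]),
  (4, [0, 2, 0, 1, 2, 0, 1, 0]), (4, [0, 2, 2, 0, 0, 1, 2, 0]),
  (4, [0, 2, 2, 0, 1, 0, 0, 2]), (4, [0, 2, 0, 2, 2, 0, 1, 0]),
  (4, [0, 1, 1, 0, 0, 1, 2, 0]), (4, [0, 1, 2, 0, 1, 0, 0, 1]),
  (4, [0, 2, 0, 1, 2, 0, 2, 0]), (4, [0, 2, 0, 2, 2, 0, 2, 0]),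
  (4, [0, 2, 2, 0, 0, 1, 1, 0]), (5, [0, 2, 0, 2, 0, 2, 0, 2]),
  (5, [0, 1, 1, 0, 0, 1, 1, 0]), (5, [0, 2, 0, 1, 2, 0, 1, 0]),
  (5, [0, 2, 2, 0, 1, 0, 0, 2]), (5, [0, 2, 0, 2, 2, 0, 1, 0]),
  (5, [0, 1, 1, 0, 1, 0, 0, 1]), (5, [0, 2, 2, 0, 0, 1, 1, 0]),
  (6, [0, 1, 2, 0, 1, 0, 0, 2]), (6, [0, 2, 2, 0, 1, 0, 0, 1]),
  (6, [0, 2, 2, 0, 0, 1, 2, 0]), (6, [0, 1, 0, 1, 0, 2, 0, 2]),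
  (6, [0, 2, 1, 0, 0, 1, 1, 0]), (6, [0, 2, 2, 0, 0, 1, 1, 0]),
  (7, [0, 1, 0, 2, 2, 0, 2, 0]), (7, [0, 2, 0, 1, 2, 0, 1, 0]),
  (7, [0, 2, 2, 0, 1, 0, 0, 1]), (8, [0, 2, 0, 1, 2, 0, 1, 0]),
  (10, [0, 2, 2, 0, 1, 0, 0, 1])]

/-- The roots orthogonal to the first 2 coordinate roots, in tree order. -/
def orbit2L : List (List ℕ) := [
  [0, 0, 1, 0, 0, 0, 0, 0], [0, 0, 2, 2, 2, 2, 0, 0],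
  [0, 0, 2, 1, 2, 2, 0, 0], [0, 0, 2, 1, 2, 1, 0, 0],
  [0, 0, 2, 1, 0, 0, 1, 1], [0, 0, 2, 2, 1, 1, 0, 0],
  [0, 0, 2, 2, 2, 1, 0, 0], [0, 0, 2, 2, 0, 0, 1, 1],
  [0, 0, 2, 1, 1, 1, 0, 0], [0, 0, 2, 1, 1, 2, 0, 0],
  [0, 0, 2, 1, 0, 0, 2, 2], [0, 0, 2, 2, 1, 2, 0, 0],
  [0, 0, 2, 2, 0, 0, 2, 2], [0, 0, 2, 1, 0, 0, 2, 1],
  [0, 0, 2, 0, 0, 0, 0, 0], [0, 0, 2, 2, 0, 0, 2, 1],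
  [0, 0, 2, 1, 0, 0, 1, 2], [0, 0, 2, 2, 0, 0, 1, 2],
  [0, 0, 0, 0, 1, 0, 0, 0], [0, 0, 0, 0, 2, 2, 1, 1],
  [0, 0, 0, 1, 0, 0, 0, 0], [0, 0, 1, 1, 1, 1, 0, 0],
  [0, 0, 0, 0, 0, 1, 0, 0], [0, 0, 0, 0, 2, 2, 2, 2],
  [0, 0, 0, 0, 2, 2, 2, 1], [0, 0, 1, 2, 2, 2, 0, 0],
  [0, 0, 0, 0, 2, 2, 1, 2], [0, 0, 1, 2, 1, 1, 0, 0],
  [0, 0, 0, 2, 0, 0, 0, 0], [0, 0, 1, 1, 2, 2, 0, 0],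
  [0, 0, 0, 0, 0, 2, 0, 0], [0, 0, 0, 0, 2, 1, 1, 1],
  [0, 0, 1, 2, 1, 2, 0, 0], [0, 0, 0, 0, 2, 1, 2, 2],
  [0, 0, 1, 1, 2, 1, 0, 0], [0, 0, 0, 0, 2, 1, 2, 1],
  [0, 0, 0, 0, 2, 1, 1, 2], [0, 0, 0, 0, 1, 1, 1, 1],
  [0, 0, 0, 0, 1, 2, 1, 1], [0, 0, 1, 2, 0, 0, 2, 2],
  [0, 0, 1, 1, 0, 0, 1, 1], [0, 0, 0, 0, 0, 0, 0, 2],
  [0, 0, 0, 0, 0, 0, 2, 0], [0, 0, 0, 0, 2, 0, 0, 0],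
  [0, 0, 0, 0, 1, 1, 2, 2], [0, 0, 0, 0, 1, 1, 2, 1],
  [0, 0, 0, 0, 1, 1, 1, 2], [0, 0, 1, 1, 1, 2, 0, 0],
  [0, 0, 1, 2, 2, 1, 0, 0], [0, 0, 1, 1, 0, 0, 2, 2],
  [0, 0, 1, 2, 0, 0, 1, 1], [0, 0, 0, 0, 1, 2, 2, 2],
  [0, 0, 0, 0, 1, 2, 2, 1], [0, 0, 0, 0, 1, 2, 1, 2],
  [0, 0, 0, 0, 0, 0, 1, 0], [0, 0, 0, 0, 0, 0, 0, 1],
  [0, 0, 1, 1, 0, 0, 2, 1], [0, 0, 1, 2, 0, 0, 1, 2],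
  [0, 0, 1, 1, 0, 0, 1, 2], [0, 0, 1, 2, 0, 0, 2, 1]]

/-- The steps of the tree: parent and reflecting root. -/
def orbit2Steps : List (ℕ × List ℕ) := [
  (0, [0, 0, 1, 2, 2, 2, 0, 0]), (0, [0, 0, 1, 1, 2, 2, 0, 0]),
  (0, [0, 0, 2, 2, 1, 2, 0, 0]), (0, [0, 0, 2, 2, 0, 0, 2, 2]),
  (0, [0, 0, 2, 1, 2, 2, 0, 0]), (0, [0, 0, 2, 1, 1, 2, 0, 0]),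
  (0, [0, 0, 2, 1, 0, 0, 2, 2]), (0, [0, 0, 2, 2, 2, 2, 0, 0]),
  (0, [0, 0, 1, 1, 1, 2, 0, 0]), (0, [0, 0, 1, 1, 0, 0, 2, 2]),
  (0, [0, 0, 1, 2, 1, 2, 0, 0]), (0, [0, 0, 1, 2, 0, 0, 2, 2]),
  (0, [0, 0, 2, 2, 0, 0, 1, 2]), (0, [0, 0, 2, 0, 0, 0, 0, 0]),
  (0, [0, 0, 1, 2, 0, 0, 2, 1]), (0, [0, 0, 2, 2, 0, 0, 2, 1]),
  (0, [0, 0, 2, 1, 0, 0, 2, 1]), (1, [0, 0, 2, 2, 1, 2, 0, 0]),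
  (1, [0, 0, 2, 2, 0, 0, 2, 2]), (1, [0, 0, 2, 1, 2, 2, 0, 0]),
  (1, [0, 0, 2, 2, 2, 2, 0, 0]), (1, [0, 0, 1, 1, 1, 2, 0, 0]),
  (1, [0, 0, 1, 1, 0, 0, 2, 2]), (1, [0, 0, 2, 2, 0, 0, 1, 2]),
  (1, [0, 0, 2, 0, 0, 0, 0, 0]), (1, [0, 0, 2, 2, 0, 0, 2, 1]),
  (2, [0, 0, 2, 1, 2, 2, 0, 0]), (2, [0, 0, 2, 2, 2, 2, 0, 0]),
  (2, [0, 0, 2, 0, 0, 0, 0, 0]), (3, [0, 0, 2, 1, 2, 2, 0, 0]),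
  (3, [0, 0, 2, 1, 0, 0, 2, 2]), (3, [0, 0, 1, 2, 1, 2, 0, 0]),
  (3, [0, 0, 1, 2, 0, 0, 2, 2]), (3, [0, 0, 2, 0, 0, 0, 0, 0]),
  (3, [0, 0, 1, 2, 0, 0, 2, 1]), (3, [0, 0, 2, 1, 0, 0, 2, 1]),
  (4, [0, 0, 2, 1, 2, 2, 0, 0]), (4, [0, 0, 1, 2, 1, 2, 0, 0]),
  (4, [0, 0, 1, 2, 0, 0, 2, 2]), (4, [0, 0, 2, 0, 0, 0, 0, 0]),
  (4, [0, 0, 1, 2, 0, 0, 2, 1]), (4, [0, 0, 2, 1, 0, 0, 2, 1]),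
  (5, [0, 0, 1, 1, 1, 2, 0, 0]), (5, [0, 0, 1, 1, 0, 0, 2, 2]),
  (5, [0, 0, 2, 2, 0, 0, 1, 2]), (5, [0, 0, 2, 2, 0, 0, 2, 1]),
  (6, [0, 0, 1, 1, 1, 2, 0, 0]), (6, [0, 0, 2, 0, 0, 0, 0, 0]),
  (7, [0, 0, 1, 1, 0, 0, 2, 2]), (7, [0, 0, 2, 0, 0, 0, 0, 0]),
  (9, [0, 0, 1, 2, 0, 0, 2, 2]), (9, [0, 0, 1, 2, 0, 0, 2, 1]),
  (9, [0, 0, 2, 1, 0, 0, 2, 1]), (10, [0, 0, 1, 2, 0, 0, 2, 1]),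
  (10, [0, 0, 2, 1, 0, 0, 2, 1]), (13, [0, 0, 2, 0, 0, 0, 0, 0]),
  (13, [0, 0, 2, 1, 0, 0, 2, 1]), (14, [0, 0, 1, 2, 0, 0, 2, 1]),
  (14, [0, 0, 2, 2, 0, 0, 2, 1])]

/-- Two roots with mixed support. -/
def mixL : List (List ℕ) := [[1, 0, 0, 2, 0, 2, 1, 0], [2, 0, 2, 0, 0, 1, 0, 1]]

end CfsgLib.StdForm.OmegaEight
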