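import Cfsg.Agent.Lib.StdForm.OmegaEight.Core
import Cfsg.Agent.Lib.StdForm.OmegaEight.PlanesData

/-!
Planar quadruples of orthogonal roots: normal form, uniqueness, complements and the elements of
order three fixing four orthogonal roots.
-/

set_option autoImplicit false
set_option maxHeartbeats 400000
set_option maxRecDepth 4000

namespace CfsgLib.StdForm.OmegaEight

open CfsgLib.Schur.D4Two
open scoped Matrix

/-- Two vectors are orthogonal. -/
abbrev Orth (u v : Vec) : Prop := u ⬝ᵥ v = 0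

/-- The list of a vector. -/
def toL (v : Vec) : List ℕ := List.ofFn fun i => (v i).val

/-- The coordinate list. -/
def unitL (i : Fin 8) : List ℕ := List.ofFn fun j : Fin 8 => if j = i then 1 else 0

/-- The negative coordinate list. -/
def neL (i : Fin 8) : List ℕ := List.ofFn fun j : Fin 8 => if j = i then 2 else 0

/-- The roots whose first `k` coordinates vanish. -/
def orthL (k : ℕ) : List (List ℕ) :=
  rootL.filter fun l => (List.range k).all fun i => l.getD i 0 == 0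

/-- The inner product of lists. -/
def dotL (u v : List ℕ) : ℕ := (List.ofFn fun i : Fin 8 => u.getD i.val 0 * v.getD i.val 0).sum % 3

/-- The linear combination of four lists. -/
def combL (a b c d : List ℕ) (s t u : ℕ) : List ℕ :=
  List.ofFn fun i : Fin 8 =>
    (a.getD i.val 0 + s * b.getD i.val 0 + t * c.getD i.val 0 + u * d.getD i.val 0) % 3

/-- The image of a vector when the first four coordinate roots are fixed. -/
def imgL (f : List (List ℕ)) (v : List ℕ) : List ℕ :=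
  List.ofFn fun j : Fin 8 =>
    ((if j.val < 4 then v.getD j.val 0 else 0) +
      (List.ofFn fun k : Fin 4 => v.getD (4 + k.val) 0 * (f.getD k.val []).getD j.val 0).sum) % 3

theorem toL_vec : ∀ l ∈ rootL, toL (vec l) = l := by decide +kernel

theorem toL_mem {v : Vec} (hv : v ∈ rootSet) : toL v ∈ rootL ∧ vec (toL v) = v := by
  obtain ⟨l, hl, rfl⟩ := rootSet_mem hv
  rw [toL_vec l hl]
  exact ⟨hl, rfl⟩

theorem toL_inj {u v : Vec} (h : toL u = toL v) : u = v :=
  funext fun i => ZMod.val_injective 3 (congrFun (List.ofFn_inj.1 h) i)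

theorem vec_getD (f : Fin 8 → ℕ) (i : Fin 8) : vec (List.ofFn f) i = (f i : ZMod 3) := by
  rw [vec, List.getD_eq_getElem _ _ (by rw [List.length_ofFn]; exact i.2), List.getElem_ofFn]

theorem toL_getD (v : Vec) (i : Fin 8) : (toL v).getD i.val 0 = (v i).val := by
  rw [toL, List.getD_eq_getElem _ _ (by rw [List.length_ofFn]; exact i.2), List.getElem_ofFn]

theorem ee_dot (i : Fin 8) (v : Vec) : ee i ⬝ᵥ v = v i := by
  rw [ee, single_dotProduct, one_mul]

theorem vec_unitL : ∀ i : Fin 8, vec (unitL i) = ee i ∧ vec (neL i) = -ee i := by decide +kernel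

theorem ee_mem : ∀ i : Fin 8, ee i ∈ rootSet := by
  intro i
  rw [← (vec_unitL i).1]
  exact mem_rootSet ((by decide +kernel : ∀ i : Fin 8, unitL i ∈ rootL) i)

theorem mem_orthL {v : Vec} (hv : v ∈ rootSet) {k : ℕ} (h : ∀ i : Fin 8, i.val < k → v i = 0)
    (hk : k ≤ 8) : toL v ∈ orthL k := by
  refine List.mem_filter.2 ⟨(toL_mem hv).1, List.all_eq_true.2 fun i hi => ?_⟩
  have hi' := List.mem_range.1 hi
  rw [beq_iff_eq, show i = (⟨i, by omega⟩ : Fin 8).val from rfl, toL_getD, h _ hi', ZMod.val_zero]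

theorem orth_iff {u v : Vec} (hu : u ∈ rootSet) (hv : v ∈ rootSet) (h : Orth u v) :
    dotL (toL u) (toL v) = 0 := by
  have e1 : ((List.ofFn fun i : Fin 8 => (toL u).getD i.val 0 * (toL v).getD i.val 0).sum : ZMod 3)
      = 0 := by
    simp only [List.sum_ofFn, Nat.cast_sum, Nat.cast_mul, toL_getD, ZMod.natCast_zmod_val]
    exact h
  exact Nat.mod_eq_zero_of_dvd ((CharP.cast_eq_zero_iff (ZMod 3) 3 _).1 e1)

theorem dot_map {M : GL8} (hM : M ∈ W) (u v : Vec) :
    ((M : Matrix (Fin 8) (Fin 8) (ZMod 3)) *ᵥ u) ⬝ᵥ ((M : Matrix (Fin 8) (Fin 8) (ZMod 3)) *ᵥ v)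
      = u ⬝ᵥ v := by
  rw [Matrix.dotProduct_mulVec, ← Matrix.mulVec_transpose, Matrix.mulVec_mulVec, orth hM,
    Matrix.one_mulVec]

theorem coord {M : GL8} (hM : M ∈ W) {u v : Vec} {i : Fin 8}
    (e : (M : Matrix (Fin 8) (Fin 8) (ZMod 3)) *ᵥ u = ee i) (h : Orth u v) :
    ((M : Matrix (Fin 8) (Fin 8) (ZMod 3)) *ᵥ v) i = 0 :=
  (ee_dot i _).symm.trans (by rw [← e, dot_map hM]; exact h)

theorem mul_inv_vec (M : GL8) (v : Vec) :
    (M : Matrix (Fin 8) (Fin 8) (ZMod 3)) *ᵥ ((↑M⁻¹ : Matrix (Fin 8) (Fin 8) (ZMod 3)) *ᵥ v) = v := by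
  rw [Matrix.mulVec_mulVec, Units.mul_inv, Matrix.one_mulVec]

theorem inv_mul_vec (M : GL8) (v : Vec) :
    (↑M⁻¹ : Matrix (Fin 8) (Fin 8) (ZMod 3)) *ᵥ ((M : Matrix (Fin 8) (Fin 8) (ZMod 3)) *ᵥ v) = v := by
  rw [Matrix.mulVec_mulVec, Units.inv_mul, Matrix.one_mulVec]

theorem inv_fix {M : GL8} {v : Vec} (h : (M : Matrix (Fin 8) (Fin 8) (ZMod 3)) *ᵥ v = v) :
    (↑M⁻¹ : Matrix (Fin 8) (Fin 8) (ZMod 3)) *ᵥ v = v := by
  have e := inv_mul_vec M v
  rwa [h] at e

theorem refl_vec {r : Vec} (hr : r ∈ rootSet) (v : Vec) :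
    (refl r : Matrix (Fin 8) (Fin 8) (ZMod 3)) *ᵥ v = v + (r ⬝ᵥ v) • r := by
  rw [refl_val (dot_self hr), reflM, Matrix.add_mulVec, Matrix.one_mulVec, Matrix.vecMulVec_mulVec]
  congr 1
  funext i
  simp [mul_comm]

theorem neg_mem_rootSet {v : Vec} (hv : v ∈ rootSet) : -v ∈ rootSet := by
  have e := map_root (refl_mem hv) hv
  rw [refl_vec hv, dot_self hv, one_smul] at e
  rwa [show -v = v + v from funext fun i => (by decide : ∀ x : ZMod 3, -x = x + x) (v i)]

/-- The orbit of the next coordinate root under the reflections fixing the first ones. -/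
theorem reach {k : ℕ} (hk : k < 8) (nodes : List (List ℕ)) (steps : List (ℕ × List ℕ))
    (h0 : nodes.getD 0 [] = unitL ⟨k, hk⟩) (hlen : nodes.length = steps.length + 1)
    (hstep : ∀ j < steps.length, (steps.getD j (0, [])).1 ≤ j ∧ (steps.getD j (0, [])).2 ∈ orthL k ∧
      nodes.getD (j + 1) [] = mulV (reflL (steps.getD j (0, [])).2)
        (nodes.getD (steps.getD j (0, [])).1 []))
    (hall : ∀ l ∈ orthL k, l ∈ nodes) {v : Vec} (hv : v ∈ rootSet)
    (h : ∀ i : Fin 8, i.val < k → v i = 0) :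
    ∃ M ∈ W, (∀ i : Fin 8, i.val < k → (M : Matrix (Fin 8) (Fin 8) (ZMod 3)) *ᵥ ee i = ee i) ∧
      (M : Matrix (Fin 8) (Fin 8) (ZMod 3)) *ᵥ v = ee ⟨k, hk⟩ := by
  have key : ∀ n < nodes.length, ∃ M ∈ W,
      (∀ i : Fin 8, i.val < k → (M : Matrix (Fin 8) (Fin 8) (ZMod 3)) *ᵥ ee i = ee i) ∧
        (M : Matrix (Fin 8) (Fin 8) (ZMod 3)) *ᵥ ee ⟨k, hk⟩ = vec (nodes.getD n []) := by
    intro n
    induction n using Nat.strong_induction_on with
    | _ n ih =>
      intro hn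
      rcases n with _ | n
      · exact ⟨1, one_mem _, fun i _ => by rw [Units.val_one, Matrix.one_mulVec],
          by rw [h0, (vec_unitL _).1, Units.val_one, Matrix.one_mulVec]⟩
      · obtain ⟨h1, h2, h3⟩ := hstep n (by omega)
        set p := steps.getD n (0, [])
        obtain ⟨M, hM, hfix, e⟩ := ih p.1 (by omega) (by omega)
        obtain ⟨hr1, hr2⟩ := List.mem_filter.1 h2
        have hr := mem_rootSet hr1
        refine ⟨refl (vec p.2) * M, mul_mem (refl_mem hr) hM, fun i hi => ?_, ?_⟩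
        · rw [Units.val_mul, ← Matrix.mulVec_mulVec, hfix i hi, refl_vec hr, dotProduct_comm, ee_dot]
          have hz : p.2.getD i.val 0 = 0 :=
            beq_iff_eq.1 (List.all_eq_true.1 hr2 _ (List.mem_range.2 hi))
          show ee i + ((p.2.getD i.val 0 : ℕ) : ZMod 3) • vec p.2 = ee i
          rw [hz, Nat.cast_zero, zero_smul, add_zero]
        · rw [Units.val_mul, ← Matrix.mulVec_mulVec, e, h3, ← toMat_mulV, toMat_reflL,
            refl_val (dot_self hr)]
  obtain ⟨n, hn, e⟩ := List.getElem_of_mem (hall _ (mem_orthL hv h hk.le))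
  obtain ⟨M, hM, hfix, eM⟩ := key n hn
  rw [List.getD_eq_getElem _ _ hn, e, (toL_mem hv).2] at eM
  exact ⟨M⁻¹, inv_mem hM, fun i hi => inv_fix (hfix i hi), by rw [← eM, inv_mul_vec]⟩

theorem orbit1_ok : orbit1L.getD 0 [] = unitL 1 ∧ orbit1L.length = orbit1Steps.length + 1 ∧
    (∀ j < orbit1Steps.length, (orbit1Steps.getD j (0, [])).1 ≤ j ∧
      (orbit1Steps.getD j (0, [])).2 ∈ orthL 1 ∧
      orbit1L.getD (j + 1) [] = mulV (reflL (orbit1Steps.getD j (0, [])).2)
        (orbit1L.getD (orbit1Steps.getD j (0, [])).1 [])) ∧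
    (∀ l ∈ orthL 1, l ∈ orbit1L) := by
  decide +kernel

theorem orbit2_ok : orbit2L.getD 0 [] = unitL 2 ∧ orbit2L.length = orbit2Steps.length + 1 ∧
    (∀ j < orbit2Steps.length, (orbit2Steps.getD j (0, [])).1 ≤ j ∧
      (orbit2Steps.getD j (0, [])).2 ∈ orthL 2 ∧
      orbit2L.getD (j + 1) [] = mulV (reflL (orbit2Steps.getD j (0, [])).2)
        (orbit2L.getD (orbit2Steps.getD j (0, [])).1 [])) ∧
    (∀ l ∈ orthL 2, l ∈ orbit2L) := by
  decide +kernel

/-- Three pairwise orthogonal roots are carried to the first three coordinate roots. -/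
theorem normalise_three {a b c : Vec} (ha : a ∈ rootSet) (hb : b ∈ rootSet) (hc : c ∈ rootSet)
    (hab : Orth a b) (hac : Orth a c) (hbc : Orth b c) :
    ∃ M ∈ W, (M : Matrix (Fin 8) (Fin 8) (ZMod 3)) *ᵥ a = ee 0 ∧
      (M : Matrix (Fin 8) (Fin 8) (ZMod 3)) *ᵥ b = ee 1 ∧
      (M : Matrix (Fin 8) (Fin 8) (ZMod 3)) *ᵥ c = ee 2 := by
  obtain ⟨M0, hM0, e0⟩ := exists_map ha
  have hM0' : M0⁻¹ ∈ W := inv_mem (W1_le_W hM0)
  set A : Matrix (Fin 8) (Fin 8) (ZMod 3) := (↑M0⁻¹ : Matrix (Fin 8) (Fin 8) (ZMod 3)) with hA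
  have eA : A *ᵥ a = ee 0 := by rw [hA, ← e0, inv_mul_vec]
  obtain ⟨g1, g2, g3, g4⟩ := orbit1_ok
  obtain ⟨M1, hM1, f1, e1⟩ := reach (k := 1) (by norm_num) _ _ g1 g2 g3 g4 (map_root hM0' hb)
    fun i hi => by
      obtain rfl : i = 0 := Fin.ext (by simpa using hi)
      exact coord hM0' eA hab
  have hM10 : M1 * M0⁻¹ ∈ W := mul_mem hM1 hM0'
  have eB : ((M1 * M0⁻¹ : GL8) : Matrix (Fin 8) (Fin 8) (ZMod 3)) *ᵥ b = ee 1 := by
    rw [Units.val_mul, ← Matrix.mulVec_mulVec]; exact e1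
  have eA' : ((M1 * M0⁻¹ : GL8) : Matrix (Fin 8) (Fin 8) (ZMod 3)) *ᵥ a = ee 0 := by
    rw [Units.val_mul, ← Matrix.mulVec_mulVec, ← hA, eA]; exact f1 0 (by norm_num)
  obtain ⟨k1, k2, k3, k4⟩ := orbit2_ok
  obtain ⟨M2, hM2, f2, e2⟩ := reach (k := 2) (by norm_num) _ _ k1 k2 k3 k4 (map_root hM10 hc)
    fun i hi => by
      rcases (by omega : i.val = 0 ∨ i.val = 1) with h | h
      · obtain rfl : i = 0 := Fin.ext h
        exact coord hM10 eA' hac
      · obtain rfl : i = 1 := Fin.ext h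
        exact coord hM10 eB hbc
  refine ⟨M2 * (M1 * M0⁻¹), mul_mem hM2 hM10, ?_, ?_, ?_⟩
  · rw [Units.val_mul, ← Matrix.mulVec_mulVec, eA']; exact f2 0 (by norm_num)
  · rw [Units.val_mul, ← Matrix.mulVec_mulVec, eB]; exact f2 1 (by norm_num)
  · rw [Units.val_mul, ← Matrix.mulVec_mulVec]; exact e2

theorem planar_map {M : GL8} (hM : M ∈ W) {a b c d : Vec} (h : Planar a b c d) :
    Planar ((M : Matrix (Fin 8) (Fin 8) (ZMod 3)) *ᵥ a) ((M : Matrix (Fin 8) (Fin 8) (ZMod 3)) *ᵥ b)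
      ((M : Matrix (Fin 8) (Fin 8) (ZMod 3)) *ᵥ c) ((M : Matrix (Fin 8) (Fin 8) (ZMod 3)) *ᵥ d) := by
  obtain ⟨s, t, u, hs, ht, hu, h⟩ := h
  refine ⟨s, t, u, hs, ht, hu, ?_⟩
  have e := map_root hM h
  simpa [Matrix.mulVec_add, Matrix.mulVec_smul] using e

theorem sq_one_cases : ∀ s : ZMod 3, s * s = 1 → s = 1 ∨ s = -1 := by decide

theorem smul_mem_rootSet {s : ZMod 3} (hs : s * s = 1) {v : Vec} (hv : v ∈ rootSet) :
    s • v ∈ rootSet := by
  rcases sq_one_cases s hs with rfl | rfl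
  · rwa [one_smul]
  · rw [neg_smul, one_smul]; exact neg_mem_rootSet hv

theorem planar_rotate {a b c d : Vec} (h : Planar a b c d) : Planar b c d a := by
  obtain ⟨s, t, u, hs, ht, hu, h⟩ := h
  refine ⟨s * t, s * u, s, by rw [mul_mul_mul_comm, hs, ht, one_mul],
    by rw [mul_mul_mul_comm, hs, hu, one_mul], hs, ?_⟩
  have e := smul_mem_rootSet hs h
  rwa [smul_add, smul_add, smul_add, smul_smul, smul_smul, smul_smul, hs, one_smul,
    show s • a + b + (s * t) • c + (s * u) • d = b + (s * t) • c + (s * u) • d + s • a by abel] at e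

theorem planar_swap {a b c d : Vec} (h : Planar a b c d) : Planar b a c d := by
  obtain ⟨s, t, u, hs, ht, hu, h⟩ := h
  refine ⟨s, s * t, s * u, hs, by rw [mul_mul_mul_comm, hs, ht, one_mul],
    by rw [mul_mul_mul_comm, hs, hu, one_mul], ?_⟩
  have e := smul_mem_rootSet hs h
  rwa [smul_add, smul_add, smul_add, smul_smul, smul_smul, smul_smul, hs, one_smul,
    show s • a + b + (s * t) • c + (s * u) • d = b + s • a + (s * t) • c + (s * u) • d by abel] at e

theorem planar_neg {a b c d : Vec} (h : Planar a b c d) : Planar (-a) b c d := by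
  obtain ⟨s, t, u, hs, ht, hu, h⟩ := h
  refine ⟨-s, -t, -u, by rw [neg_mul_neg, hs], by rw [neg_mul_neg, ht], by rw [neg_mul_neg, hu], ?_⟩
  rw [neg_smul, neg_smul, neg_smul,
    show -a + -(s • b) + -(t • c) + -(u • d) = -(a + s • b + t • c + u • d) by abel]
  exact neg_mem_rootSet h

theorem planar_ee : Planar (ee 0) (ee 1) (ee 2) (ee 3) ∧ Planar (ee 4) (ee 5) (ee 6) (ee 7) := by
  have key : ∀ a b c d : Fin 8, (∃ s ∈ [1, 2], ∃ t ∈ [1, 2], ∃ u ∈ [1, 2],
      combL (unitL a) (unitL b) (unitL c) (unitL d) s t u ∈ rootL) → Planar (ee a) (ee b) (ee c) (ee d) := by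
    rintro a b c d ⟨s, hs, t, ht, u, hu, h⟩
    have hsq : ∀ x ∈ [1, 2], ((x : ℕ) : ZMod 3) * x = 1 := by decide
    refine ⟨s, t, u, hsq s hs, hsq t ht, hsq u hu, ?_⟩
    have e := mem_rootSet h
    convert e using 1
    funext i
    have g : ∀ j : Fin 8, ((unitL j).getD i.val 0 : ZMod 3) = ee j i := fun j =>
      congrFun (vec_unitL j).1 i
    rw [combL, vec_getD]
    simp only [ZMod.natCast_mod, Nat.cast_add, Nat.cast_mul, g, Pi.add_apply, Pi.smul_apply,
      smul_eq_mul]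
  exact ⟨key 0 1 2 3 (by decide +kernel), key 4 5 6 7 (by decide +kernel)⟩

theorem combL_toL {a b c d : Vec} (s t u : ZMod 3) :
    toL (a + s • b + t • c + u • d) = combL (toL a) (toL b) (toL c) (toL d) s.val t.val u.val := by
  rw [toL, combL]
  congr 1
  funext i
  rw [← ZMod.val_natCast]
  congr 1
  simp only [Nat.cast_add, Nat.cast_mul, toL_getD, ZMod.natCast_zmod_val, Pi.add_apply,
    Pi.smul_apply, smul_eq_mul]

theorem planar_table : ∀ l ∈ orthL 3, ∀ s ∈ [1, 2], ∀ t ∈ [1, 2], ∀ u ∈ [1, 2],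
    combL (unitL 0) (unitL 1) (unitL 2) l s t u ∈ rootL → l = unitL 3 ∨ l = neL 3 := by
  decide +kernel

theorem toL_ee : ∀ i : Fin 8, toL (ee i) = unitL i := by decide +kernel

theorem val_mem : ∀ x : ZMod 3, x * x = 1 → x.val ∈ [1, 2] := by decide

/-- The fourth root of a planar quadruple through the first three coordinate roots. -/
theorem planar_ee_three {v : Vec} (hv : v ∈ rootSet) (h : ∀ i : Fin 8, i.val < 3 → v i = 0)
    (hp : Planar (ee 0) (ee 1) (ee 2) v) : v = ee 3 ∨ v = -ee 3 := by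
  obtain ⟨s, t, u, hs, ht, hu, hp⟩ := hp
  have e := (toL_mem hp).1
  rw [combL_toL, toL_ee, toL_ee, toL_ee] at e
  rcases planar_table _ (mem_orthL hv h (by norm_num)) _ (val_mem s hs) _ (val_mem t ht) _
    (val_mem u hu) e with e | e
  · exact Or.inl (by rw [← (toL_mem hv).2, e, (vec_unitL 3).1])
  · exact Or.inr (by rw [← (toL_mem hv).2, e, (vec_unitL 3).2])

theorem normalise_planar {a b c d : Vec} (ha : a ∈ rootSet) (hb : b ∈ rootSet) (hc : c ∈ rootSet)
    (hd : d ∈ rootSet) (hab : Orth a b) (hac : Orth a c) (had : Orth a d) (hbc : Orth b c)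
    (hbd : Orth b d) (hcd : Orth c d) (hp : Planar a b c d) :
    ∃ M ∈ W, (M : Matrix (Fin 8) (Fin 8) (ZMod 3)) *ᵥ a = ee 0 ∧
      (M : Matrix (Fin 8) (Fin 8) (ZMod 3)) *ᵥ b = ee 1 ∧
      (M : Matrix (Fin 8) (Fin 8) (ZMod 3)) *ᵥ c = ee 2 ∧
      ((M : Matrix (Fin 8) (Fin 8) (ZMod 3)) *ᵥ d = ee 3 ∨
        (M : Matrix (Fin 8) (Fin 8) (ZMod 3)) *ᵥ d = -ee 3) := by
  obtain ⟨M, hM, e0, e1, e2⟩ := normalise_three ha hb hc hab hac hbc
  refine ⟨M, hM, e0, e1, e2, planar_ee_three (map_root hM hd) (fun i hi => ?_) ?_⟩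
  · rcases (by omega : i.val = 0 ∨ i.val = 1 ∨ i.val = 2) with h | h | h
    · obtain rfl : i = 0 := Fin.ext h
      exact coord hM e0 had
    · obtain rfl : i = 1 := Fin.ext h
      exact coord hM e1 hbd
    · obtain rfl : i = 2 := Fin.ext h
      exact coord hM e2 hcd
  · have := planar_map hM hp
    rwa [e0, e1, e2] at this

/-- A planar quadruple is carried to the first four coordinate roots. -/
theorem normalise_four {a b c d : Vec} (hr : ∀ v ∈ [a, b, c, d], v ∈ rootSet)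
    (hpw : [a, b, c, d].Pairwise Orth) (hp : Planar a b c d) :
    ∃ M ∈ W, ∀ v ∈ [a, b, c, d], ∃ i : Fin 8, i.val < 4 ∧
      ((M : Matrix (Fin 8) (Fin 8) (ZMod 3)) *ᵥ v = ee i ∨
        (M : Matrix (Fin 8) (Fin 8) (ZMod 3)) *ᵥ v = -ee i) := by
  simp only [List.pairwise_cons, List.mem_cons, List.not_mem_nil, or_false, forall_eq_or_imp,
    forall_eq] at hpw hr
  obtain ⟨⟨hab, hac, had⟩, ⟨hbc, hbd⟩, hcd, -⟩ := hpw
  obtain ⟨ha, hb, hc, hd⟩ := hr
  obtain ⟨M, hM, e0, e1, e2, e3⟩ := normalise_planar ha hb hc hd hab hac had hbc hbd hcd hp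
  refine ⟨M, hM, fun v hv => ?_⟩
  simp only [List.mem_cons, List.not_mem_nil, or_false] at hv
  rcases hv with rfl | rfl | rfl | rfl
  · exact ⟨0, by norm_num, Or.inl e0⟩
  · exact ⟨1, by norm_num, Or.inl e1⟩
  · exact ⟨2, by norm_num, Or.inl e2⟩
  · exact ⟨3, by norm_num, e3⟩

/-- The fourth root of a planar quadruple is determined up to sign. -/
theorem planar_unique {a b c d d' : Vec} (hr : ∀ v ∈ [a, b, c, d, d'], v ∈ rootSet)
    (hpw : [a, b, c, d].Pairwise Orth) (hpw' : [a, b, c, d'].Pairwise Orth)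
    (hp : Planar a b c d) (hp' : Planar a b c d') : d' = d ∨ d' = -d := by
  simp only [List.pairwise_cons, List.mem_cons, List.not_mem_nil, or_false, forall_eq_or_imp,
    forall_eq] at hpw hpw' hr
  obtain ⟨⟨hab, hac, had⟩, ⟨hbc, hbd⟩, hcd, -⟩ := hpw
  obtain ⟨⟨-, -, had'⟩, ⟨-, hbd'⟩, hcd', -⟩ := hpw'
  obtain ⟨ha, hb, hc, hd, hd'⟩ := hr
  obtain ⟨M, hM, e0, e1, e2, e3⟩ := normalise_planar ha hb hc hd hab hac had hbc hbd hcd hp
  have e3' : (M : Matrix (Fin 8) (Fin 8) (ZMod 3)) *ᵥ d' = ee 3 ∨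
      (M : Matrix (Fin 8) (Fin 8) (ZMod 3)) *ᵥ d' = -ee 3 := by
    refine planar_ee_three (map_root hM hd') (fun i hi => ?_) ?_
    · rcases (by omega : i.val = 0 ∨ i.val = 1 ∨ i.val = 2) with h | h | h
      · obtain rfl : i = 0 := Fin.ext h
        exact coord hM e0 had'
      · obtain rfl : i = 1 := Fin.ext h
        exact coord hM e1 hbd'
      · obtain rfl : i = 2 := Fin.ext h
        exact coord hM e2 hcd'
    · have := planar_map hM hp'
      rwa [e0, e1, e2] at this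
  have hinj : ∀ u v : Vec, (M : Matrix (Fin 8) (Fin 8) (ZMod 3)) *ᵥ u =
      (M : Matrix (Fin 8) (Fin 8) (ZMod 3)) *ᵥ v → u = v := fun u v h => by
    rw [← inv_mul_vec M u, h, inv_mul_vec]
  rcases e3 with e | e <;> rcases e3' with e' | e'
  · exact Or.inl (hinj _ _ (e'.trans e.symm))
  · exact Or.inr (hinj _ _ (by rw [e', Matrix.mulVec_neg, e]))
  · exact Or.inr (hinj _ _ (by rw [e', Matrix.mulVec_neg, e, neg_neg]))
  · exact Or.inl (hinj _ _ (e'.trans e.symm))

theorem block_table : ∀ e ∈ orthL 4, ∀ f ∈ (orthL 4).filter (fun x => dotL e x == 0),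
    ∀ g ∈ (orthL 4).filter (fun x => dotL e x == 0 && dotL f x == 0),
    ∀ h ∈ (orthL 4).filter (fun x => dotL e x == 0 && dotL f x == 0 && dotL g x == 0),
    ∃ s ∈ [1, 2], ∃ t ∈ [1, 2], ∃ u ∈ [1, 2], combL e f g h s t u ∈ orthL 4 := by
  decide +kernel

theorem planar_block {e f g h : Vec} (hr : ∀ v ∈ [e, f, g, h], v ∈ rootSet)
    (h0 : ∀ v ∈ [e, f, g, h], ∀ i : Fin 8, i.val < 4 → v i = 0)
    (hpw : [e, f, g, h].Pairwise Orth) : Planar e f g h := by
  simp only [List.pairwise_cons, List.mem_cons, List.not_mem_nil, or_false, forall_eq_or_imp,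
    forall_eq] at hpw hr h0
  obtain ⟨⟨hef, heg, heh⟩, ⟨hfg, hfh⟩, hgh, -⟩ := hpw
  obtain ⟨he, hf, hg, hh⟩ := hr
  obtain ⟨ze, zf, zg, zh⟩ := h0
  have me := mem_orthL he ze (by norm_num)
  have mf := mem_orthL hf zf (by norm_num)
  have mg := mem_orthL hg zg (by norm_num)
  have mh := mem_orthL hh zh (by norm_num)
  obtain ⟨s, hs, t, ht, u, hu, hm⟩ := block_table _ me _
    (List.mem_filter.2 ⟨mf, by rw [orth_iff he hf hef]; rfl⟩) _
    (List.mem_filter.2 ⟨mg, by rw [orth_iff he hg heg, orth_iff hf hg hfg]; rfl⟩) _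
    (List.mem_filter.2 ⟨mh, by
      rw [orth_iff he hh heh, orth_iff hf hh hfh, orth_iff hg hh hgh]; rfl⟩)
  have hsq : ∀ x ∈ [1, 2], ((x : ℕ) : ZMod 3) * x = 1 := by decide
  have hv : ∀ x ∈ [1, 2], (((x : ℕ) : ZMod 3)).val = x := by decide
  refine ⟨s, t, u, hsq s hs, hsq t ht, hsq u hu, ?_⟩
  have hm' := (List.mem_filter.1 hm).1
  rw [← hv s hs, ← hv t ht, ← hv u hu, ← combL_toL] at hm'
  obtain ⟨l, hl, e'⟩ : ∃ l ∈ rootL, toL (e + (s : ZMod 3) • f + (t : ZMod 3) • g + (u : ZMod 3) • h) = l :=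
    ⟨_, hm', rfl⟩
  rw [toL_inj (e'.trans (toL_vec l hl).symm)]
  exact mem_rootSet hl

/-- The complement of a planar quadruple is planar. -/
theorem planar_complement {a b c d e f g h : Vec}
    (hr : ∀ v ∈ [a, b, c, d, e, f, g, h], v ∈ rootSet)
    (hpw : [a, b, c, d, e, f, g, h].Pairwise Orth) (hp : Planar a b c d) : Planar e f g h := by
  simp only [List.pairwise_cons, List.mem_cons, List.not_mem_nil, or_false, forall_eq_or_imp,
    forall_eq] at hpw hr
  obtain ⟨⟨hab, hac, had, hae, haf, hag, hah⟩, ⟨hbc, hbd, hbe, hbf, hbg, hbh⟩,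
    ⟨hcd, hce, hcf, hcg, hch⟩, ⟨hde, hdf, hdg, hdh⟩, ⟨hef, heg, heh⟩, ⟨hfg, hfh⟩, hgh, -⟩ := hpw
  obtain ⟨ha, hb, hc, hd, he, hf, hg, hh⟩ := hr
  obtain ⟨M, hM, e0, e1, e2, e3⟩ := normalise_planar ha hb hc hd hab hac had hbc hbd hcd hp
  have hz : ∀ v : Vec, Orth a v → Orth b v → Orth c v → Orth d v →
      ∀ i : Fin 8, i.val < 4 → ((M : Matrix (Fin 8) (Fin 8) (ZMod 3)) *ᵥ v) i = 0 := by
    intro v va vb vc vd i hi
    rcases (by omega : i.val = 0 ∨ i.val = 1 ∨ i.val = 2 ∨ i.val = 3) with h | h | h | h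
    · obtain rfl : i = 0 := Fin.ext h
      exact coord hM e0 va
    · obtain rfl : i = 1 := Fin.ext h
      exact coord hM e1 vb
    · obtain rfl : i = 2 := Fin.ext h
      exact coord hM e2 vc
    · obtain rfl : i = 3 := Fin.ext h
      rcases e3 with e3 | e3
      · exact coord hM e3 vd
      · exact coord hM (u := -d) (by rw [Matrix.mulVec_neg, e3, neg_neg])
          (by rw [Orth, neg_dotProduct, show d ⬝ᵥ v = 0 from vd, neg_zero])
  have hp' := planar_block (e := (M : Matrix (Fin 8) (Fin 8) (ZMod 3)) *ᵥ e)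
    (f := (M : Matrix (Fin 8) (Fin 8) (ZMod 3)) *ᵥ f) (g := (M : Matrix (Fin 8) (Fin 8) (ZMod 3)) *ᵥ g)
    (h := (M : Matrix (Fin 8) (Fin 8) (ZMod 3)) *ᵥ h)
    (by simp only [List.mem_cons, List.not_mem_nil, or_false, forall_eq_or_imp, forall_eq]
        exact ⟨map_root hM he, map_root hM hf, map_root hM hg, map_root hM hh⟩)
    (by simp only [List.mem_cons, List.not_mem_nil, or_false, forall_eq_or_imp, forall_eq]
        exact ⟨hz e hae hbe hce hde, hz f haf hbf hcf hdf, hz g hag hbg hcg hdg,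
          hz h hah hbh hch hdh⟩)
    (by simp only [List.pairwise_cons, List.mem_cons, List.not_mem_nil, or_false, forall_eq_or_imp,
          forall_eq, false_imp_iff, implies_true, List.Pairwise.nil, and_true, Orth, dot_map hM]
        exact ⟨⟨hef, heg, heh⟩, ⟨hfg, hfh⟩, hgh⟩)
  have := planar_map (inv_mem hM) hp'
  simpa only [inv_mul_vec] using this

theorem fix_table : ∀ d ∈ (orthL 3).filter (fun x => x != unitL 3 && x != neL 3),
    ∀ e ∈ orthL 4, ∀ f ∈ (orthL 4).filter (fun x => dotL e x == 0),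
    ∀ g ∈ (orthL 4).filter (fun x => dotL e x == 0 && dotL f x == 0),
    ∀ h ∈ (orthL 4).filter (fun x => dotL e x == 0 && dotL f x == 0 && dotL g x == 0),
    imgL [e, f, g, h] d = d → (∀ r ∈ mixL, imgL [e, f, g, h] r ∈ rootL) →
      imgL [e, f, g, h] e = unitL 4 ∧ imgL [e, f, g, h] f = unitL 5 ∧ imgL [e, f, g, h] g = unitL 6 ∧
        imgL [e, f, g, h] h = unitL 7 := by
  decide +kernel

theorem mix_roots : ∀ r ∈ mixL, r ∈ rootL := by decide +kernel

/-- An element of order three fixing three coordinate roots and a root off the plane is trivial. -/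
theorem eq_one_of_fix {x : GL8} (hx : x ∈ W) (h3 : x ^ 3 = 1)
    (hfix : ∀ i : Fin 8, i.val < 3 → (x : Matrix (Fin 8) (Fin 8) (ZMod 3)) *ᵥ ee i = ee i)
    {d : Vec} (hd : d ∈ rootSet) (hd0 : ∀ i : Fin 8, i.val < 3 → d i = 0) (hd3 : d ≠ ee 3)
    (hd3' : d ≠ -ee 3) (hxd : (x : Matrix (Fin 8) (Fin 8) (ZMod 3)) *ᵥ d = d) : x = 1 := by
  set X := (x : Matrix (Fin 8) (Fin 8) (ZMod 3))
  have hX3 : X * X * X = 1 := by
    have e := congrArg Units.val h3
    rw [Units.val_pow_eq_pow_val, Units.val_one, pow_succ, pow_two] at e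
    exact e
  have hz : ∀ (j : Fin 8) (k : ℕ), (∀ i : Fin 8, i.val < k → X *ᵥ ee i = ee i) → k ≤ j.val →
      ∀ i : Fin 8, i.val < k → (X *ᵥ ee j) i = 0 := by
    intro j k hk hkj i hi
    refine coord hx (hk i hi) ?_
    rw [Orth, ee_dot, ee, Pi.single_apply, if_neg (fun e => by rw [e] at hi; omega)]
  have f3 : X *ᵥ ee 3 = ee 3 := by
    have hp := planar_map hx planar_ee.1
    rw [hfix 0 (by norm_num), hfix 1 (by norm_num), hfix 2 (by norm_num)] at hp
    rcases planar_ee_three (map_root hx (ee_mem 3)) (hz 3 3 hfix le_rfl) hp with e | e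
    · exact e
    · exfalso
      have e' := congrArg (fun M : Matrix (Fin 8) (Fin 8) (ZMod 3) => M *ᵥ ee 3) hX3
      simp only [← Matrix.mulVec_mulVec, Matrix.one_mulVec] at e'
      rw [e, Matrix.mulVec_neg, e, neg_neg, e] at e'
      exact absurd (congrFun e' 3) (by decide +kernel)
  have f4 : ∀ i : Fin 8, i.val < 4 → X *ᵥ ee i = ee i := fun i hi => by
    rcases (by omega : i.val < 3 ∨ i.val = 3) with h | h
    · exact hfix i h
    · obtain rfl : i = 3 := Fin.ext h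
      exact f3
  have hm : ∀ j : Fin 8, 4 ≤ j.val → toL (X *ᵥ ee j) ∈ orthL 4 := fun j hj =>
    mem_orthL (map_root hx (ee_mem j)) (hz j 4 f4 hj) (by norm_num)
  have ho : ∀ i j : Fin 8, i ≠ j → dotL (toL (X *ᵥ ee i)) (toL (X *ᵥ ee j)) = 0 := fun i j hij =>
    orth_iff (map_root hx (ee_mem i)) (map_root hx (ee_mem j)) (by
      rw [Orth, dot_map hx, ee_dot, ee, Pi.single_apply, if_neg hij])
  have himg : ∀ v : Vec,
      imgL [toL (X *ᵥ ee 4), toL (X *ᵥ ee 5), toL (X *ᵥ ee 6), toL (X *ᵥ ee 7)] (toL v) =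
        toL (X *ᵥ v) := by
    intro v
    have hv : v = ∑ i : Fin 8, v i • ee i := by
      funext j
      simp [Finset.sum_apply, Pi.single_apply]
    conv_rhs => rw [hv, Matrix.mulVec_sum]
    simp only [Matrix.mulVec_smul, Fin.sum_univ_eight, f4 0 (by norm_num), f4 1 (by norm_num),
      f4 2 (by norm_num), f4 3 (by norm_num)]
    rw [imgL, toL]
    congr 1
    funext j
    rw [← ZMod.val_natCast]
    congr 1
    simp only [Nat.cast_add, List.sum_ofFn, Nat.cast_sum, Nat.cast_mul, Fin.sum_univ_four,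
      Pi.add_apply, Pi.smul_apply, smul_eq_mul]
    rw [show ((4 : ℕ) + (0 : Fin 4).val) = (4 : Fin 8).val from rfl,
      show ((4 : ℕ) + (1 : Fin 4).val) = (5 : Fin 8).val from rfl,
      show ((4 : ℕ) + (2 : Fin 4).val) = (6 : Fin 8).val from rfl,
      show ((4 : ℕ) + (3 : Fin 4).val) = (7 : Fin 8).val from rfl]
    simp only [Fin.val_zero, Fin.val_one, List.getD_cons_zero, List.getD_cons_succ, toL_getD,
      ZMod.natCast_zmod_val, apply_ite (Nat.cast : ℕ → ZMod 3), Nat.cast_zero,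
      show ((2 : Fin 4) : ℕ) = 2 from rfl, show ((3 : Fin 4) : ℕ) = 3 from rfl]
    fin_cases j <;> simp [Pi.single_apply] <;> ring
  have key := fix_table (toL d)
    (List.mem_filter.2 ⟨mem_orthL hd hd0 (by norm_num), by
      rw [Bool.and_eq_true, bne_iff_ne, bne_iff_ne]
      exact ⟨fun e => hd3 (by rw [← (toL_mem hd).2, e, (vec_unitL 3).1]),
        fun e => hd3' (by rw [← (toL_mem hd).2, e, (vec_unitL 3).2])⟩⟩)
    _ (hm 4 le_rfl) _ (List.mem_filter.2 ⟨hm 5 (by decide), by rw [ho 4 5 (by decide)]; rfl⟩) _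
    (List.mem_filter.2 ⟨hm 6 (by decide), by rw [ho 4 6 (by decide), ho 5 6 (by decide)]; rfl⟩) _
    (List.mem_filter.2 ⟨hm 7 (by decide), by
      rw [ho 4 7 (by decide), ho 5 7 (by decide), ho 6 7 (by decide)]; rfl⟩)
    (by rw [himg, hxd])
    (fun r hr => by
      have hr' := mem_rootSet (mix_roots r hr)
      rw [← toL_vec r (mix_roots r hr), himg]
      exact (toL_mem (map_root hx hr')).1)
  simp only [himg, ← toL_ee] at key
  obtain ⟨k4, k5, k6, k7⟩ := key
  have h2 : ∀ i : Fin 8, X *ᵥ (X *ᵥ ee i) = ee i := by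
    intro i
    fin_cases i
    · exact (congrArg _ (f4 0 (by norm_num))).trans (f4 0 (by norm_num))
    · exact (congrArg _ (f4 1 (by norm_num))).trans (f4 1 (by norm_num))
    · exact (congrArg _ (f4 2 (by norm_num))).trans (f4 2 (by norm_num))
    · exact (congrArg _ (f4 3 (by norm_num))).trans (f4 3 (by norm_num))
    · exact toL_inj k4
    · exact toL_inj k5
    · exact toL_inj k6
    · exact toL_inj k7
  have hX2 : X * X = 1 := by
    ext i j
    have e := congrFun (h2 j) i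
    rw [Matrix.mulVec_mulVec, ee, Matrix.mulVec_single_one] at e
    simpa [Matrix.one_apply, Pi.single_apply] using e
  refine Units.ext ?_
  rw [Units.val_one]
  rw [hX2, one_mul] at hX3
  exact hX3

/-- Four orthogonal roots fixed by an element of order three are planar. -/
theorem planar_of_fix {a b c d : Vec} (hr : ∀ v ∈ [a, b, c, d], v ∈ rootSet)
    (hpw : [a, b, c, d].Pairwise Orth) {x : GL8} (hx : x ∈ W) (h3 : x ^ 3 = 1) (h1 : x ≠ 1)
    (hfix : ∀ v ∈ [a, b, c, d], (x : Matrix (Fin 8) (Fin 8) (ZMod 3)) *ᵥ v = v) :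
    Planar a b c d := by
  simp only [List.pairwise_cons, List.mem_cons, List.not_mem_nil, or_false, forall_eq_or_imp,
    forall_eq] at hpw hr hfix
  obtain ⟨⟨hab, hac, had⟩, ⟨hbc, hbd⟩, hcd, -⟩ := hpw
  obtain ⟨ha, hb, hc, hd⟩ := hr
  obtain ⟨xa, xb, xc, xd⟩ := hfix
  obtain ⟨M, hM, e0, e1, e2⟩ := normalise_three ha hb hc hab hac hbc
  by_contra hnp
  apply h1
  have hy : M * x * M⁻¹ ∈ W := mul_mem (mul_mem hM hx) (inv_mem hM)
  have hy3 : (M * x * M⁻¹) ^ 3 = 1 := by rw [conj_pow, h3, mul_one, mul_inv_cancel]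
  have hact : ∀ v : Vec, (x : Matrix (Fin 8) (Fin 8) (ZMod 3)) *ᵥ v = v →
      ((M * x * M⁻¹ : GL8) : Matrix (Fin 8) (Fin 8) (ZMod 3)) *ᵥ
        ((M : Matrix (Fin 8) (Fin 8) (ZMod 3)) *ᵥ v) = (M : Matrix (Fin 8) (Fin 8) (ZMod 3)) *ᵥ v := by
    intro v hv
    rw [Units.val_mul, Units.val_mul, ← Matrix.mulVec_mulVec, inv_mul_vec, ← Matrix.mulVec_mulVec, hv]
  have hy1 : M * x * M⁻¹ = 1 := by
    refine eq_one_of_fix hy hy3 (fun i hi => ?_) (map_root hM hd) (fun i hi => ?_)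
      (fun e => ?_) (fun e => ?_) (hact d xd)
    · rcases (by omega : i.val = 0 ∨ i.val = 1 ∨ i.val = 2) with h | h | h
      · obtain rfl : i = 0 := Fin.ext h
        rw [← e0]; exact hact a xa
      · obtain rfl : i = 1 := Fin.ext h
        rw [← e1]; exact hact b xb
      · obtain rfl : i = 2 := Fin.ext h
        rw [← e2]; exact hact c xc
    · rcases (by omega : i.val = 0 ∨ i.val = 1 ∨ i.val = 2) with h | h | h
      · obtain rfl : i = 0 := Fin.ext h
        exact coord hM e0 had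
      · obtain rfl : i = 1 := Fin.ext h
        exact coord hM e1 hbd
      · obtain rfl : i = 2 := Fin.ext h
        exact coord hM e2 hcd
    · have h := planar_map (inv_mem hM) planar_ee.1
      rw [← e0, ← e1, ← e2, ← e, inv_mul_vec, inv_mul_vec, inv_mul_vec, inv_mul_vec] at h
      exact hnp h
    · have h := planar_map (inv_mem hM) (planar_rotate (planar_neg (planar_rotate
        (planar_rotate (planar_rotate planar_ee.1)))))
      rw [← e0, ← e1, ← e2, ← e, inv_mul_vec, inv_mul_vec, inv_mul_vec, inv_mul_vec] at h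
      exact hnp h
  calc x = M⁻¹ * (M * x * M⁻¹) * M := by group
    _ = 1 := by rw [hy1]; group

end CfsgLib.StdForm.OmegaEight
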