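import Mathlib.GroupTheory.Perm.Sign
import Mathlib.Data.Fintype.Perm
import Mathlib.Algebra.GroupWithZero.Units.Fintype
import Mathlib.GroupTheory.Perm.ViaEmbedding
import Mathlib.LinearAlgebra.Matrix.Trace
import Cfsg.Agent.Lib.StdForm.OmegaEight.Planes
import Cfsg.Agent.Lib.StdForm.OmegaEight.Witness

/-!
Perfect subgroups of the Weyl group of type E8 modulo three centralizing the representatives fix
coordinate vectors, as they act trivially on invariant sets of at most four points.
-/

set_option autoImplicit false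

open scoped Matrix commutatorElement

namespace CfsgLib.StdForm.OmegaEight

local notation "Mat8" => Matrix (Fin 8) (Fin 8) (ZMod 3)

/-! ### Perfect groups act trivially on four points -/

theorem perm_four_first : ∀ a b : Equiv.Perm (Fin 4), Equiv.Perm.sign a = 1 →
    Equiv.Perm.sign b = 1 → a * b * a⁻¹ * b⁻¹ * (a * b * a⁻¹ * b⁻¹) = 1 := by
  decide +kernel

theorem perm_four_second : ∀ a b : Equiv.Perm (Fin 4), Equiv.Perm.sign a = 1 →
    Equiv.Perm.sign b = 1 → a * a = 1 → b * b = 1 → a * b * (a * b) = 1 ∧ a * b = b * a := by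
  decide +kernel

theorem perm_four_facts :
    (∀ a b : Equiv.Perm (Fin 4), Equiv.Perm.sign a = 1 → Equiv.Perm.sign b = 1 →
      ⁅a, b⁆ * ⁅a, b⁆ = 1) ∧
    (∀ a b : Equiv.Perm (Fin 4), Equiv.Perm.sign a = 1 → Equiv.Perm.sign b = 1 → a * a = 1 →
      b * b = 1 → a * b * (a * b) = 1 ∧ a * b = b * a) := by
  simp only [commutatorElement_def]
  exact ⟨perm_four_first, perm_four_second⟩

/-- The four group in `Perm (Fin 4)`. -/
def fourSub : Subgroup (Equiv.Perm (Fin 4)) where
  carrier := {x | Equiv.Perm.sign x = 1 ∧ x * x = 1}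
  one_mem' := ⟨map_one _, one_mul 1⟩
  mul_mem' := fun {a b} ha hb =>
    ⟨by rw [map_mul, ha.1, hb.1, one_mul], (perm_four_facts.2 a b ha.1 hb.1 ha.2 hb.2).1⟩
  inv_mem' := fun {a} ha => by
    rw [inv_eq_of_mul_eq_one_right ha.2]; exact ha

theorem perm_four_perfect (H : Subgroup (Equiv.Perm (Fin 4))) (h : ⁅H, H⁆ = H) : H = ⊥ := by
  have h1 : ∀ x ∈ H, Equiv.Perm.sign x = 1 := by
    intro x hx
    rw [← h] at hx
    have : ⁅H, H⁆ ≤ (Equiv.Perm.sign : Equiv.Perm (Fin 4) →* ℤˣ).ker := by
      rw [Subgroup.commutator_le]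
      intro a _ b _
      rw [MonoidHom.mem_ker, map_commutatorElement]
      exact commutatorElement_eq_one_iff_mul_comm.2 (mul_comm _ _)
    exact this hx
  have h2 : H ≤ fourSub := by
    rw [← h, Subgroup.commutator_le]
    intro a ha b hb
    refine ⟨?_, perm_four_facts.1 a b (h1 a ha) (h1 b hb)⟩
    rw [map_commutatorElement]
    exact commutatorElement_eq_one_iff_mul_comm.2 (mul_comm _ _)
  rw [eq_bot_iff, ← h, Subgroup.commutator_le]
  intro a ha b hb
  exact Subgroup.mem_bot.2 (commutatorElement_eq_one_iff_mul_comm.2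
    (perm_four_facts.2 a b (h2 ha).1 (h2 hb).1 (h2 ha).2 (h2 hb).2).2)

/-- A perfect group fixes every point of an invariant set of at most four points. -/
theorem perfect_fix {Γ α : Type*} [Group Γ] [MulAction Γ α] {P : Subgroup Γ} (hperf : ⁅P, P⁆ = P)
    (S : Finset α) (hcard : S.card ≤ 4) (hS : ∀ X ∈ P, ∀ v ∈ S, X • v ∈ S) {X : Γ} (hX : X ∈ P)
    {v : α} (hv : v ∈ S) : X • v = v := by
  classical
  let φ : ↥P →* Equiv.Perm {x // x ∈ S} :=
    { toFun := fun Y =>
        { toFun := fun x => ⟨(Y : Γ) • (x : α), hS _ Y.2 _ x.2⟩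
          invFun := fun x => ⟨((Y⁻¹ : ↥P) : Γ) • (x : α), hS _ (Y⁻¹).2 _ x.2⟩
          left_inv := fun x => Subtype.ext (by simp)
          right_inv := fun x => Subtype.ext (by simp) }
      map_one' := Equiv.ext fun x => Subtype.ext (one_smul Γ (x : α))
      map_mul' := fun Y Z => Equiv.ext fun x => Subtype.ext (mul_smul (Y : Γ) (Z : Γ) (x : α)) }
  have hc : Fintype.card {x // x ∈ S} ≤ Fintype.card (Fin 4) := by simpa using hcard
  obtain ⟨ι⟩ := Function.Embedding.nonempty_of_card_le hc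
  let ψ : Equiv.Perm {x // x ∈ S} →* Equiv.Perm (Fin 4) := Equiv.Perm.viaEmbeddingHom ι
  have htop : ⁅(⊤ : Subgroup ↥P), ⊤⁆ = ⊤ := Subgroup.map_injective P.subtype_injective (by
    rw [Subgroup.map_commutator, ← MonoidHom.range_eq_map, Subgroup.range_subtype, hperf])
  have hr : (ψ.comp φ).range = ⊥ := perm_four_perfect _ (by
    rw [MonoidHom.range_eq_map, ← Subgroup.map_commutator, htop])
  have h1 : ψ (φ ⟨X, hX⟩) = 1 := Subgroup.mem_bot.1 (hr ▸ ⟨⟨X, hX⟩, rfl⟩)
  have h2 : φ ⟨X, hX⟩ = 1 := Equiv.Perm.viaEmbeddingHom_injective ι (h1.trans (map_one ψ).symm)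
  exact congrArg Subtype.val (Equiv.Perm.ext_iff.1 h2 ⟨v, hv⟩)

/-! ### Invariant systems of roots -/

instance : MulAction GL8 Vec where
  smul M v := (M : Mat8) *ᵥ v
  one_smul v := Matrix.one_mulVec v
  mul_smul M N v := by
    show ((M * N : GL8) : Mat8) *ᵥ v = (M : Mat8) *ᵥ ((N : Mat8) *ᵥ v)
    rw [Matrix.mulVec_mulVec, Units.val_mul]

theorem smul_vec (M : GL8) (v : Vec) : M • v = (M : Mat8) *ᵥ v := rfl

/-- The list of roots supported in a set of coordinates. -/
def rootsInL (T : Finset (Fin 8)) : List (List ℕ) :=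
  rootL.filter fun l => (List.finRange 8).all fun i => decide (i ∈ T) || l.getD i.val 0 == 0

/-- The roots supported in a set of coordinates. -/
def rootsIn (T : Finset (Fin 8)) : Finset Vec := ((rootsInL T).map vec).toFinset

theorem dg_mulVec (T : Finset (Fin 8)) (v : Vec) (i : Fin 8) :
    (((dg T : GL8) : Mat8) *ᵥ v) i = (if i ∈ T then -1 else 1) * v i := by
  simp [dg, Matrix.mulVec_diagonal]

theorem root_digit : ∀ l ∈ rootL, ∀ i : Fin 8, l.getD i.val 0 = 0 ∨ (l.getD i.val 0 : ZMod 3) ≠ 0 := by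
  decide +kernel

theorem mem_rootsIn {T : Finset (Fin 8)} {v : Vec} :
    v ∈ rootsIn T ↔ v ∈ rootSet ∧ ((dg T : GL8) : Mat8) *ᵥ v = -v := by
  simp only [rootsIn, List.mem_toFinset, List.mem_map, rootsInL, List.mem_filter, List.all_eq_true,
    List.mem_finRange, forall_const, Bool.or_eq_true, decide_eq_true_eq, beq_iff_eq]
  constructor
  · rintro ⟨l, ⟨hl, hs⟩, rfl⟩
    refine ⟨mem_rootSet hl, funext fun i => ?_⟩
    rw [dg_mulVec, Pi.neg_apply]
    by_cases hi : i ∈ T
    · simp [hi]
    · rw [if_neg hi, one_mul]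
      show ((l.getD i.val 0 : ℕ) : ZMod 3) = -((l.getD i.val 0 : ℕ) : ZMod 3)
      rw [(hs i).resolve_left hi]
      simp
  · rintro ⟨hv, h⟩
    obtain ⟨l, hl, rfl⟩ := rootSet_mem hv
    refine ⟨l, ⟨hl, fun i => ?_⟩, rfl⟩
    by_cases hi : i ∈ T
    · exact Or.inl hi
    · refine Or.inr ((root_digit l hl i).resolve_right fun hne => hne ?_)
      have h' := congrFun h i
      rw [dg_mulVec, if_neg hi, one_mul, Pi.neg_apply] at h'
      have h3 : ∀ x : ZMod 3, x = -x → x = 0 := by decide
      exact h3 _ h'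

theorem smul_rootsIn {T : Finset (Fin 8)} {M : GL8} (hM : M ∈ W) (hc : M * dg T = dg T * M) {v : Vec}
    (hv : v ∈ rootsIn T) : M • v ∈ rootsIn T := by
  rw [mem_rootsIn] at hv ⊢
  refine ⟨map_root hM hv.1, ?_⟩
  rw [smul_vec, Matrix.mulVec_mulVec, ← Units.val_mul, ← hc, Units.val_mul, ← Matrix.mulVec_mulVec,
    hv.2, Matrix.mulVec_neg]

/-- The roots of the block orthogonal or equal up to sign to a given one. -/
def frameOf (T : Finset (Fin 8)) (v : Vec) : Finset Vec :=
  (rootsIn T).filter fun w => w ⬝ᵥ v = 0 ∨ w = v ∨ w = -v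

theorem dot_smul {M : GL8} (hM : M ∈ W) (u v : Vec) : (M • u) ⬝ᵥ (M • v) = u ⬝ᵥ v := by
  rw [smul_vec, smul_vec]
  exact dot_map hM u v

theorem image_frame {T : Finset (Fin 8)} {M : GL8} (hM : M ∈ W) (hc : M * dg T = dg T * M) (v : Vec) :
    (frameOf T v).image (fun w => M • w) = frameOf T (M • v) := by
  have hc' : M⁻¹ * dg T = dg T * M⁻¹ := (Commute.inv_left (show Commute M (dg T) from hc)).eq
  ext w
  simp only [Finset.mem_image, frameOf, Finset.mem_filter]
  constructor
  · rintro ⟨x, ⟨hx, hcond⟩, rfl⟩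
    refine ⟨smul_rootsIn hM hc hx, ?_⟩
    rcases hcond with h | rfl | rfl
    · exact Or.inl (by rw [dot_smul hM, h])
    · exact Or.inr (Or.inl rfl)
    · exact Or.inr (Or.inr (by rw [smul_vec, smul_vec, Matrix.mulVec_neg]))
  · rintro ⟨hw, hcond⟩
    refine ⟨M⁻¹ • w, ⟨smul_rootsIn (inv_mem hM) hc' hw, ?_⟩, smul_inv_smul M w⟩
    rcases hcond with h | h | h
    · refine Or.inl ?_
      rw [← dot_smul hM, smul_inv_smul, h]
    · exact Or.inr (Or.inl (by rw [h, inv_smul_smul]))
    · refine Or.inr (Or.inr ?_)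
      rw [h, ← inv_smul_smul M (-v), smul_vec M (-v), Matrix.mulVec_neg]
      rfl

/-- A perfect group centralizing `dg T` fixes the coordinate vectors in `T` if it has at most four
frames there. -/
theorem fix_coords {P : Subgroup GL8} (hP : P ≤ W) (hperf : ⁅P, P⁆ = P) (T : Finset (Fin 8))
    (hc : ∀ M ∈ P, M * dg T = dg T * M) (hT : T.card ≤ 4)
    (hframes : ((rootsIn T).image (frameOf T)).card ≤ 4)
    (hcoord : ∀ t ∈ T, ee t ∈ rootsIn T ∧
      frameOf T (ee t) = T.image ee ∪ T.image (fun i => -ee i)) :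
    ∀ M ∈ P, ∀ t ∈ T, Fix M (ee t) := by
  classical
  intro M hM t ht
  -- the frames are fixed
  let _ : MulAction GL8 (Finset Vec) :=
    { smul := fun X F => F.image (fun w => X • w)
      one_smul := fun F => by
        show F.image (fun w => (1 : GL8) • w) = F
        simp
      mul_smul := fun X Y F => by
        show F.image (fun w => (X * Y) • w) = (F.image fun w => Y • w).image fun w => X • w
        rw [Finset.image_image]
        exact Finset.image_congr fun w _ => mul_smul X Y w }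
  have hframe : ∀ X ∈ P, X • frameOf T (ee t) = frameOf T (ee t) := fun X hX =>
    perfect_fix hperf _ hframes (fun Y hY F hF => by
      obtain ⟨v, hv, rfl⟩ := Finset.mem_image.1 hF
      show (frameOf T v).image (fun w => Y • w) ∈ _
      rw [image_frame (hP hY) (hc Y hY)]
      exact Finset.mem_image_of_mem _ (smul_rootsIn (hP hY) (hc Y hY) hv)) hX
      (Finset.mem_image_of_mem _ (hcoord t ht).1)
  -- the lines are fixed
  let _ : MulAction GL8 (Sym2 Vec) :=
    { smul := fun X p => p.map fun w => X • w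
      one_smul := fun p => by
        show p.map (fun w => (1 : GL8) • w) = p
        simp
      mul_smul := fun X Y p => by
        show p.map (fun w => (X * Y) • w) = (p.map fun w => Y • w).map fun w => X • w
        rw [Sym2.map_map]
        exact congrArg (fun f => p.map f) (funext fun w => mul_smul X Y w) }
  have hline : ∀ X ∈ P, X • s(ee t, -ee t) = s(ee t, -ee t) := fun X hX =>
    perfect_fix hperf (T.image fun i => s(ee i, -ee i)) (Finset.card_image_le.trans hT)
      (fun Y hY p hp => by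
        obtain ⟨i, hi, rfl⟩ := Finset.mem_image.1 hp
        have h1 : Y • ee i ∈ frameOf T (ee t) := by
          rw [← hframe Y hY]
          refine Finset.mem_image_of_mem _ ?_
          rw [(hcoord t ht).2]
          exact Finset.mem_union_left _ (Finset.mem_image_of_mem _ hi)
        rw [(hcoord t ht).2, Finset.mem_union, Finset.mem_image, Finset.mem_image] at h1
        show Sym2.map (fun w => Y • w) s(ee i, -ee i) ∈ _
        rw [Sym2.map_mk, smul_vec Y (-ee i), Matrix.mulVec_neg, ← smul_vec]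
        rcases h1 with ⟨j, hj, e⟩ | ⟨j, hj, e⟩
        · exact Finset.mem_image.2 ⟨j, hj, by rw [← e]⟩
        · exact Finset.mem_image.2 ⟨j, hj, by rw [← e, neg_neg]; exact Sym2.eq_swap⟩) hX
      (Finset.mem_image_of_mem _ ht)
  -- the vectors are fixed
  refine perfect_fix hperf {ee t, -ee t} (Finset.card_le_two.trans (by norm_num)) ?_ hM
    (Finset.mem_insert_self _ _)
  intro Y hY w hw
  have h := hline Y hY
  change Sym2.map (fun w => Y • w) s(ee t, -ee t) = _ at h
  rw [Sym2.map_mk, Sym2.eq_iff] at h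
  simp only [Finset.mem_insert, Finset.mem_singleton] at hw ⊢
  rcases h with ⟨h1, h2⟩ | ⟨h1, h2⟩ <;> rcases hw with rfl | rfl <;>
    simp [h1, h2]

theorem frame_small : ∀ T ∈ [({0} : Finset (Fin 8)), {0, 1}, {3}],
    ((rootsIn T).image (frameOf T)).card ≤ 4 ∧ ∀ t ∈ T, ee t ∈ rootsIn T ∧
      frameOf T (ee t) = T.image ee ∪ T.image (fun i => -ee i) := by
  decide +kernel

theorem frame_large : ∀ T ∈ [({0, 1, 2} : Finset (Fin 8)), {0, 1, 2, 3}, {4, 5, 6, 7},
      {0, 1, 2, 4}, {3, 5, 6, 7}],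
    ((rootsIn T).image (frameOf T)).card ≤ 4 ∧ ∀ t ∈ T, ee t ∈ rootsIn T ∧
      frameOf T (ee t) = T.image ee ∪ T.image (fun i => -ee i) := by
  decide +kernel

variable {P : Subgroup GL8}

theorem fix_one (hP : P ≤ W) (hperf : ⁅P, P⁆ = P) (hc : ∀ M ∈ P, M * dg {0} = dg {0} * M) :
    ∀ M ∈ P, Fix M (ee 0) := fun M hM =>
  fix_coords hP hperf _ hc (by decide) (frame_small _ (by simp)).1 (frame_small _ (by simp)).2 M hM 0
    (by simp)

theorem fix_two (hP : P ≤ W) (hperf : ⁅P, P⁆ = P) (hc : ∀ M ∈ P, M * dg {0, 1} = dg {0, 1} * M) :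
    ∀ M ∈ P, Fix M (ee 0) ∧ Fix M (ee 1) := fun M hM =>
  have h := fix_coords hP hperf _ hc (by decide) (frame_small _ (by simp)).1
    (frame_small _ (by simp)).2 M hM
  ⟨h 0 (by simp), h 1 (by simp)⟩

theorem eq_one_of_fix_all {M : GL8} (h : ∀ i, Fix M (ee i)) : M = 1 := by
  refine Units.ext (Matrix.ext fun i j => ?_)
  have h' := congrFun (h j) i
  rw [Matrix.mulVec_single_one] at h'
  rw [Units.val_one, Matrix.one_apply]
  simpa [Matrix.col, Pi.single_apply] using h'

theorem reflM_coord : ∀ i : Fin 8, reflM (ee i) = ((dg {i} : GL8) : Mat8) := by decide +kernel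

theorem low_facts : ∀ i : Fin 8, i.val < 3 → ee 3 i = 0 ∧ ee 0 i + ee 1 i + ee 2 i = 1 := by
  decide +kernel

theorem notMem_pair : ∀ j : Fin 8, 2 ≤ j.val → j ∉ ({0, 1} : Finset (Fin 8)) := by decide

theorem commute_dg_of_fix {M : GL8} (T : Finset (Fin 8)) (hM : M ∈ W)
    (h : ∀ t ∈ T, Fix M (ee t)) : M * dg T = dg T * M := by
  induction T using Finset.induction_on with
  | empty =>
    have e : dg ∅ = 1 := Units.ext (by simp [dg])
    rw [e, mul_one, one_mul]
  | @insert i S hi ih =>
    have e : dg (insert i S) = dg {i} * dg S := by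
      refine Units.ext ?_
      simp only [dg, Units.val_mul, Matrix.diagonal_mul_diagonal]
      congr 1
      funext j
      by_cases hj : j = i
      · subst hj; simp [hi]
      · simp [hj]
    have ei : refl (ee i) = dg {i} := Units.ext (by
      rw [refl_val (dot_self (ee_mem i)), reflM_coord])
    have h1 : M * dg {i} = dg {i} * M := by
      rw [← ei]
      have h2 := refl_conj hM (ee_mem i)
      rw [h i (Finset.mem_insert_self _ _)] at h2
      exact mul_inv_eq_iff_eq_mul.1 h2
    rw [e, ← mul_assoc, h1, mul_assoc, ih fun t ht => h t (Finset.mem_insert_of_mem ht), mul_assoc]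

theorem neg_dg_facts : dg {4, 5, 6, 7} = -dg {0, 1, 2, 3} ∧ dg {3, 5, 6, 7} = -dg {0, 1, 2, 4} := by
  decide +kernel

theorem plane_root : ∀ l ∈ rootL, l.getD 0 0 = 1 → l.getD 1 0 = 1 → l.getD 2 0 = 1 →
    vec l = ee 0 + ee 1 + ee 2 + ee 3 ∨ vec l = ee 0 + ee 1 + ee 2 - ee 3 := by
  decide +kernel

theorem plane_mem : ee 0 + ee 1 + ee 2 + ee 3 ∈ rootSet := by decide +kernel

theorem digit_one : ∀ l ∈ rootL, ∀ i : Fin 8, (l.getD i.val 0 : ZMod 3) = 1 → l.getD i.val 0 = 1 := by
  decide +kernel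

theorem fix_bot_four (hP : P ≤ W) (hperf : ⁅P, P⁆ = P) (T T' : Finset (Fin 8))
    (hmem : T ∈ [({0, 1, 2, 3} : Finset (Fin 8)), {0, 1, 2, 4}]) (hT' : dg T' = -dg T)
    (hmem' : T' ∈ [({4, 5, 6, 7} : Finset (Fin 8)), {3, 5, 6, 7}]) (hun : ∀ i, i ∈ T ∨ i ∈ T')
    (hc : ∀ M ∈ P, M * dg T = dg T * M) : P = ⊥ := by
  have hc' : ∀ M ∈ P, M * dg T' = dg T' * M := fun M hM => by rw [hT', mul_neg, neg_mul, hc M hM]
  have hT : T ∈ [({0, 1, 2} : Finset (Fin 8)), {0, 1, 2, 3}, {4, 5, 6, 7}, {0, 1, 2, 4}, {3, 5, 6, 7}] := by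
    simp only [List.mem_cons, List.not_mem_nil, or_false] at hmem ⊢; tauto
  have hT2 : T' ∈ [({0, 1, 2} : Finset (Fin 8)), {0, 1, 2, 3}, {4, 5, 6, 7}, {0, 1, 2, 4}, {3, 5, 6, 7}] := by
    simp only [List.mem_cons, List.not_mem_nil, or_false] at hmem' ⊢; tauto
  have hcard : ∀ S ∈ [({0, 1, 2} : Finset (Fin 8)), {0, 1, 2, 3}, {4, 5, 6, 7}, {0, 1, 2, 4}, {3, 5, 6, 7}],
      S.card ≤ 4 := by
    intro S hS
    simp only [List.mem_cons, List.not_mem_nil, or_false] at hS
    rcases hS with rfl | rfl | rfl | rfl | rfl <;> decide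
  refine (Subgroup.eq_bot_iff_forall P).2 fun M hM => eq_one_of_fix_all fun i => ?_
  rcases hun i with h | h
  · exact fix_coords hP hperf T hc (hcard _ hT) (frame_large _ hT).1 (frame_large _ hT).2 M hM i h
  · exact fix_coords hP hperf T' hc' (hcard _ hT2) (frame_large _ hT2).1 (frame_large _ hT2).2 M hM i h

theorem fix_bot (hP : P ≤ W) (hperf : ⁅P, P⁆ = P) {X : GL8}
    (hX : X ∈ [dg {0, 1, 2}, dg {0, 1, 2, 3}, dg {0, 1, 2, 4}])
    (hc : ∀ M ∈ P, M * X = X * M) : P = ⊥ := by
  have four : (∀ M ∈ P, M * dg {0, 1, 2, 3} = dg {0, 1, 2, 3} * M) → P = ⊥ :=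
    fix_bot_four hP hperf {0, 1, 2, 3} {4, 5, 6, 7} (by simp) neg_dg_facts.1 (by simp) (by decide)
  simp only [List.mem_cons, List.not_mem_nil, or_false] at hX
  rcases hX with rfl | rfl | rfl
  · have h3 := fix_coords hP hperf _ hc (by decide) (frame_large _ (by simp)).1
      (frame_large _ (by simp)).2
    have hd3 : ∀ M ∈ P, M * dg {3} = dg {3} * M := by
      intro M hM
      have h0 := h3 M hM 0 (by simp)
      have h1 := h3 M hM 1 (by simp)
      have h2 := h3 M hM 2 (by simp)
      unfold Fix at h0 h1 h2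
      obtain ⟨l, hl, hle⟩ := rootSet_mem (map_root (hP hM) plane_mem)
      rw [Matrix.mulVec_add, Matrix.mulVec_add, Matrix.mulVec_add, h0, h1, h2] at hle
      have hco : ∀ i : Fin 8, i.val < 3 → ((M : Mat8) *ᵥ ee 3) i = 0 := by
        intro i hi
        have hf : (M : Mat8) *ᵥ ee i = ee i := by
          have hmem : i = 0 ∨ i = 1 ∨ i = 2 := by revert i; decide
          rcases hmem with rfl | rfl | rfl <;> assumption
        have h := dot_map (hP hM) (ee i) (ee 3)
        rw [hf, ee_dot, ee_dot] at h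
        rw [h]
        exact (low_facts i hi).1
      have hd : ∀ i : Fin 8, i.val < 3 → l.getD i.val 0 = 1 := by
        intro i hi
        refine digit_one l hl i ?_
        have h := congrFun hle i
        simp only [vec, Pi.add_apply, hco i hi, add_zero] at h
        rw [h]
        exact (low_facts i hi).2
      have ei : refl (ee 3) = dg {3} := Units.ext (by
        rw [refl_val (dot_self (ee_mem 3))]; decide +kernel)
      have hconj := refl_conj (hP hM) (ee_mem 3)
      have hneg : refl (-ee 3) = refl (ee 3) := by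
        rw [refl, refl, reflM, reflM, Matrix.neg_vecMulVec, Matrix.vecMulVec_neg, neg_neg]
      rcases plane_root l hl (hd 0 (by decide)) (hd 1 (by decide)) (hd 2 (by decide)) with e | e <;>
        rw [hle] at e
      · rw [add_left_cancel e, ei] at hconj
        exact mul_inv_eq_iff_eq_mul.1 hconj
      · rw [sub_eq_add_neg] at e
        rw [add_left_cancel e, hneg, ei] at hconj
        exact mul_inv_eq_iff_eq_mul.1 hconj
    have h4 := fix_coords hP hperf _ hd3 (by decide) (frame_small _ (by simp)).1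
      (frame_small _ (by simp)).2
    refine four fun M hM => commute_dg_of_fix _ (hP hM) fun t ht => ?_
    simp only [Finset.mem_insert, Finset.mem_singleton] at ht
    rcases ht with rfl | rfl | rfl | rfl
    · exact h3 M hM 0 (by simp)
    · exact h3 M hM 1 (by simp)
    · exact h3 M hM 2 (by simp)
    · exact h4 M hM 3 (by simp)
  · exact four hc
  · exact fix_bot_four hP hperf {0, 1, 2, 4} {3, 5, 6, 7} (by simp) neg_dg_facts.2 (by simp)
      (by decide) hc

theorem single_root : ∀ k : Fin 8, ∀ l ∈ rootL, (∀ j : Fin 8, j ≠ k → l.getD j.val 0 = 0) →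
    vec l = ee k ∨ vec l = -ee k := by
  decide +kernel

theorem pair_root : ∀ l ∈ rootL, (∀ j : Fin 8, 2 ≤ j.val → l.getD j.val 0 = 0) →
    vec l = ee 0 ∨ vec l = -ee 0 ∨ vec l = ee 1 ∨ vec l = -ee 1 := by
  decide +kernel

theorem cross_root : ∀ l ∈ rootL, l.getD 2 0 ≠ 0 → l.getD 4 0 ≠ 0 → l.getD 6 0 ≠ 0 →
    l.getD 1 0 = 0 := by
  decide +kernel

theorem cross_mem : ee 0 + ee 2 + ee 4 + ee 6 ∈ rootSet := by decide +kernel

theorem separate : ∀ k j : Fin 8, (2 ≤ k.val ∨ 2 ≤ j.val) → j ≠ k →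
    ∃ S ∈ [({2, 3} : Finset (Fin 8)), {4, 5}, {2, 4}, {2, 6}, {2, 7}], ¬ (j ∈ S ↔ k ∈ S) := by
  decide +kernel

theorem sq_of_commute_six {M : GL8} (hM : M ∈ W)
    (h : ∀ S ∈ [({2, 3} : Finset (Fin 8)), {4, 5}, {2, 4}, {2, 6}, {2, 7}], M * dg S = dg S * M) :
    M * M = 1 := by
  have hz : ∀ k j : Fin 8, (2 ≤ k.val ∨ 2 ≤ j.val) → j ≠ k → ((M : Mat8) *ᵥ ee k) j = 0 := by
    intro k j hkj hne
    obtain ⟨S, hS, hsep⟩ := separate k j hkj hne
    have e := congrFun (congrArg (fun N : GL8 => (N : Mat8) *ᵥ ee k) (h S hS)) j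
    simp only [Units.val_mul, ← Matrix.mulVec_mulVec, dg_mulVec] at e
    have hs : ((dg S : GL8) : Mat8) *ᵥ ee k = (if k ∈ S then (-1 : ZMod 3) else 1) • ee k := by
      funext i
      rw [dg_mulVec]
      by_cases hik : i = k
      · subst hik; simp
      · simp [hik]
    rw [hs, Matrix.mulVec_smul, Pi.smul_apply, smul_eq_mul] at e
    have h3 : ∀ x : ZMod 3, -x = x → x = 0 := by decide
    by_cases hk : k ∈ S <;> by_cases hj : j ∈ S <;> simp only [hk, hj, if_true, if_false, neg_mul,
      one_mul] at e hsep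
    · exact (hsep trivial).elim
    · exact h3 _ e
    · exact h3 _ e.symm
    · exact (hsep trivial).elim
  have hdig : ∀ l ∈ rootL, ∀ j : Fin 8, vec l j = 0 → l.getD j.val 0 = 0 := fun l hl j hj =>
    (root_digit l hl j).resolve_right fun hne => hne hj
  have hline : ∀ k : Fin 8, (M : Mat8) *ᵥ ee k = ee k ∨ (M : Mat8) *ᵥ ee k = -ee k := by
    have hbig : ∀ k : Fin 8, 2 ≤ k.val →
        (M : Mat8) *ᵥ ee k = ee k ∨ (M : Mat8) *ᵥ ee k = -ee k := by
      intro k hk
      obtain ⟨l, hl, hle⟩ := rootSet_mem (map_root hM (ee_mem k))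
      rw [← hle]
      exact single_root k l hl fun j hj => hdig l hl j (by rw [hle]; exact hz k j (Or.inl hk) hj)
    have h0 : ((M : Mat8) *ᵥ ee 0) 1 = 0 := by
      obtain ⟨l, hl, hle⟩ := rootSet_mem (map_root hM cross_mem)
      rw [Matrix.mulVec_add, Matrix.mulVec_add, Matrix.mulVec_add] at hle
      have hne : ∀ k : Fin 8, k = 2 ∨ k = 4 ∨ k = 6 → l.getD k.val 0 ≠ 0 := by
        intro k hk e
        have hv : vec l k = 0 := by simp only [vec, e]; rfl
        have hk2 : 2 ≤ k.val := by rcases hk with rfl | rfl | rfl <;> decide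
        have e0 : ((M : Mat8) *ᵥ ee 0) k = 0 :=
          hz 0 k (Or.inr hk2) (by rcases hk with rfl | rfl | rfl <;> decide)
        rw [hle] at hv
        rcases hk with rfl | rfl | rfl <;>
          rcases hbig 2 (by decide) with e2 | e2 <;> rcases hbig 4 (by decide) with e4 | e4 <;>
          rcases hbig 6 (by decide) with e6 | e6 <;>
          simp (config := { decide := true }) only [Pi.add_apply, Pi.neg_apply, Pi.single_apply,
            if_true, if_false, add_zero, zero_add, neg_zero, e0, e2, e4, e6] at hv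
      have e := cross_root l hl (hne 2 (by simp)) (hne 4 (by simp)) (hne 6 (by simp))
      have hv : vec l 1 = 0 := by
        show ((l.getD 1 0 : ℕ) : ZMod 3) = 0
        rw [e]; rfl
      rw [hle] at hv
      rcases hbig 2 (by decide) with e2 | e2 <;> rcases hbig 4 (by decide) with e4 | e4 <;>
          rcases hbig 6 (by decide) with e6 | e6 <;>
          simp (config := { decide := true }) only [Pi.add_apply, Pi.neg_apply, Pi.single_apply,
            if_true, if_false, add_zero, zero_add, neg_zero, e2, e4, e6] at hv <;> exact hv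
    have hcase : ∀ k : Fin 8, k.val < 2 → ((M : Mat8) *ᵥ ee k = ee 0 ∨ (M : Mat8) *ᵥ ee k = -ee 0 ∨
        (M : Mat8) *ᵥ ee k = ee 1 ∨ (M : Mat8) *ᵥ ee k = -ee 1) := by
      intro k hk
      obtain ⟨l, hl, hle⟩ := rootSet_mem (map_root hM (ee_mem k))
      rw [← hle]
      exact pair_root l hl fun j hj => hdig l hl j (by
        rw [hle]; exact hz k j (Or.inr hj) (fun e => by subst e; omega))
    have hM0 : (M : Mat8) *ᵥ ee 0 = ee 0 ∨ (M : Mat8) *ᵥ ee 0 = -ee 0 := by
      rcases hcase 0 (by decide) with e | e | e | e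
      · exact Or.inl e
      · exact Or.inr e
      · simp [e] at h0
      · simp [e] at h0
    intro k
    by_cases hk : 2 ≤ k.val
    · exact hbig k hk
    · obtain rfl | rfl : k = 0 ∨ k = 1 := by revert hk; revert k; decide
      · exact hM0
      · have ho := dot_map hM (ee 1) (ee 0)
        rw [ee_dot] at ho
        rcases hcase 1 (by decide) with e | e | e | e
        · exfalso; rcases hM0 with e0 | e0 <;> simp [e, e0] at ho
        · exfalso; rcases hM0 with e0 | e0 <;> simp [e, e0] at ho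
        · exact Or.inl e
        · exact Or.inr e
  refine eq_one_of_fix_all fun k => ?_
  unfold Fix
  rw [Units.val_mul, ← Matrix.mulVec_mulVec]
  rcases hline k with e | e
  · rw [e, e]
  · rw [e, Matrix.mulVec_neg, e, neg_neg]

theorem refl_mulVec {a : Vec} (ha : a ∈ rootSet) (v : Vec) :
    (refl a : Mat8) *ᵥ v = v + (a ⬝ᵥ v) • a := by
  rw [refl_val (dot_self ha), reflM, Matrix.add_mulVec, Matrix.one_mulVec, Matrix.vecMulVec_mulVec]
  simp [op_smul_eq_smul]

theorem commute_refl {a b : Vec} (ha : a ∈ rootSet) (hb : b ∈ rootSet)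
    (h : refl a * refl b = refl b * refl a) : a ⬝ᵥ b = 0 ∨ a = b ∨ a = -b := by
  have e := congrArg (fun N : GL8 => (N : Mat8) *ᵥ a) h
  simp only [Units.val_mul, ← Matrix.mulVec_mulVec, refl_mulVec ha, refl_mulVec hb,
    dot_self ha, dotProduct_add, dotProduct_smul, smul_eq_mul, dotProduct_comm b a] at e
  by_cases h0 : a ⬝ᵥ b = 0
  · exact Or.inl h0
  refine Or.inr ?_
  have hs : ∀ x : ZMod 3, x ≠ 0 → x = 1 ∨ x = -1 := by decide
  rcases hs _ h0 with s | s <;> rw [s] at e
  · refine Or.inl (funext fun i => ?_)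
    have h' := congrFun e i
    simp only [Pi.add_apply, Pi.smul_apply, smul_eq_mul] at h'
    revert h'
    generalize a i = x
    generalize b i = y
    revert x y
    decide
  · refine Or.inr (funext fun i => ?_)
    have h' := congrFun e i
    simp only [Pi.add_apply, Pi.smul_apply, Pi.neg_apply, smul_eq_mul] at h' ⊢
    revert h'
    generalize a i = x
    generalize b i = y
    revert x y
    decide

theorem root_pair {a : Vec} (ha : a ∈ rootSet) (h : refl a * dg {0, 1} = dg {0, 1} * refl a) :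
    a = ee 0 ∨ a = -ee 0 ∨ a = ee 1 ∨ a = -ee 1 ∨
      ((dg {0, 1} : Mat8) * refl a).trace = 2 := by
  have hsa : (refl a : Mat8) *ᵥ a = -a := by
    rw [refl_mulVec ha, dot_self ha, one_smul]
    funext i
    have h3 : ∀ x : ZMod 3, x + x = -x := by decide
    exact h3 _
  have e := congrArg (fun N : GL8 => (N : Mat8) *ᵥ a) h
  simp only [Units.val_mul, ← Matrix.mulVec_mulVec, hsa, Matrix.mulVec_neg, refl_mulVec ha] at e
  set w := ((dg {0, 1} : GL8) : Mat8) *ᵥ a
  set s := a ⬝ᵥ w with hs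
  have hw : ∀ i, w i = s * a i := by
    intro i
    have h' := congrFun e i
    simp only [Pi.add_apply, Pi.smul_apply, Pi.neg_apply, smul_eq_mul] at h'
    have h3 : ∀ x y : ZMod 3, x + y = -x → x = y := by decide
    exact h3 _ _ h'
  have hcases : ∀ x : ZMod 3, x = 0 ∨ x = 1 ∨ x = -1 := by decide
  rcases hcases s with hs' | hs' | hs'
  · exfalso
    have h0 : w = 0 := funext fun i => by rw [hw, hs', zero_mul]; rfl
    have hnz : a = 0 := funext fun i => by
      have := congrFun h0 i
      simp only [w, dg_mulVec, Pi.zero_apply] at this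
      split at this <;> simpa using this
    have := dot_self ha
    rw [hnz] at this
    simp at this
  · refine Or.inr (Or.inr (Or.inr (Or.inr ?_)))
    rw [refl_val (dot_self ha), reflM, mul_add, mul_one, Matrix.trace_add, Matrix.mul_vecMulVec,
      Matrix.trace_vecMulVec, dotProduct_comm]
    show _ + a ⬝ᵥ w = 2
    rw [← hs, hs']
    decide +kernel
  · obtain ⟨l, hl, rfl⟩ := rootSet_mem ha
    have hp := pair_root l hl fun j hj => (root_digit l hl j).resolve_right fun hne => hne (by
      have h' := hw j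
      simp only [w, dg_mulVec, hs', neg_one_mul] at h'
      rw [if_neg (notMem_pair j hj), one_mul] at h'
      have h3 : ∀ x : ZMod 3, x = -x → x = 0 := by decide
      exact h3 _ h')
    rcases hp with p | p | p | p
    · exact Or.inl p
    · exact Or.inr (Or.inl p)
    · exact Or.inr (Or.inr (Or.inl p))
    · exact Or.inr (Or.inr (Or.inr (Or.inl p)))

end CfsgLib.StdForm.OmegaEight
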