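import Cfsg.Agent.Lib.StdForm.DoubleCover
import Cfsg.Agent.Lib.StdForm.OmegaEight.Bridge
import Cfsg.Agent.Lib.StdForm.OmegaEight.Core
import Cfsg.Agent.Lib.Classical.Quad.Std

/-!
Transport between the normalizer of a standard double cover of `POmega8+(2)` and its model.
-/

set_option autoImplicit false
set_option maxHeartbeats 400000

namespace CfsgLib.StdForm.OmegaEight

open Subgroup CfsgLib.Schur.D4Two
open scoped commutatorElement

/-- The elements of two-power order in the second derived subgroup of the normalizer lie in `A`. -/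
theorem two_mem {G : Type*} [Group G] [Finite G] {A : Subgroup G} {z : G}
    (h : DoubleCover.Setup A z)
    (hder : ⁅normalizer (A : Set G), normalizer (A : Set G)⁆ ≤ A ⊔ centralizer (A : Set G))
    {x : G} (hx : x ∈ ⁅⁅normalizer (A : Set G), normalizer (A : Set G)⁆,
      ⁅normalizer (A : Set G), normalizer (A : Set G)⁆⁆)
    {k : ℕ} (hk : x ^ (2 ^ k) = 1) : x ∈ A := by
  classical
  set C := centralizer (A : Set G) with hC
  have hcomm : ∀ a ∈ A, ∀ c ∈ C, Commute a c := fun a ha c hc => mem_centralizer_iff.1 hc a ha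
  set D : Subgroup G := ⁅C, C⁆ with hDdef
  have hDC : D ≤ C := by
    rw [hDdef, commutator_le]
    intro a ha b hb
    rw [commutatorElement_def]
    exact mul_mem (mul_mem (mul_mem ha hb) (inv_mem ha)) (inv_mem hb)
  have hmem : ∀ g ∈ A ⊔ D, ∃ a ∈ A, ∃ d ∈ D, g = a * d := by
    intro g hg
    have hle : D ≤ normalizer (A : Set G) := hDC.trans (centralizer_le_normalizer _)
    have h2 := SetLike.mem_coe.2 hg
    rw [Subgroup.coe_mul_of_right_le_normalizer_left A _ hle] at h2
    obtain ⟨a, ha, d, hd, e⟩ := h2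
    exact ⟨a, ha, d, hd, e.symm⟩
  -- odd order of the derived subgroup of the centraliser
  have hDodd : ∀ d ∈ D, Odd (orderOf d) := by
    haveI : Fact (Nat.Prime 2) := ⟨Nat.prime_two⟩
    obtain ⟨R⟩ : Nonempty (Sylow 2 ↥C) := inferInstance
    have hp : (Nat.card ↥C).minFac = 2 := by
      rw [Nat.minFac_eq_two_iff, ← h.hz]
      exact orderOf_dvd_natCard C h.hzC
    have hle := IsCyclic.normalizer_le_centralizer (P := R) hp (h.cyc R)
    let f := MonoidHom.transferSylow R hle
    have hker : ¬ 2 ∣ Nat.card f.ker := MonoidHom.not_dvd_card_ker_transferSylow R hle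
    have hD' : ⁅(⊤ : Subgroup ↥C), ⊤⁆ ≤ f.ker := by
      haveI := h.cyc R
      letI : CommGroup ↥(R : Subgroup ↥C) := IsCyclic.commGroup
      rw [commutator_le]
      intro a _ b _
      rw [MonoidHom.mem_ker, map_commutatorElement]
      exact commutatorElement_eq_one_iff_mul_comm.2 (mul_comm (f a) (f b))
    intro d hd
    have hd' : d ∈ Subgroup.map C.subtype ⁅(⊤ : Subgroup ↥C), (⊤ : Subgroup ↥C)⁆ := by
      rw [map_commutator, ← MonoidHom.range_eq_map, range_subtype]
      exact hd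
    obtain ⟨d', hd'', rfl⟩ := hd'
    rw [coe_subtype, orderOf_submonoid]
    refine (Nat.odd_iff.2 (Nat.two_dvd_ne_zero.1 fun h2 => hker (h2.trans ?_)))
    exact Subgroup.orderOf_dvd_natCard _ (hD' hd'')
  have hx' : x ∈ A ⊔ D := by
    have hle : ⁅A ⊔ C, A ⊔ C⁆ ≤ A ⊔ D := by
      rw [commutator_le]
      intro g hg g' hg'
      obtain ⟨a, ha, c, hc, rfl⟩ := DoubleCover.Setup.exists_mul_of_mem_sup hg
      obtain ⟨b, hb, c', hc', rfl⟩ := DoubleCover.Setup.exists_mul_of_mem_sup hg'
      have e : ⁅a * c, b * c'⁆ = ⁅a, b⁆ * ⁅c, c'⁆ := by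
        have hA : ⁅a, b⁆ ∈ A := by
          rw [commutatorElement_def]
          exact mul_mem (mul_mem (mul_mem ha hb) (inv_mem ha)) (inv_mem hb)
        calc ⁅a * c, b * c'⁆ = a * (c * b) * (c' * c⁻¹) * a⁻¹ * c'⁻¹ * b⁻¹ := by
              simp only [commutatorElement_def]; group
          _ = a * b * c * ((c' * c⁻¹) * a⁻¹) * c'⁻¹ * b⁻¹ := by
              rw [← (hcomm b hb c hc).eq]; group
          _ = a * b * (c * a⁻¹) * (c' * c⁻¹ * c'⁻¹ * b⁻¹) := by
              rw [← (hcomm _ (inv_mem ha) _ (mul_mem hc' (inv_mem hc))).eq]; group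
          _ = a * b * a⁻¹ * (c * c' * c⁻¹ * c'⁻¹ * b⁻¹) := by
              rw [← (hcomm _ (inv_mem ha) c hc).eq]; group
          _ = ⁅a, b⁆ * ⁅c, c'⁆ := by
              rw [← (hcomm _ (inv_mem hb) _ (mul_mem (mul_mem (mul_mem hc hc') (inv_mem hc))
                (inv_mem hc'))).eq]
              simp only [commutatorElement_def]; group
      rw [e]
      refine mul_mem (mem_sup_left ?_) (mem_sup_right (commutator_mem_commutator hc hc'))
      rw [commutatorElement_def]
      exact mul_mem (mul_mem (mul_mem ha hb) (inv_mem ha)) (inv_mem hb)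
    exact hle (commutator_mono hder hder hx)
  obtain ⟨a, ha, d, hd, rfl⟩ := hmem x hx'
  rw [(hcomm a ha d (hDC hd)).mul_pow] at hk
  have hdA : d ^ (2 ^ k) ∈ A := by
    rw [eq_inv_of_mul_eq_one_right hk]; exact inv_mem (pow_mem ha _)
  have hd1 : d ^ (2 ^ k) = 1 := by
    refine (h.uniq _ hdA (pow_mem (hDC hd) _)).resolve_right fun e => ?_
    have hodd := hDodd _ (pow_mem hd (2 ^ k))
    rw [e, h.hz] at hodd
    exact absurd hodd (by decide)
  have hd2 : orderOf d = 1 :=
    Nat.eq_one_of_dvd_coprimes ((Nat.coprime_two_right.2 (hDodd d hd)).pow_right k) dvd_rfl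
      (orderOf_dvd_of_pow_eq_one hd1)
  rw [orderOf_eq_one_iff.1 hd2, mul_one]
  exact ha

/-- A perfect subgroup of the normalizer generated by involutions lies in `A`. -/
theorem perfectInv_le {G : Type*} [Group G] [Finite G] {A : Subgroup G} {z : G}
    (h : DoubleCover.Setup A z)
    (hder : ⁅normalizer (A : Set G), normalizer (A : Set G)⁆ ≤ A ⊔ centralizer (A : Set G))
    {P : Subgroup G} (hP : P ≤ normalizer (A : Set G)) (hinv : PerfectInv P) : P ≤ A := by
  have h1 : P ≤ ⁅normalizer (A : Set G), normalizer (A : Set G)⁆ :=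
    hinv.1.symm.le.trans (commutator_mono hP hP)
  have h2 := hinv.1.symm.le.trans (commutator_mono h1 h1)
  rw [← hinv.2, closure_le]
  rintro x ⟨hx, hxx⟩
  exact two_mem h hder (h2 hx) (k := 1) (by rw [pow_one, pow_two, hxx])

/-- The order of the double cover. -/
theorem card_W1 {A : Type*} [Group A] [Finite A] {F : Type*} [Field F] [Fintype F]
    (hF : Fintype.card F = 2) (hperf : commutator A = ⊤) (hZ : Nat.card ↥(center A) = 2)
    (e : Nonempty ((A ⧸ center A) ≃* Cfsg.POmega F (Cfsg.quadFormPlus 4 F))) :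
    Nat.card W1 = 348364800 := by
  obtain ⟨φ, hφ, hr, -⟩ := exists_model_frame hF hperf hZ e
  obtain ⟨e⟩ := e
  have h := CfsgLib.Classical.Quad.card_pomega_plus (F := F) (show 3 ≤ 4 by norm_num)
  rw [Nat.card_eq_fintype_card (α := F), hF] at h
  simp only [Finset.prod_range_succ, Finset.prod_range_zero] at h
  norm_num at h
  rw [← hr, ← Nat.card_congr (MonoidHom.ofInjective hφ).toEquiv,
    card_eq_card_quotient_mul_card_subgroup (center A), Nat.card_congr e.toEquiv, hZ]
  omega

/-- The centralizer of `W1` in `W`. -/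
theorem eq_one_or_neg {M : GL8} (hM : M ∈ W) (h : ∀ X ∈ W1, M * X = X * M) : M = 1 ∨ M = -1 := by
  have hc : ∀ r, Commute (basisU * M * basisU⁻¹) (matU r) := fun r => by
    have e := h (genU r) (subset_closure ⟨r, rfl⟩)
    show basisU * M * basisU⁻¹ * matU r = matU r * (basisU * M * basisU⁻¹)
    calc basisU * M * basisU⁻¹ * matU r = basisU * (M * genU r) * basisU⁻¹ := by
          simp only [genU]; group
      _ = matU r * (basisU * M * basisU⁻¹) := by rw [e]; simp only [genU]; group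
  obtain ⟨s, hs⟩ := MatModel.scalar_of_commute
    ((basisU * M * basisU⁻¹ : GL8) : Matrix (Fin 8) (Fin 8) (ZMod 3)) fun r =>
      (congrArg Units.val (hc r).eq).symm
  have hval : (M : Matrix (Fin 8) (Fin 8) (ZMod 3)) = s • 1 := by
    have e : M = basisU⁻¹ * (basisU * M * basisU⁻¹) * basisU := by group
    rw [e, Units.val_mul, Units.val_mul, hs, Matrix.mul_smul, Matrix.mul_one, Matrix.smul_mul,
      ← Units.val_mul, inv_mul_cancel, Units.val_one]
  have ho := orth hM
  rw [hval, Matrix.transpose_smul, Matrix.transpose_one, Matrix.smul_mul, Matrix.one_mul,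
    smul_smul] at ho
  have hss := congrFun (congrFun ho 0) 0
  simp only [Matrix.smul_apply, Matrix.one_apply_eq, smul_eq_mul, mul_one] at hss
  rcases (by decide : ∀ s : ZMod 3, s * s = 1 → s = 1 ∨ s = -1) s hss with rfl | rfl
  · exact Or.inl (Units.ext (by rw [hval, one_smul, Units.val_one]))
  · exact Or.inr (Units.ext (by rw [hval, neg_smul, one_smul, Units.val_neg, Units.val_one]))

/-- The derived subgroup of the normalizer induces inner automorphisms. -/
theorem der_le {G : Type*} [Group G] {A : Subgroup G} (φ : ↥A →* GL8)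
    (hi : Function.Injective φ) (hr : φ.range = W1)
    (hσ : ∀ σ : MulAut ↥A, ∃ M ∈ W, ∀ a, φ (σ a) = M * φ a * M⁻¹) :
    ⁅normalizer (A : Set G), normalizer (A : Set G)⁆ ≤ A ⊔ centralizer (A : Set G) := by
  rw [commutator_le]
  intro g hg g' hg'
  let ν : ↥(normalizer (A : Set G)) →* MulAut ↥A := normalizerMonoidHom A
  let n : ↥(normalizer (A : Set G)) := ⟨g, hg⟩
  let n' : ↥(normalizer (A : Set G)) := ⟨g', hg'⟩
  obtain ⟨M, hM, hMe⟩ := hσ (ν n)
  obtain ⟨M', hM', hMe'⟩ := hσ (ν n')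
  have hinv : ∀ (σ : MulAut ↥A) (X : GL8), (∀ a, φ (σ a) = X * φ a * X⁻¹) →
      ∀ a, φ (σ⁻¹ a) = X⁻¹ * φ a * X := fun σ X hX a => by
    have e := hX (σ⁻¹ a)
    rw [MulAut.apply_inv_self] at e
    rw [e]; group
  have hcomp : ∀ a, φ (ν ⁅n, n'⁆ a) = ⁅M, M'⁆ * φ a * ⁅M, M'⁆⁻¹ := fun a => by
    rw [map_commutatorElement, commutatorElement_def, MulAut.mul_apply, MulAut.mul_apply,
      MulAut.mul_apply, hMe, hMe', hinv _ _ hMe, hinv _ _ hMe']
    simp only [commutatorElement_def]; group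
  have hW : ⁅M, M'⁆ ∈ W1 := by
    rw [mem_W1_iff (by rw [commutatorElement_def]
                       exact mul_mem (mul_mem (mul_mem hM hM') (inv_mem hM)) (inv_mem hM'))]
    let f : GL8 →* (ZMod 3)ˣ := Units.map Matrix.detMonoidHom
    have e : f ⁅M, M'⁆ = 1 := by
      rw [map_commutatorElement]
      exact commutatorElement_eq_one_iff_mul_comm.2 (mul_comm _ _)
    have e' := congrArg Units.val e
    rw [Units.coe_map, Units.val_one, Matrix.coe_detMonoidHom] at e'
    exact e'
  rw [← hr] at hW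
  obtain ⟨b, hb⟩ := hW
  have hmem : (b : G)⁻¹ * ⁅g, g'⁆ ∈ centralizer (A : Set G) := by
    refine mem_centralizer_iff.2 fun a ha => ?_
    have e : ν ⁅n, n'⁆ ⟨a, ha⟩ = b * ⟨a, ha⟩ * b⁻¹ := hi (by
      rw [hcomp, map_mul, map_mul, map_inv, hb])
    have e' : ⁅g, g'⁆ * a * ⁅g, g'⁆⁻¹ = (b : G) * a * (b : G)⁻¹ := congrArg Subtype.val e
    calc a * ((b : G)⁻¹ * ⁅g, g'⁆) = (b : G)⁻¹ * ((b : G) * a * (b : G)⁻¹) * ⁅g, g'⁆ := by group
      _ = (b : G)⁻¹ * ⁅g, g'⁆ * a := by rw [← e']; group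
  have e : ⁅g, g'⁆ = (b : G) * ((b : G)⁻¹ * ⁅g, g'⁆) := by group
  rw [e]
  exact mul_mem (mem_sup_left b.2) (mem_sup_right hmem)

end CfsgLib.StdForm.OmegaEight
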