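import Cfsg.Agent.Lib.StdForm.DoubleCover
import Cfsg.Agent.Lib.StdForm.OmegaEight.Core
import Cfsg.Agent.Lib.StdForm.OmegaEight.Planes
import Cfsg.Agent.Lib.StdForm.OmegaEight.Transport
import Cfsg.Agent.Lib.StdForm.OmegaEight.Classify
import Cfsg.Agent.Lib.StdForm.OmegaEight.FixCoords

/-!
The double cover of `POmega8+(2)` inside a group in which it is a standard subgroup: the model of
the normalizer, and the classes of conjugates of the centre.
-/

set_option autoImplicit false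

open Subgroup
open scoped Matrix commutatorElement

namespace CfsgLib.StdForm.OmegaEight

universe u

variable {G : Type u} [Group G]

/-- The identification of `A` with `W1`, with the action of the normalizer given by `W`. -/
structure Mdl (A : Subgroup G) (z : G) where
  setup : DoubleCover.Setup A z
  φ : ↥A →* GL8
  inj : Function.Injective φ
  range_eq : φ.range = W1
  lift : ∀ g ∈ normalizer (A : Set G), ∃ M ∈ W, ∀ a b : ↥A, (b : G) = g * a * g⁻¹ → φ b = M * φ a * M⁻¹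
  card_W1 : Nat.card W1 = 348364800
  hder : ⁅normalizer (A : Set G), normalizer (A : Set G)⁆ ≤ A ⊔ centralizer (A : Set G)

namespace Mdl

variable {A : Subgroup G} {z : G} (m : Mdl A z)

/-- The matrix `M` induces the action of `g` on `A`. -/
def Ind (g : G) (M : GL8) : Prop := ∀ a b : ↥A, (b : G) = g * a * g⁻¹ → m.φ b = M * m.φ a * M⁻¹

open _root_.Classical in
/-- The element of `A` with a given matrix. -/
noncomputable def el (X : GL8) : G :=
  if h : ∃ a : ↥A, m.φ a = X then (h.choose : G) else 1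

theorem el_mem (X : GL8) : m.el X ∈ A := by
  unfold el
  split
  · exact Subtype.coe_prop _
  · exact one_mem _

theorem mem_range {X : GL8} (hX : X ∈ W1) : ∃ a : ↥A, m.φ a = X :=
  MonoidHom.mem_range.1 (m.range_eq ▸ hX)

theorem φ_mem (a : ↥A) : m.φ a ∈ W1 := m.range_eq ▸ ⟨a, rfl⟩

theorem el_coe (a : ↥A) : m.el (m.φ a) = a := by
  have h : ∃ b : ↥A, m.φ b = m.φ a := ⟨a, rfl⟩
  rw [el, dif_pos h, m.inj h.choose_spec]

theorem exists_el {X : GL8} (hX : X ∈ W1) : ∃ a : ↥A, m.φ a = X ∧ m.el X = a := by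
  obtain ⟨a, rfl⟩ := m.mem_range hX
  exact ⟨a, rfl, m.el_coe a⟩

theorem el_mul {X Y : GL8} (hX : X ∈ W1) (hY : Y ∈ W1) : m.el (X * Y) = m.el X * m.el Y := by
  obtain ⟨a, rfl, ha⟩ := m.exists_el hX
  obtain ⟨b, rfl, hb⟩ := m.exists_el hY
  rw [← map_mul, ha, hb, m.el_coe]
  rfl

theorem el_one : m.el 1 = 1 := by
  rw [← map_one m.φ, m.el_coe]; rfl

theorem el_inv {X : GL8} (hX : X ∈ W1) : m.el X⁻¹ = (m.el X)⁻¹ := by
  refine eq_inv_of_mul_eq_one_left ?_
  rw [← m.el_mul (inv_mem hX) hX, inv_mul_cancel, el_one]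

theorem el_inj {X Y : GL8} (hX : X ∈ W1) (hY : Y ∈ W1) (h : m.el X = m.el Y) : X = Y := by
  obtain ⟨a, rfl, ha⟩ := m.exists_el hX
  obtain ⟨b, rfl, hb⟩ := m.exists_el hY
  rw [Subtype.ext (ha.symm.trans (h.trans hb))]

theorem neg_one_mem_W1 (m : Mdl A z) : (-1 : GL8) ∈ W1 ∧ m.φ ⟨z, m.setup.hzA⟩ = -1 := by
  have hW : m.φ ⟨z, m.setup.hzA⟩ ∈ W := W1_le_W (m.φ_mem _)
  have hc : ∀ X ∈ W1, m.φ ⟨z, m.setup.hzA⟩ * X = X * m.φ ⟨z, m.setup.hzA⟩ := by
    intro X hX
    obtain ⟨a, rfl⟩ := m.mem_range hX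
    rw [← map_mul, ← map_mul]
    exact congrArg m.φ (Subtype.ext (mem_centralizer_iff.1 m.setup.hzC a a.2).symm)
  rcases eq_one_or_neg hW hc with e | e
  · exfalso
    exact m.setup.ne_one (congrArg Subtype.val (m.inj (e.trans (map_one m.φ).symm)))
  · exact ⟨e ▸ m.φ_mem _, e⟩

theorem el_neg_one : m.el (-1) = z := by
  rw [← m.neg_one_mem_W1.2, m.el_coe]

theorem neg_mem {X : GL8} (hX : X ∈ W1) (m : Mdl A z) : -X ∈ W1 := by
  simpa using mul_mem m.neg_one_mem_W1.1 hX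

theorem el_neg {X : GL8} (hX : X ∈ W1) : m.el (-X) = z * m.el X := by
  rw [← neg_one_mul, m.el_mul m.neg_one_mem_W1.1 hX, el_neg_one]

theorem mem_normalizer_of_mem {a : G} (ha : a ∈ A) : a ∈ normalizer (A : Set G) := le_normalizer ha

theorem el_mem_normalizer (X : GL8) : m.el X ∈ normalizer (A : Set G) := le_normalizer (m.el_mem X)

theorem ind_el {X : GL8} (hX : X ∈ W1) : m.Ind (m.el X) X := by
  intro a b hb
  obtain ⟨c, rfl, hc⟩ := m.exists_el hX
  rw [hc] at hb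
  rw [show b = c * a * c⁻¹ from Subtype.ext hb, map_mul, map_mul, map_inv]

theorem ind_mul {g g' : G} {M M' : GL8} (hg' : g' ∈ normalizer (A : Set G)) (h : m.Ind g M)
    (h' : m.Ind g' M') : m.Ind (g * g') (M * M') := by
  intro a b hb
  let c : ↥A := ⟨g' * a * g'⁻¹, (mem_normalizer_iff.1 hg' a).1 a.2⟩
  rw [h c b (by rw [hb]; show _ = g * (g' * (a : G) * g'⁻¹) * g⁻¹; group), h' a c rfl]
  group

theorem ind_inv {g : G} {M : GL8} (hg : g ∈ normalizer (A : Set G)) (h : m.Ind g M) :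
    m.Ind g⁻¹ M⁻¹ := by
  intro a b hb
  rw [h b a (by rw [hb]; group)]
  group

theorem ind_neg {g : G} {M : GL8} (h : m.Ind g M) : m.Ind g (-M) := by
  intro a b hb
  rw [h a b hb, inv_neg, neg_mul, neg_mul, mul_neg, neg_neg]

theorem ind_unique {g : G} {M M' : GL8} (hM : M ∈ W) (hM' : M' ∈ W) (hg : g ∈ normalizer (A : Set G))
    (h : m.Ind g M) (h' : m.Ind g M') : M' = M ∨ M' = -M := by
  have hc : ∀ X ∈ W1, M⁻¹ * M' * X = X * (M⁻¹ * M') := by
    intro X hX
    obtain ⟨a, rfl⟩ := m.mem_range hX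
    let b : ↥A := ⟨g * a * g⁻¹, (mem_normalizer_iff.1 hg a).1 a.2⟩
    have e := (h a b rfl).symm.trans (h' a b rfl)
    calc M⁻¹ * M' * m.φ a = M⁻¹ * (M' * m.φ a * M'⁻¹) * M' := by group
      _ = m.φ a * (M⁻¹ * M') := by rw [← e]; group
  rcases eq_one_or_neg (mul_mem (inv_mem hM) hM') hc with e | e
  · exact Or.inl (inv_mul_eq_one.1 e).symm
  · refine Or.inr ?_
    rw [inv_mul_eq_iff_eq_mul.1 e, mul_neg, mul_one]

/-- An element acting as a matrix commutes with the elements of `A` whose matrices commute with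
it. -/
theorem commute_el {g : G} {M X : GL8} (hg : g ∈ normalizer (A : Set G)) (h : m.Ind g M)
    (hX : X ∈ W1) (hc : X * M = M * X) : g * m.el X = m.el X * g := by
  obtain ⟨a, rfl, ha⟩ := m.exists_el hX
  let b : ↥A := ⟨g * a * g⁻¹, (mem_normalizer_iff.1 hg a).1 a.2⟩
  have e : m.φ b = m.φ a := by rw [h a b rfl, ← hc]; group
  have e' : g * (a : G) * g⁻¹ = a := congrArg Subtype.val (m.inj e)
  rw [ha]
  exact mul_inv_eq_iff_eq_mul.1 e'

theorem φ_commute {g : G} {M : GL8} (h : m.Ind g M) {a : ↥A} (hc : g * (a : G) = a * g) :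
    m.φ a * M = M * m.φ a := by
  have := h a a (by rw [hc]; group)
  exact mul_inv_eq_iff_eq_mul.1 this.symm |>.symm

theorem W1_normal {c X : GL8} (hc : c ∈ W) (hX : X ∈ W1) : c * X * c⁻¹ ∈ W1 := by
  rw [mem_W1_iff (mul_mem (mul_mem hc (W1_le_W hX)) (inv_mem hc))]
  have e := congrArg Matrix.det (Units.mul_inv c)
  rw [Matrix.det_mul, Matrix.det_one] at e
  rw [Units.val_mul, Units.val_mul, Matrix.det_mul, Matrix.det_mul, det_W1 hX, mul_one, e]

/-- The model conjugated by an element of `W`. -/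
def conj (c : GL8) (hc : c ∈ W) : Mdl A z where
  setup := m.setup
  φ := (MulAut.conj c).toMonoidHom.comp m.φ
  inj := (MulAut.conj c).injective.comp m.inj
  range_eq := by
    ext X
    constructor
    · rintro ⟨a, rfl⟩
      exact W1_normal hc (m.φ_mem a)
    · intro hX
      have h := W1_normal (inv_mem hc) hX
      rw [inv_inv] at h
      obtain ⟨a, ha⟩ := m.mem_range h
      refine ⟨a, ?_⟩
      show c * m.φ a * c⁻¹ = X
      rw [ha]; group
  lift := fun g hg => by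
    obtain ⟨M, hM, h⟩ := m.lift g hg
    refine ⟨c * M * c⁻¹, mul_mem (mul_mem hc hM) (inv_mem hc), fun a b hb => ?_⟩
    show c * m.φ b * c⁻¹ = c * M * c⁻¹ * (c * m.φ a * c⁻¹) * (c * M * c⁻¹)⁻¹
    rw [h a b hb]; group
  card_W1 := m.card_W1
  hder := m.hder

theorem conj_ind {c : GL8} (hc : c ∈ W) {g : G} {M : GL8} :
    (m.conj c hc).Ind g (c * M * c⁻¹) ↔ m.Ind g M := by
  constructor
  · intro h a b hb
    have e : c * m.φ b * c⁻¹ = c * M * c⁻¹ * (c * m.φ a * c⁻¹) * (c * M * c⁻¹)⁻¹ := h a b hb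
    calc m.φ b = c⁻¹ * (c * m.φ b * c⁻¹) * c := by group
      _ = M * m.φ a * M⁻¹ := by rw [e]; group
  · intro h a b hb
    show c * m.φ b * c⁻¹ = c * M * c⁻¹ * (c * m.φ a * c⁻¹) * (c * M * c⁻¹)⁻¹
    rw [h a b hb]; group

theorem conj_el {c : GL8} (hc : c ∈ W) {X : GL8} (hX : X ∈ W1) :
    (m.conj c hc).el (c * X * c⁻¹) = m.el X := by
  obtain ⟨a, rfl, ha⟩ := m.exists_el hX
  rw [ha]
  exact (m.conj c hc).el_coe a

end Mdl

/-- A conjugate of `z` in the normalizer, other than `z`. -/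
def Fused (A : Subgroup G) (z u : G) : Prop :=
  IsConj z u ∧ u ≠ z ∧ u ∈ normalizer (A : Set G)

namespace Fused

variable {A : Subgroup G} {z u : G}

theorem sq (h : DoubleCover.Setup A z) (hu : Fused A z u) : u * u = 1 := by
  obtain ⟨g, rfl⟩ := isConj_iff.1 hu.1
  rw [show g * z * g⁻¹ * (g * z * g⁻¹) = g * (z * z) * g⁻¹ by group, h.sq_eq]
  group

theorem ne_one (h : DoubleCover.Setup A z) (hu : Fused A z u) : u ≠ 1 := by
  obtain ⟨g, rfl⟩ := isConj_iff.1 hu.1
  exact fun e => h.ne_one (conj_eq_one_iff.1 e)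

theorem conj (h : DoubleCover.Setup A z) (hu : Fused A z u) {a : G}
    (ha : a ∈ normalizer (A : Set G)) : Fused A z (a * u * a⁻¹) :=
  ⟨hu.1.trans (isConj_iff.2 ⟨a, rfl⟩), fun e => hu.2.1 (by
    calc u = a⁻¹ * (a * u * a⁻¹) * a⁻¹⁻¹ := by group
      _ = z := by rw [e, h.conj_eq (inv_mem ha)]), mul_mem (mul_mem ha hu.2.2) (inv_mem ha)⟩

theorem notMem_centralizer [Finite G] (h : DoubleCover.Setup A z) (hu : Fused A z u) :
    u ∉ centralizer (A : Set G) := fun hC =>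
  (h.eq_of_sq hC (hu.sq h)).elim (hu.ne_one h) hu.2.1

end Fused

section Transport

variable {A : Subgroup G} {z : G}

theorem mem_normalizer_iff_commute (h : DoubleCover.Setup A z) {x : G} :
    x ∈ normalizer (A : Set G) ↔ x * z = z * x := by
  rw [← h.centralizer_eq, mem_centralizer_singleton_iff]

theorem pull_commute {g u x : G} (hg : g * z * g⁻¹ = u) (hc : x * u = u * x) :
    g⁻¹ * x * g * z = z * (g⁻¹ * x * g) := by
  have e : z = g⁻¹ * u * g := by rw [← hg]; group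
  rw [e]
  calc g⁻¹ * x * g * (g⁻¹ * u * g) = g⁻¹ * (x * u) * g := by group
    _ = g⁻¹ * (u * x) * g := by rw [hc]
    _ = g⁻¹ * u * g * (g⁻¹ * x * g) := by group

theorem pull_mem_normalizer (h : DoubleCover.Setup A z) {g u x : G} (hg : g * z * g⁻¹ = u)
    (hc : x * u = u * x) : g⁻¹ * x * g ∈ normalizer (A : Set G) :=
  (mem_normalizer_iff_commute h).2 (pull_commute hg hc)

/-- The partner of `u` under a conjugating element is fused. -/
theorem fused_partner (h : DoubleCover.Setup A z) {g : G} (hu : Fused A z (g * z * g⁻¹)) :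
    Fused A z (g⁻¹ * z * g) := by
  refine ⟨isConj_iff.2 ⟨g⁻¹, by group⟩, fun e => hu.2.1 ?_,
    pull_mem_normalizer h rfl ((mem_normalizer_iff_commute h).1 hu.2.2).symm⟩
  calc g * z * g⁻¹ = g * (g⁻¹ * z * g) * g⁻¹ := by rw [e]
    _ = z := by group

/-- An element conjugate to `z` commuting with `u = g z g⁻¹`, other than `u`, is mapped to a fused
element. -/
theorem fused_pull (h : DoubleCover.Setup A z) {g u w : G} (hg : g * z * g⁻¹ = u) (hw : IsConj z w)
    (hne : w ≠ u) (hc : w * u = u * w) : Fused A z (g⁻¹ * w * g) :=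
  ⟨hw.trans (isConj_iff.2 ⟨g⁻¹, by group⟩), fun e => hne (by
    rw [← hg]
    calc w = g * (g⁻¹ * w * g) * g⁻¹ := by group
      _ = g * z * g⁻¹ := by rw [e]), pull_mem_normalizer h hg hc⟩

theorem perfectInv_map {H : Type*} [Group H] {K : Type*} [Group K] (f : H →* K) {P : Subgroup H}
    (hP : PerfectInv P) : PerfectInv (P.map f) := by
  refine ⟨by rw [← map_commutator, hP.1], le_antisymm ((closure_le _).2 fun x hx => hx.1) ?_⟩
  conv_lhs => rw [← hP.2, MonoidHom.map_closure]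
  refine closure_mono ?_
  rintro _ ⟨x, ⟨hx, hx2⟩, rfl⟩
  exact ⟨mem_map_of_mem f hx, by rw [← map_mul, hx2, map_one]⟩

theorem perfectInv_of_map {H : Type*} [Group H] {K : Type*} [Group K] (f : H →* K)
    (hf : Function.Injective f) {P : Subgroup H} (hP : PerfectInv (P.map f)) : PerfectInv P := by
  refine ⟨map_injective hf (by rw [map_commutator, hP.1]), map_injective hf ?_⟩
  rw [MonoidHom.map_closure]
  refine le_antisymm ((closure_le _).2 ?_) ?_
  · rintro _ ⟨x, hx, rfl⟩; exact mem_map_of_mem f hx.1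
  · conv_lhs => rw [← hP.2]
    refine closure_mono ?_
    rintro _ ⟨⟨x, hx, rfl⟩, hx2⟩
    exact ⟨x, ⟨hx, hf (by rw [map_mul, hx2, map_one])⟩, rfl⟩

namespace Mdl

variable (m : Mdl A z)

/-- The subgroup of `A` with a given group of matrices. -/
def pull (P : Subgroup GL8) : Subgroup G := (P.comap m.φ).map A.subtype

/-- The matrices of a subgroup of `A`. -/
def push (Q : Subgroup G) : Subgroup GL8 := (Q.subgroupOf A).map m.φ

theorem pull_le (P : Subgroup GL8) : m.pull P ≤ A := map_subtype_le _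

theorem el_mem_pull {P : Subgroup GL8} (hP : P ≤ W1) {X : GL8} (hX : X ∈ P) : m.el X ∈ m.pull P := by
  obtain ⟨a, rfl, ha⟩ := m.exists_el (hP hX)
  exact mem_map.2 ⟨a, hX, ha.symm⟩

theorem pull_perfect {P : Subgroup GL8} (hP : P ≤ W1) (hp : PerfectInv P) : PerfectInv (m.pull P) := by
  refine perfectInv_map A.subtype (perfectInv_of_map m.φ m.inj ?_)
  rwa [map_comap_eq_self (m.range_eq.symm ▸ hP)]

theorem commute_pull {P : Subgroup GL8} {g : G} {M : GL8} (hg : g ∈ normalizer (A : Set G))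
    (h : m.Ind g M) (hc : ∀ X ∈ P, X * M = M * X) : ∀ x ∈ m.pull P, x * g = g * x := by
  intro x hx
  obtain ⟨a, ha, rfl⟩ := mem_map.1 hx
  have := m.commute_el hg h (m.φ_mem a) (hc _ ha)
  rw [m.el_coe] at this
  exact this.symm

theorem push_le (Q : Subgroup G) : m.push Q ≤ W1 := by
  rintro _ ⟨a, -, rfl⟩
  exact m.φ_mem a

theorem mem_push {Q : Subgroup G} {a : ↥A} (ha : (a : G) ∈ Q) : m.φ a ∈ m.push Q :=
  mem_map_of_mem _ ha

theorem push_perfect {Q : Subgroup G} (hQ : Q ≤ A) (hq : PerfectInv Q) : PerfectInv (m.push Q) :=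
  perfectInv_map _ (perfectInv_of_map A.subtype A.subtype_injective (by
    rwa [subgroupOf_map_subtype, inf_eq_left.2 hQ]))

theorem push_commute {Q : Subgroup G} {g : G} {M : GL8} (h : m.Ind g M)
    (hc : ∀ x ∈ Q, x * g = g * x) : ∀ X ∈ m.push Q, X * M = M * X := by
  rintro _ ⟨a, ha, rfl⟩
  exact m.φ_commute h (hc _ ha).symm

theorem push_ne_bot {Q : Subgroup G} (hQ : Q ≤ A) (hne : Q ≠ ⊥) : m.push Q ≠ ⊥ := fun e =>
  hne (by
    rw [eq_bot_iff]
    intro x hx
    have h1 : m.φ ⟨x, hQ hx⟩ = 1 := mem_bot.1 (e ▸ m.mem_push (a := ⟨x, hQ hx⟩) hx)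
    exact mem_bot.2 (congrArg Subtype.val (m.inj (h1.trans (map_one m.φ).symm))))

theorem pull_ne_bot {P : Subgroup GL8} (hP : P ≤ W1) (hne : P ≠ ⊥) : m.pull P ≠ ⊥ := fun e =>
  hne (by
    rw [eq_bot_iff]
    intro X hX
    have h1 := m.el_mem_pull hP hX
    rw [e, mem_bot, ← m.el_one] at h1
    exact mem_bot.2 (m.el_inj (hP hX) (one_mem _) h1))

end Mdl

/-- Conjugation `x ↦ g⁻¹ x g` of a subgroup. -/
def tau (g : G) (P : Subgroup G) : Subgroup G := P.map (MulAut.conj g⁻¹).toMonoidHom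

theorem mem_tau {g : G} {P : Subgroup G} {x : G} (hx : x ∈ P) : g⁻¹ * x * g ∈ tau g P :=
  mem_map.2 ⟨x, hx, by simp [MulAut.conj_apply]⟩

theorem of_mem_tau {g : G} {P : Subgroup G} {y : G} (hy : y ∈ tau g P) :
    ∃ x ∈ P, y = g⁻¹ * x * g := by
  obtain ⟨x, hx, rfl⟩ := mem_map.1 hy
  exact ⟨x, hx, by simp [MulAut.conj_apply]⟩

theorem tau_commute {g w : G} {P : Subgroup G} (hc : ∀ x ∈ P, x * w = w * x) :
    ∀ y ∈ tau g P, y * (g⁻¹ * w * g) = g⁻¹ * w * g * y := by
  intro y hy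
  obtain ⟨x, hx, rfl⟩ := of_mem_tau hy
  calc g⁻¹ * x * g * (g⁻¹ * w * g) = g⁻¹ * (x * w) * g := by group
    _ = g⁻¹ * (w * x) * g := by rw [hc x hx]
    _ = g⁻¹ * w * g * (g⁻¹ * x * g) := by group

/-- A perfect group generated by involutions centralizing `u = g z g⁻¹` is mapped into `A`. -/
theorem tau_le [Finite G] (m : Mdl A z) {g u : G} (hg : g * z * g⁻¹ = u) {P : Subgroup G}
    (hP : PerfectInv P) (hc : ∀ x ∈ P, x * u = u * x) : tau g P ≤ A := by
  refine perfectInv_le m.setup m.hder ?_ (perfectInv_map _ hP)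
  intro y hy
  obtain ⟨x, hx, rfl⟩ := of_mem_tau hy
  exact pull_mem_normalizer m.setup hg (hc x hx)

theorem tau_ne_bot {g : G} {P : Subgroup G} (hne : P ≠ ⊥) : tau g P ≠ ⊥ := fun e =>
  hne ((map_eq_bot_iff_of_injective _ (MulAut.conj g⁻¹).injective).1 e)

end Transport

end CfsgLib.StdForm.OmegaEight
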