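import Mathlib.LinearAlgebra.Matrix.Trace
import Cfsg.Agent.Lib.StdForm.OmegaEight.Frame

/-!
The classes of elements fused to the centre of the double cover: the classes with eigenvalue `-1` of
multiplicity six or two and the elements of order four modulo the centralizer are not fused.
-/

set_option autoImplicit false

open Subgroup
open scoped Matrix commutatorElement

namespace CfsgLib.StdForm.OmegaEight

local notation "Mat8" => Matrix (Fin 8) (Fin 8) (ZMod 3)

/-! ### Small facts on matrices -/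

theorem ee_norm (i : Fin 8) : ee i ⬝ᵥ ee i = 1 := dot_self (ee_mem i)

theorem reflM_ee (i : Fin 8) : reflM (ee i) = ((dg {i} : GL8) : Mat8) := by revert i; decide +kernel

theorem refl_ee (i : Fin 8) : refl (ee i) = dg {i} :=
  Units.ext (by rw [refl_val (ee_norm i), reflM_ee])

theorem dg_empty : dg ∅ = 1 :=
  Units.ext (by simp [dg])

theorem dg_insert {i : Fin 8} {S : Finset (Fin 8)} (hi : i ∉ S) : dg (insert i S) = dg {i} * dg S := by
  refine Units.ext ?_
  simp only [dg, Units.val_mul, Matrix.diagonal_mul_diagonal]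
  congr 1
  funext j
  by_cases hj : j = i
  · subst hj; simp [hi]
  · simp [hj]

theorem dg_mem (S : Finset (Fin 8)) : dg S ∈ W := by
  induction S using Finset.induction_on with
  | empty => rw [dg_empty]; exact one_mem _
  | @insert i S hi ih => rw [dg_insert hi, ← refl_ee]; exact mul_mem (refl_mem (ee_mem i)) ih

theorem det_dg (S : Finset (Fin 8)) : ((dg S : GL8) : Mat8).det = (-1) ^ S.card := by
  induction S using Finset.induction_on with
  | empty => simp [dg_empty]
  | @insert i S hi ih =>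
    rw [dg_insert hi, Units.val_mul, Matrix.det_mul, ih, ← refl_ee, det_refl (ee_norm i),
      Finset.card_insert_of_notMem hi, pow_succ']

theorem dg_mem_W1 {S : Finset (Fin 8)} (h : Even S.card) : dg S ∈ W1 := by
  rw [mem_W1_iff (dg_mem S), det_dg, h.neg_one_pow]

theorem dg_sq (S : Finset (Fin 8)) : dg S * dg S = 1 := mul_inv_cancel (dg S)

theorem det_neg' (M : GL8) : ((-M : GL8) : Mat8).det = ((M : GL8) : Mat8).det := by
  rw [Units.val_neg, Matrix.det_neg, Fintype.card_fin, Even.neg_one_pow (by decide), one_mul]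

theorem trace_conj (c M : GL8) : ((c * M * c⁻¹ : GL8) : Mat8).trace = ((M : GL8) : Mat8).trace := by
  rw [Units.val_mul, Units.val_mul, Matrix.trace_mul_cycle, ← Units.val_mul c⁻¹ c, inv_mul_cancel,
    Units.val_one, one_mul]

theorem det_conj (c M : GL8) : ((c * M * c⁻¹ : GL8) : Mat8).det = ((M : GL8) : Mat8).det := by
  have e := congrArg Matrix.det (Units.mul_inv c)
  rw [Matrix.det_mul, Matrix.det_one] at e
  rw [Units.val_mul, Units.val_mul, Matrix.det_mul, Matrix.det_mul, mul_right_comm, e, one_mul]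

theorem refl_neg (a : Vec) : refl (-a) = refl a := by
  rw [refl, refl, reflM, reflM, Matrix.neg_vecMulVec, Matrix.vecMulVec_neg, neg_neg]

theorem commute_refl_of_fix {M : GL8} (hM : M ∈ W) {a : Vec} (ha : a ∈ rootSet) (h : Fix M a) :
    M * refl a = refl a * M := by
  have := refl_conj hM ha
  rw [h] at this
  exact mul_inv_eq_iff_eq_mul.1 this

theorem commute_two_of_fix {M : GL8} (hM : M ∈ W) (h0 : Fix M (ee 0)) (h1 : Fix M (ee 1)) :
    M * dg {0, 1} = dg {0, 1} * M := by
  have e0 : M * dg {0} = dg {0} * M := refl_ee 0 ▸ commute_refl_of_fix hM (ee_mem 0) h0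
  have e1 : M * dg {1} = dg {1} * M := refl_ee 1 ▸ commute_refl_of_fix hM (ee_mem 1) h1
  rw [show ({0, 1} : Finset (Fin 8)) = insert 0 {1} from rfl, dg_insert (by decide)]
  rw [← mul_assoc, e0, mul_assoc, e1, mul_assoc]

/-- The factors of `rotJ`. -/
def wJ : List (List ℕ) := [[1, 2, 0, 0, 0, 0, 1, 1], [1, 2, 0, 0, 0, 0, 2, 2],
    [0, 1, 0, 0, 0, 0, 0, 0], [0, 0, 1, 2, 0, 0, 1, 1],
    [0, 0, 1, 2, 0, 0, 2, 2], [0, 0, 0, 1, 0, 0, 0, 0],
    [0, 0, 0, 0, 1, 2, 1, 1], [0, 0, 0, 0, 1, 2, 2, 2],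
    [0, 0, 0, 0, 0, 1, 0, 0], [0, 0, 0, 0, 0, 0, 1, 0]]

theorem rotJ_eq : rotJ = prodRefl wJ := by rw [rotJ, wJ]

theorem wJ_roots : ∀ a ∈ wJ, a ∈ rootL := by decide +kernel

theorem wJ_sq : CfsgLib.Schur.D4Two.mulL (prodL wJ) (prodL wJ) =
    CfsgLib.Schur.D4Two.negL CfsgLib.Schur.D4Two.oneL := by decide +kernel

theorem rotJ_facts : rotJ ∈ W1 ∧ rotJ * rotJ = -1 := by
  rw [rotJ_eq]
  refine ⟨prodRefl_mem_W1 wJ_roots ⟨5, rfl⟩, Units.ext ?_⟩
  rw [Units.val_mul, ← toMat_prodL _ wJ_roots, ← CfsgLib.Schur.D4Two.toMat_mulL, wJ_sq,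
    CfsgLib.Schur.D4Two.toMat_negL, CfsgLib.Schur.D4Two.toMat_oneL, Units.val_neg, Units.val_one]

theorem one_ne_neg_one : (1 : GL8) ≠ -1 := fun h =>
  CfsgLib.Schur.D4Two.neg_one_ne_one h.symm

theorem mem_reps {X : GL8} (h : X ∈ reps) : X = dg {0} ∨ X = dg {0, 1} ∨ X = dg {0, 1, 2} ∨
    X = dg {0, 1, 2, 3} ∨ X = dg {0, 1, 2, 4} ∨ X = rotJ := by
  simpa [reps] using h

theorem reps_mem_W {X : GL8} (h : X ∈ reps) : X ∈ W := by
  rcases mem_reps h with rfl | rfl | rfl | rfl | rfl | rfl
  iterate 5 exact dg_mem _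
  exact W1_le_W rotJ_facts.1

/-- A perfect group centralizing a representative other than `rotJ` fixes the first coordinate
vector. -/
theorem fix_zero {P : Subgroup GL8} (hP : P ≤ W) (hperf : ⁅P, P⁆ = P) {X : GL8} (hX : X ∈ reps)
    (hJ : X ≠ rotJ) (hc : ∀ M ∈ P, M * X = X * M) : ∀ M ∈ P, Fix M (ee 0) := by
  intro M hM
  have bot : ∀ h : P = ⊥, Fix M (ee 0) := fun h => by
    rw [h, Subgroup.mem_bot] at hM
    subst hM
    simp only [Fix, Units.val_one, Matrix.one_mulVec]
  rcases mem_reps hX with rfl | rfl | rfl | rfl | rfl | rfl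
  · exact fix_one hP hperf hc M hM
  · exact (fix_two hP hperf hc M hM).1
  · exact bot (fix_bot hP hperf (by simp) hc)
  · exact bot (fix_bot hP hperf (by simp) hc)
  · exact bot (fix_bot hP hperf (by simp) hc)
  · exact absurd rfl hJ

theorem not_fix_neg_one : ¬ Fix (-1) (ee 0) := by
  intro h
  simp only [Fix, Units.val_neg, Units.val_one, Matrix.neg_mulVec, Matrix.one_mulVec] at h
  have := congrFun h 0
  simp at this
  exact absurd this (by decide)

theorem trace_facts : ((dg {0, 1} : GL8) : Mat8).trace = 1 ∧ ((dg {0, 1, 2} : GL8) : Mat8).trace = 2 ∧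
    ((dg {0} : GL8) : Mat8).trace = 0 ∧ ((dg {0, 1, 2, 3} : GL8) : Mat8).trace = 0 ∧
    ((dg {0, 1, 2, 4} : GL8) : Mat8).trace = 0 := by
  decide +kernel

/-! ### Classes of fused elements -/

universe u

variable {G : Type u} [Group G] [Finite G] {A : Subgroup G} {z : G}

namespace Mdl

variable (m : Mdl A z)

theorem sq_of_ind {g : G} {M : GL8} (hg : g ∈ normalizer (A : Set G)) (hgg : ∀ a ∈ A, g * g * a = a * (g * g))
    (hM : M ∈ W) (h : m.Ind g M) : M * M = 1 ∨ M * M = -1 := by
  refine eq_one_or_neg (mul_mem hM hM) fun X hX => ?_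
  obtain ⟨a, rfl⟩ := m.mem_range hX
  exact (m.φ_commute (m.ind_mul hg h h) (hgg a a.2)).symm

theorem eq_of_ind_one {g : G} (h : m.Ind g 1 ∨ m.Ind g (-1)) : g ∈ centralizer (A : Set G) ∨
    g ∉ normalizer (A : Set G) := by
  by_cases hg : g ∈ normalizer (A : Set G)
  swap
  · exact Or.inr hg
  refine Or.inl (mem_centralizer_iff.2 fun x hx => ?_)
  obtain ⟨a, rfl⟩ : ∃ a : ↥A, (a : G) = x := ⟨⟨x, hx⟩, rfl⟩
  let b : ↥A := ⟨g * a * g⁻¹, (mem_normalizer_iff.1 hg a).1 a.2⟩
  have e : m.φ b = m.φ a := by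
    rcases h with h | h <;> rw [h a b rfl] <;> simp
  have e' : g * (a : G) * g⁻¹ = a := congrArg Subtype.val (m.inj e)
  exact (mul_inv_eq_iff_eq_mul.1 e').symm

/-- A fused element acts, in suitable coordinates, as one of the representatives. -/
theorem cases {u : G} (hu : Fused A z u) :
    ∃ c, ∃ hc : c ∈ W, ∃ X ∈ reps, (m.conj c hc).Ind u X := by
  obtain ⟨M, hM, hI⟩ := m.lift u hu.2.2
  have hgg : ∀ a ∈ A, u * u * a = a * (u * u) := fun a _ => by rw [hu.sq m.setup, one_mul, mul_one]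
  have hnc : ∀ e : m.Ind u 1 ∨ m.Ind u (-1), False := fun e =>
    (m.eq_of_ind_one e).elim (hu.notMem_centralizer m.setup) fun h => h hu.2.2
  rcases classify m.card_W1 hM (m.sq_of_ind hu.2.2 hgg hM hI) with rfl | rfl | ⟨c, hc, X, hX, e⟩
  · exact (hnc (Or.inl hI)).elim
  · exact (hnc (Or.inr hI)).elim
  · refine ⟨c, hc, X, hX, ?_⟩
    have hI' := (m.conj_ind hc).2 hI
    rcases e with e | e
    · rwa [e] at hI'
    · rw [e] at hI'
      simpa using (m.conj c hc).ind_neg hI'

theorem eq_of_ind {a : ↥A} {X : GL8} (hX : X ∈ W) (h : m.Ind (a : G) X) : m.φ a = X ∨ m.φ a = -X := by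
  have hI : m.Ind (a : G) (m.φ a) := by
    have := m.ind_el (m.φ_mem a)
    rwa [m.el_coe] at this
  exact m.ind_unique hX (W1_le_W (m.φ_mem a)) (le_normalizer a.2) h hI

/-- A fused element of `A` has, in suitable coordinates, the matrix of a diagonal representative
up to sign. -/
theorem cases_mem {w : G} (hw : Fused A z w) (hA : w ∈ A) :
    ∃ c, ∃ hc : c ∈ W, ∃ X ∈ [dg {0, 1}, dg {0, 1, 2, 3}, dg {0, 1, 2, 4}],
      w = (m.conj c hc).el X ∨ w = (m.conj c hc).el (-X) := by
  obtain ⟨c, hc, X, hX, hI⟩ := m.cases hw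
  set m' := m.conj c hc
  obtain ⟨a, rfl⟩ : ∃ a : ↥A, (a : G) = w := ⟨⟨w, hA⟩, rfl⟩
  have he := m'.eq_of_ind (reps_mem_W hX) hI
  have hdet : ((X : GL8) : Mat8).det = 1 := by
    have := det_W1 (m'.φ_mem a)
    rcases he with e | e <;> rw [e] at this
    · exact this
    · rwa [det_neg'] at this
  have hsq : X * X = 1 := by
    have : m'.φ a * m'.φ a = 1 := by
      rw [← map_mul, ← map_one m'.φ]
      exact congrArg m'.φ (Subtype.ext (hw.sq m.setup))
    rcases he with e | e <;> rw [e] at this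
    · exact this
    · rwa [neg_mul_neg] at this
  refine ⟨c, hc, X, ?_, ?_⟩
  · rcases mem_reps hX with rfl | rfl | rfl | rfl | rfl | rfl
    · rw [det_dg] at hdet; exact absurd hdet (by decide)
    · simp
    · rw [det_dg] at hdet; exact absurd hdet (by decide)
    · simp
    · simp
    · exact absurd (hsq.symm.trans rotJ_facts.2) one_ne_neg_one
  · rw [← m'.el_coe a]
    rcases he with e | e <;> rw [e]
    · exact Or.inl rfl
    · exact Or.inr rfl

end Mdl

theorem two_mem_W1 : dg {0, 1} ∈ W1 := dg_mem_W1 (by decide)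

theorem negTwo_commute {X : GL8} (h : X * dg {0, 1} = dg {0, 1} * X) :
    X * (-dg {0, 1}) = -dg {0, 1} * X := by
  rw [mul_neg, neg_mul, h]

/-- The class with a six-dimensional `-1` space is not fused. -/
theorem no_six (m : Mdl A z) {u : G} (hu : Fused A z u) (e : u = m.el (-dg {0, 1})) : False := by
  obtain ⟨P, hPW, hPp, hfix, huP, d1, d2, d3, d4, d5, -⟩ := six
  obtain ⟨g, hg⟩ := isConj_iff.1 hu.1
  have hv := fused_partner m.setup (g := g) (hg.symm ▸ hu)
  have hk : ∀ X ∈ P, X * (-dg {0, 1}) = -dg {0, 1} * X := fun X hX =>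
    negTwo_commute (commute_two_of_fix (W1_le_W (hPW hX)) (hfix X hX).1 (hfix X hX).2)
  set Q := m.pull P with hQ
  have hIu : m.Ind u (-dg {0, 1}) := by rw [e]; exact m.ind_el (m.neg_mem two_mem_W1)
  have hQu : ∀ x ∈ Q, x * u = u * x := m.commute_pull hu.2.2 hIu hk
  have hQp : PerfectInv Q := m.pull_perfect hPW hPp
  have hQA : tau g Q ≤ A := tau_le m hg hQp hQu
  have hQz : ∀ x ∈ Q, x * z = z * x := fun x hx =>
    (mem_normalizer_iff_commute m.setup).1 (le_normalizer (m.pull_le _ hx))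
  have hv' := tau_commute (g := g) hQz
  have hzQ : z ∈ tau g Q := by
    have h1 := mem_tau (g := g) (m.el_mem_pull hPW huP)
    rwa [← e, show g⁻¹ * u * g = z by rw [← hg]; group] at h1
  obtain ⟨c, hc, X, hX, hI⟩ := m.cases hv
  set m' := m.conj c hc with hm'
  by_cases hJ : X = rotJ
  · subst hJ
    obtain ⟨a, ha, hael⟩ := m'.exists_el rotJ_facts.1
    set v := g⁻¹ * z * g
    set k := (a : G)⁻¹ * v with hk'
    have hkC : k ∈ centralizer (A : Set G) := by
      have h1 := m'.ind_mul hv.2.2 (m'.ind_inv (le_normalizer a.2) (hael ▸ m'.ind_el rotJ_facts.1)) hI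
      rw [inv_mul_cancel] at h1
      exact (m'.eq_of_ind_one (Or.inl h1)).resolve_right fun h =>
        h (mul_mem (inv_mem (le_normalizer a.2)) hv.2.2)
    have hak : Commute (a : G) k := mem_centralizer_iff.1 hkC a a.2
    have hvak : v = (a : G) * k := by rw [hk']; group
    have haz : (a : G) * a = z := by
      rw [← hael, ← m'.el_mul rotJ_facts.1 rotJ_facts.1, rotJ_facts.2, m'.el_neg_one]
    have hkk : k * k = z := by
      have h1 := hv.sq m.setup
      rw [hvak, hak.symm.mul_mul_mul_comm, haz] at h1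
      rw [eq_inv_of_mul_eq_one_right h1, inv_eq_of_mul_eq_one_right m.setup.sq_eq]
    have hkv : k * v = v * k := by
      rw [hvak, ← mul_assoc, ← hak.eq, mul_assoc]
    -- the conjugate of `k` centralizes the six-dimensional group
    set e' := g * k * g⁻¹ with he'
    have he'N : e' ∈ normalizer (A : Set G) := by
      refine (mem_normalizer_iff_commute m.setup).2 ?_
      calc g * k * g⁻¹ * z = g * (k * v) * g⁻¹ := by simp only [v]; group
        _ = g * (v * k) * g⁻¹ := by rw [hkv]
        _ = z * (g * k * g⁻¹) := by simp only [v]; group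
    obtain ⟨M, hM, hMI⟩ := m.lift e' he'N
    have hcom : ∀ x ∈ Q, x * e' = e' * x := by
      intro x hx
      have h1 : k * (g⁻¹ * x * g) = g⁻¹ * x * g * k :=
        (mem_centralizer_iff.1 hkC _ (hQA (mem_tau hx))).symm
      calc x * (g * k * g⁻¹) = g * (g⁻¹ * x * g * k) * g⁻¹ := by group
        _ = g * (k * (g⁻¹ * x * g)) * g⁻¹ := by rw [h1]
        _ = g * k * g⁻¹ * x := by group
    have hM2 : M * M = 1 := by
      refine sq_of_commute_six hM fun S hS => ?_
      have hSP : dg S ∈ P := by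
        simp only [List.mem_cons, List.not_mem_nil, or_false] at hS
        rcases hS with rfl | rfl | rfl | rfl | rfl <;> assumption
      obtain ⟨b, hb, hbel⟩ := m.exists_el (hPW hSP)
      rw [← hb]
      exact (m.φ_commute hMI (hcom _ (hbel ▸ m.el_mem_pull hPW hSP)).symm).symm
    have huu : e' * e' = u := by
      rw [he', ← hg, ← hkk]; group
    have h1 := m.ind_mul he'N hMI hMI
    rw [hM2, huu] at h1
    exact (m.eq_of_ind_one (Or.inl h1)).elim (hu.notMem_centralizer m.setup) fun h => h hu.2.2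
  · have hp := m'.push_perfect hQA (perfectInv_map _ hQp)
    have hf := fix_zero (fun x hx => W1_le_W (m'.push_le _ hx)) hp.1 hX hJ (m'.push_commute hI hv')
    refine not_fix_neg_one (hf _ ?_)
    rw [← m'.neg_one_mem_W1.2]
    exact m'.mem_push (a := ⟨z, m'.setup.hzA⟩) hzQ

theorem negTwo_fix : Fix (dg {0, 1}) (ee 0) → False := by
  unfold Fix
  decide +kernel

/-- The elements of order four modulo the centralizer are not fused. -/
theorem no_rot (m : Mdl A z) {u : G} (hu : Fused A z u) (hI : m.Ind u rotJ) : False := by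
  obtain ⟨P, hPW, hPp, hneg, hPc⟩ := jay
  obtain ⟨g, hg⟩ := isConj_iff.1 hu.1
  have hv := fused_partner m.setup (g := g) (hg.symm ▸ hu)
  have hQu : ∀ x ∈ m.pull P, x * u = u * x := m.commute_pull hu.2.2 hI hPc
  have hQp : PerfectInv (m.pull P) := m.pull_perfect hPW hPp
  have hQA : tau g (m.pull P) ≤ A := tau_le m hg hQp hQu
  have hvQ : g⁻¹ * z * g ∈ tau g (m.pull P) := mem_tau (by
    have h := m.el_mem_pull hPW hneg
    rwa [m.el_neg_one] at h)
  have hv' := tau_commute (g := g) (fun x hx =>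
    (mem_normalizer_iff_commute m.setup).1 (le_normalizer (m.pull_le P hx)))
  obtain ⟨c, hc, X, hX, hX'⟩ := m.cases_mem hv (hQA hvQ)
  set m' := m.conj c hc
  have hXW : X ∈ W1 := by
    simp only [List.mem_cons, List.not_mem_nil, or_false] at hX
    rcases hX with rfl | rfl | rfl <;> exact dg_mem_W1 (by decide)
  rcases hX' with e | e
  · obtain ⟨a, ha, hael⟩ := m'.exists_el hXW
    have hI' : m'.Ind (g⁻¹ * z * g) X := by rw [e]; exact m'.ind_el hXW
    have hp := m'.push_perfect hQA (perfectInv_map _ hQp)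
    have hle : m'.push (tau g (m.pull P)) ≤ W := fun x hx => W1_le_W (m'.push_le _ hx)
    have hmem : X ∈ m'.push (tau g (m.pull P)) := by
      rw [← ha]
      exact m'.mem_push (a := a) (by rw [← hael, ← e]; exact hvQ)
    simp only [List.mem_cons, List.not_mem_nil, or_false] at hX
    rcases hX with rfl | rfl | rfl
    · exact negTwo_fix ((fix_two hle hp.1 (m'.push_commute hI' hv')) _ hmem).1
    all_goals
      have hb := fix_bot hle hp.1 (by simp) (m'.push_commute hI' hv')
      rw [hb, mem_bot] at hmem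
      rw [hmem, m'.el_one] at e
      exact hv.ne_one m.setup e
  · have hI' : m'.Ind (g⁻¹ * z * g) X := by
      have h0 : m'.Ind (g⁻¹ * z * g) (-X) := by rw [e]; exact m'.ind_el (m'.neg_mem hXW)
      have h1 := m'.ind_neg h0
      rwa [neg_neg] at h1
    simp only [List.mem_cons, List.not_mem_nil, or_false] at hX
    rcases hX with rfl | rfl | rfl
    · exact no_six m' hv e
    all_goals
      have hp := m'.push_perfect hQA (perfectInv_map _ hQp)
      have hb := fix_bot (fun x hx => W1_le_W (m'.push_le _ hx)) hp.1 (by simp) (m'.push_commute hI' hv')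
      exact m'.push_ne_bot hQA (fun hbot => hv.ne_one m.setup (mem_bot.1 (hbot ▸ hvQ))) hb

end CfsgLib.StdForm.OmegaEight
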