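import Cfsg.Agent.Lib.StdForm.OmegaEight.Nine

/-!
A standard double cover of `POmega8+(2)` whose centralizer has cyclic Sylow 2-subgroups is normal
when the core of the group is trivial.
-/

set_option autoImplicit false

open Subgroup
open scoped Matrix

namespace CfsgLib.StdForm.OmegaEight

universe u

variable {G : Type u} [Group G] [Finite G] {A : Subgroup G} {z : G}

/-- No element of the normalizer other than `z` is conjugate to `z`. -/
theorem isolated (m : Mdl A z) {u : G} (hu : Fused A z u) : False := by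
  have hrefl : ∀ (n : Mdl A z) (w : G), Fused A z w → n.Ind w (dg {0}) → False :=
    fun n w hw hI => no_refl n hw hI
  have hout : ∀ (n : Mdl A z) (w : G), Fused A z w →
      (n.Ind w (dg {0}) ∨ n.Ind w (dg {0, 1, 2})) → False := fun n w hw h =>
    h.elim (hrefl n w hw) fun h => no_tri hrefl n hw h
  obtain ⟨c, hc, X, hX, hI⟩ := m.cases hu
  set n := m.conj c hc
  rcases mem_reps hX with rfl | rfl | rfl | rfl | rfl | rfl
  · exact hout n u hu (Or.inl hI)
  rotate_left
  · exact hout n u hu (Or.inr hI)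
  rotate_left
  rotate_left
  · exact no_rot n hu hI
  all_goals
    obtain ⟨a, rfl⟩ : ∃ a : ↥A, (a : G) = u :=
      ⟨⟨u, inner_mem n hu (dg_mem_W1 (by decide)) (dg_sq _) hI⟩, rfl⟩
    rcases n.eq_of_ind (dg_mem _) hI with h | h
  · exact no_two n hu (by rw [← h, n.el_coe])
  · exact no_six n hu (by rw [← h, n.el_coe])
  · exact no_four hout n hu List.mem_cons_self (by rw [← h, n.el_coe])
  · obtain ⟨k, hk, hk'⟩ := negDp_conj
    refine no_four hout n (hu.conj n.setup (n.el_mem_normalizer k)) List.mem_cons_self ?_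
    rw [← hk', n.el_conj hk (n.neg_mem (dg_mem_W1 (by decide))), ← h, n.el_coe]
  · exact no_four hout n hu (List.mem_cons_of_mem _ List.mem_cons_self) (by rw [← h, n.el_coe])
  · obtain ⟨k, hk, hk'⟩ := negDn_conj
    refine no_four hout n (hu.conj n.setup (n.el_mem_normalizer k))
      (List.mem_cons_of_mem _ List.mem_cons_self) ?_
    rw [← hk', n.el_conj hk (n.neg_mem (dg_mem_W1 (by decide))), ← h, n.el_coe]

/-- The double cover is normal. -/
theorem normal_of_standard (hO : Cfsg.oddCore G = ⊥) (hA : Cfsg.IsStandardSubgroup A)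
    {F : Type*} [Field F] [Fintype F] (hF : Fintype.card F = 2)
    (hZ : Nat.card ↥(center ↥A) = 2)
    (e : Nonempty ((↥A ⧸ center ↥A) ≃* Cfsg.POmega F (Cfsg.quadFormPlus 4 F)))
    (hR : ∀ R : Sylow 2 ↥(centralizer (A : Set G)),
      IsCyclic ↥(R : Subgroup ↥(centralizer (A : Set G)))) : A.Normal := by
  obtain ⟨z, h⟩ := DoubleCover.exists_setup hA hZ hR
  have hperf : commutator ↥A = ⊤ := hA.1.1.commutator_eq_top
  obtain ⟨φ, hi, hr, hσ⟩ := exists_model_frame hF hperf hZ e
  have hlift : ∀ g ∈ normalizer (A : Set G), ∃ M ∈ W, ∀ a b : ↥A, (b : G) = g * a * g⁻¹ →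
      φ b = M * φ a * M⁻¹ := by
    intro g hg
    obtain ⟨M, hM, hMe⟩ := hσ (normalizerMonoidHom A ⟨g, hg⟩)
    refine ⟨M, hM, fun a b hb => ?_⟩
    rw [← hMe]
    exact congrArg φ (Subtype.ext hb)
  let m : Mdl A z := ⟨h, φ, hi, hr, hlift, card_W1 hF hperf hZ e, der_le φ hi hr hσ⟩
  refine h.normal_of_isolated hO fun g hg => ?_
  by_contra hne
  exact isolated m ⟨isConj_iff.2 ⟨g, rfl⟩, hne, hg⟩

end CfsgLib.StdForm.OmegaEight
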