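import Cfsg.Agent.Lib.StdForm.OmegaEight.Pres

/-!
The double covers of `POmega8+(2)` are isomorphic to the group generated by the matrices of
`Schur.D4Two` modulo 3.
-/

set_option autoImplicit false
set_option linter.unusedSectionVars false
set_option maxHeartbeats 400000

namespace CfsgLib.StdForm.OmegaEight.MatModel

open Subgroup CfsgLib.Schur.D4Two
open scoped commutatorElement

universe u v

/-- The units of the matrices. -/
abbrev Um : Type := (Matrix (Fin 8) (Fin 8) (ZMod 3))ˣ

/-- The matrix group. -/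
def matGroup : Subgroup Um := Subgroup.closure (Set.range matU)

/-- The signs. -/
def signs : Subgroup Um := Subgroup.zpowers (-1)

theorem neg_one_sq : (-1 : Um) * -1 = 1 := by rw [neg_mul_neg, one_mul]

theorem mem_signs {a : Um} (h : a = 1 ∨ a = -1) : a ∈ signs := by
  rcases h with rfl | rfl
  · exact one_mem _
  · exact Subgroup.mem_zpowers _

theorem signs_commute {a : Um} (h : a ∈ signs) (g : Um) : Commute a g := by
  obtain ⟨i, rfl⟩ := Subgroup.mem_zpowers_iff.1 h
  exact (Commute.neg_one_left g).zpow_left i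

theorem tau_values : tau 14 = 14 ∧ tau 21 = 17 ∧ tau 17 = 20 ∧ tau 20 = 21 := by decide

theorem base_signs :
    ⁅matU 14, matU 21⁆ = -1 ∧ ⁅matU 14, matU 17⁆ = 1 ∧ ⁅matU 14, matU 20⁆ = -1 := by
  obtain ⟨h1, -, h3, h4⟩ := base_comm
  rw [tau_values.1, tau_values.2.2.1] at h4
  exact ⟨h1, h3, h4⟩

theorem tau_bijective : Function.Bijective tau :=
  Finite.injective_iff_bijective.1 (by decide)

theorem range_tau : Set.range (fun r => matU (tau r)) = Set.range matU :=
  tau_bijective.2.range_comp matU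

theorem range_tau_tau : Set.range (fun r => matU (tau (tau r))) = Set.range matU :=
  (tau_bijective.comp tau_bijective).2.range_comp matU

theorem neg_one_mem_commutator : (-1 : Um) ∈ ⁅matGroup, matGroup⁆ := by
  rw [← base_signs.1]
  exact commutator_mem_commutator (subset_closure ⟨_, rfl⟩) (subset_closure ⟨_, rfl⟩)

theorem neg_one_mem : (-1 : Um) ∈ matGroup := by
  rw [← base_signs.1, commutatorElement_def]
  exact mul_mem (mul_mem (mul_mem (subset_closure ⟨_, rfl⟩) (subset_closure ⟨_, rfl⟩))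
    (inv_mem (subset_closure ⟨_, rfl⟩))) (inv_mem (subset_closure ⟨_, rfl⟩))

theorem commutator_matGroup : ⁅matGroup, matGroup⁆ = matGroup := by
  refine le_antisymm ?_ ?_
  · rw [commutator_le]
    intro a ha b hb
    rw [commutatorElement_def]
    exact mul_mem (mul_mem (mul_mem ha hb) (inv_mem ha)) (inv_mem hb)
  · refine (closure_le _).2 ?_
    rintro _ ⟨v, rfl⟩
    have hv := cert_ok.dec v
    have hs := (sum_sign hv).1
    have hc : ∀ r s, ⁅matU r, matU s⁆ ∈ ⁅matGroup, matGroup⁆ := fun r s =>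
      commutator_mem_commutator (subset_closure ⟨_, rfl⟩) (subset_closure ⟨_, rfl⟩)
    rcases hs with hs | hs
    · rw [mul_inv_eq_one] at hs
      rw [← hs]; exact hc _ _
    · have h' := mul_inv_eq_iff_eq_mul.1 hs
      rw [show matU v = -1 * (-1 * matU v) by rw [← mul_assoc, neg_one_sq, one_mul], ← h']
      exact mul_mem neg_one_mem_commutator (hc _ _)

variable {P : Type u} [Group P] [Finite P] [IsSimpleGroup P] {x : Fin 24 → P}
variable {A : Type u} [Group A] [Finite A]

/-- The lifts. -/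
def lift3 (r : Fin 24) : Um × Um × Um := (matU r, matU (tau r), matU (tau (tau r)))

/-- The model of a double cover, all groups in one universe. -/
theorem exists_hom_aux (hperfP : commutator P = ⊤) (R : Rels tab x) (hP : Presents tab x)
    (hperf : commutator A = ⊤) (q : A →* P) (hq : Function.Surjective q)
    (hcen : q.ker ≤ center A) (hcard : Nat.card q.ker = 2) :
    ∃ φ : A →* Um, Function.Injective φ ∧ φ.range = matGroup := by
  classical
  choose Y hY using fun r => hq (x r)
  let W : Fin 24 → A × (Um × Um × Um) := fun r => (Y r, lift3 r)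
  let D : Subgroup (A × (Um × Um × Um)) := q.ker.prod (signs.prod (signs.prod signs))
  have hD : ∀ d ∈ D, ∀ g, Commute d g := by
    rintro ⟨a, b, c, e⟩ ⟨ha, hb, hc, he⟩ ⟨g, g1, g2, g3⟩
    exact Prod.ext ((mem_center_iff.1 (hcen ha) g).symm) (Prod.ext (signs_commute hb g1).eq
      (Prod.ext (signs_commute hc g2).eq (signs_commute he g3).eq))
  have hWsq : ∀ r, W r * W r ∈ D := fun r => by
    refine ⟨?_, mem_signs (Or.inl (matU_sq _)), mem_signs (Or.inl (matU_sq _)),
      mem_signs (Or.inl (matU_sq _))⟩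
    show q (Y r * Y r) = 1
    rw [map_mul, hY, R.sq]
  have hWcom : ∀ r s, tab.isCom r s = true → ⁅W r, W s⁆ ∈ D := fun r s h => by
    refine ⟨?_, mem_signs (comm_sign h).1, mem_signs (comm_sign h).2,
      mem_signs (comm_sign (tau_isCom r s h)).2⟩
    show q ⁅Y r, Y s⁆ = 1
    rw [map_commutatorElement, hY, hY]
    exact commutatorElement_eq_one_iff_mul_comm.2 (R.comm h)
  have hWsum : ∀ r s v, tab.sum r s = some v → ⁅W r, W s⁆ * (W v)⁻¹ ∈ D := fun r s v h => by
    refine ⟨?_, mem_signs (sum_sign h).1, mem_signs (sum_sign h).2,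
      mem_signs (sum_sign (tau_sum r s v h)).2⟩
    show q (⁅Y r, Y s⁆ * (Y v)⁻¹) = 1
    rw [map_mul, map_inv, map_commutatorElement, hY, hY, hY, R.sum r s v h, mul_inv_cancel]
  -- the group generated by the lifts
  let E : Subgroup (A × (Um × Um × Um)) := Subgroup.closure (Set.range W)
  let N : Subgroup ↥E := D.subgroupOf E
  haveI : N.Normal := ⟨fun n hn g => by
    show (g : A × (Um × Um × Um)) * n * (g : A × (Um × Um × Um))⁻¹ ∈ D
    have hn' : (n : A × (Um × Um × Um)) ∈ D := hn
    rw [← (hD _ hn' _).eq, mul_inv_cancel_right]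
    exact hn'⟩
  let W' : Fin 24 → ↥E := fun r => ⟨W r, subset_closure ⟨r, rfl⟩⟩
  have RW : Rels tab fun r => QuotientGroup.mk' N (W' r) :=
    rels_mk (N := N) (fun r => hWsq r) (fun r s h => hWcom r s h) (fun r s v h => hWsum r s v h)
  obtain ⟨f, hf⟩ := presents_any hP RW
  let g1 : ↥E →* P := (q.comp (MonoidHom.fst A (Um × Um × Um))).comp E.subtype
  have hN : N ≤ g1.ker := fun n hn => hn.1
  let g : ↥E ⧸ N →* P := QuotientGroup.lift N g1 hN
  have hgf : g.comp f = MonoidHom.id P := MonoidHom.eq_of_eqOn_dense hP.1 (by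
    rintro _ ⟨r, rfl⟩
    show g (f (x r)) = x r
    rw [hf r]
    exact hY r)
  have hfs : Function.Surjective f := by
    intro y
    obtain ⟨⟨k, hk⟩, rfl⟩ := QuotientGroup.mk'_surjective N y
    induction hk using closure_induction with
    | mem k hk =>
      obtain ⟨r, rfl⟩ := hk
      exact ⟨x r, hf r⟩
    | one => exact ⟨1, map_one f⟩
    | mul k l hk hl ih ih' =>
      obtain ⟨a, ha⟩ := ih
      obtain ⟨b, hb⟩ := ih'
      exact ⟨a * b, by rw [map_mul, ha, hb]; rfl⟩
    | inv k hk ih =>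
      obtain ⟨a, ha⟩ := ih
      exact ⟨a⁻¹, by rw [map_inv, ha]; rfl⟩
  have hkey : ∀ e ∈ E, q e.1 = 1 → e ∈ D := by
    intro e he h1
    obtain ⟨p, hp⟩ := hfs (QuotientGroup.mk' N ⟨e, he⟩)
    have h2 : g (f p) = p := DFunLike.congr_fun hgf p
    rw [hp] at h2
    have h3 : p = 1 := h2.symm.trans h1
    rw [h3, map_one] at hp
    exact (QuotientGroup.eq_one_iff (N := N) ⟨e, he⟩).1 hp.symm
  -- the perfect part
  let E' : Subgroup (A × (Um × Um × Um)) := ⁅E, E⁆
  have hE'E : E' ≤ E := by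
    rw [commutator_le]
    intro a ha b hb
    rw [commutatorElement_def]
    exact mul_mem (mul_mem (mul_mem ha hb) (inv_mem ha)) (inv_mem hb)
  let σ0 : A × (Um × Um × Um) →* P := q.comp (MonoidHom.fst A (Um × Um × Um))
  have hmapE : E.map σ0 = ⊤ := by
    rw [MonoidHom.map_closure, ← hP.1, ← Set.range_comp]
    exact congrArg Subgroup.closure (congrArg Set.range (funext hY))
  have hmapE' : E'.map σ0 = ⊤ := by
    rw [map_commutator, hmapE, ← _root_.commutator_def, hperfP]
  have hdec : ∀ e ∈ E, ∃ e' ∈ E', ∃ d ∈ D, e = e' * d := fun e he => by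
    obtain ⟨e', he', h⟩ : σ0 e ∈ E'.map σ0 := by rw [hmapE']; exact mem_top _
    refine ⟨e', he', e'⁻¹ * e, hkey _ (mul_mem (inv_mem (hE'E he')) he) ?_, by rw [mul_inv_cancel_left]⟩
    show σ0 (e'⁻¹ * e) = 1
    rw [map_mul, map_inv, h, inv_mul_cancel]
  have hperfE' : E' ≤ ⁅E', E'⁆ := by
    show ⁅E, E⁆ ≤ ⁅E', E'⁆
    rw [commutator_le]
    intro a ha b hb
    obtain ⟨a', ha', d, hd, rfl⟩ := hdec a ha
    obtain ⟨b', hb', d', hd', rfl⟩ := hdec b hb
    have e : ⁅a' * d, b' * d'⁆ = ⁅a', b'⁆ := by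
      calc ⁅a' * d, b' * d'⁆ = a' * (d * b') * (d' * d⁻¹) * a'⁻¹ * d'⁻¹ * b'⁻¹ := by
            simp only [commutatorElement_def]; group
        _ = a' * (b' * d) * (d⁻¹ * d') * a'⁻¹ * d'⁻¹ * b'⁻¹ := by
            rw [(hD d hd b').eq, (hD d' hd' d⁻¹).eq]
        _ = a' * b' * (d' * a'⁻¹) * d'⁻¹ * b'⁻¹ := by group
        _ = ⁅a', b'⁆ := by rw [(hD d' hd' a'⁻¹).eq]; simp only [commutatorElement_def]; group
    rw [e]
    exact commutator_mem_commutator ha' hb'
  let σ : ↥E' →* P := σ0.comp E'.subtype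
  have hσs : Function.Surjective σ := fun p => by
    obtain ⟨e, he, h⟩ : p ∈ E'.map σ0 := by rw [hmapE']; exact mem_top _
    exact ⟨⟨e, he⟩, h⟩
  have hkerD : ∀ e : ↥E', σ e = 1 → (e : A × (Um × Um × Um)) ∈ D := fun e h => hkey _ (hE'E e.2) h
  have hperfT : commutator ↥E' = ⊤ := by
    rw [eq_top_iff]
    intro e _
    have he : (e : A × (Um × Um × Um)) ∈ ⁅E', E'⁆ := hperfE' e.2
    have : (commutator ↥E').map E'.subtype = ⁅E', E'⁆ := by
      rw [_root_.commutator_def, map_commutator, ← MonoidHom.range_eq_map, range_subtype]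
    rw [← this] at he
    obtain ⟨e0, h0, h1⟩ := he
    exact Subtype.ext h1 ▸ h0
  have hstem : Cfsg.IsStemExtension σ := by
    refine ⟨hσs, fun e he => mem_center_iff.2 fun h => ?_, fun e _ => hperfT ▸ mem_top e⟩
    exact Subtype.ext (hD _ (hkerD e he) _).eq.symm
  obtain ⟨π, hπ⟩ := exists_surjective hperfP R hP cert_ok hstem
  -- two elements of the kernel
  have hWE : ∀ r, W r ∈ E := fun r => subset_closure ⟨r, rfl⟩
  let a0 : ↥E' := ⟨⁅W 14, W 21⁆, commutator_mem_commutator (hWE _) (hWE _)⟩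
  let b0 : ↥E' := ⟨⁅W 14, W 17⁆, commutator_mem_commutator (hWE _) (hWE _)⟩
  obtain ⟨s1, s2, s3⟩ := base_signs
  obtain ⟨t14, t21, t17, t20⟩ := tau_values
  have ea : (a0 : A × (Um × Um × Um)).2 = (-1, 1, -1) := by
    show (⁅matU 14, matU 21⁆, ⁅matU (tau 14), matU (tau 21)⁆,
      ⁅matU (tau (tau 14)), matU (tau (tau 21))⁆) = _
    rw [t14, t14, t21, t17, s1, s2, s3]
  have eb : (b0 : A × (Um × Um × Um)).2 = (1, -1, -1) := by
    show (⁅matU 14, matU 17⁆, ⁅matU (tau 14), matU (tau 17)⁆,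
      ⁅matU (tau (tau 14)), matU (tau (tau 17))⁆) = _
    rw [t14, t14, t17, t20, s2, s3, s1]
  have eab : ((a0 * b0 : ↥E') : A × (Um × Um × Um)).2 = (-1, -1, 1) := by
    rw [coe_mul, Prod.snd_mul, ea, eb]
    simp
  have hker : ∀ {r s : Fin 24}, tab.isCom r s = true → q ⁅Y r, Y s⁆ = 1 := fun {r s} h =>
    (hWcom r s h).1
  have hca : σ a0 = 1 := hker (r := 14) (s := 21) (by decide +kernel)
  have hcb : σ b0 = 1 := hker (r := 14) (s := 17) (by decide +kernel)
  have hne : (-1 : Um) ≠ 1 := neg_one_ne_one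
  -- every element of the kernel is among the four
  have hfour : ∀ e : ↥E', σ e = 1 → e = 1 ∨ e = a0 ∨ e = b0 ∨ e = a0 * b0 := by
    haveI : Finite ↥σ.ker := Finite.of_surjective π hπ
    let F4 : Fin 4 → ↥σ.ker :=
      ![1, ⟨a0, hca⟩, ⟨b0, hcb⟩, ⟨a0 * b0, by rw [MonoidHom.mem_ker, map_mul, hca, hcb, one_mul]⟩]
    let T4 : Fin 4 → Um × Um × Um := ![1, (-1, 1, -1), (1, -1, -1), (-1, -1, 1)]
    have hT : ∀ i, ((F4 i : ↥E') : A × (Um × Um × Um)).2 = T4 i := by
      intro i
      fin_cases i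
      exacts [rfl, ea, eb, eab]
    have hTi : Function.Injective T4 := by
      intro i j hij
      fin_cases i <;> fin_cases j <;>
        simp [T4, Prod.ext_iff, hne, hne.symm] at hij ⊢
    have hinj : Function.Injective F4 := fun i j hij =>
      hTi (by rw [← hT, ← hT, hij])
    have hle : Nat.card ↥σ.ker ≤ 4 := by
      refine (Nat.card_le_card_of_surjective _ hπ).trans (le_of_eq ?_)
      rw [Nat.card_congr Multiplicative.toAdd, Nat.card_prod, Nat.card_zmod]
    have hbij : Function.Bijective F4 :=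
      hinj.bijective_of_nat_card_le (by rw [Nat.card_fin]; exact hle)
    intro e he
    obtain ⟨i, hi⟩ := hbij.2 ⟨e, he⟩
    have hie : (F4 i : ↥E') = e := congrArg Subtype.val hi
    rw [← hie]
    fin_cases i <;> simp [F4]
  -- the first coordinate
  let pA : ↥E' →* A := (MonoidHom.fst A (Um × Um × Um)).comp E'.subtype
  have hpA : Function.Surjective pA := by
    rw [← MonoidHom.range_eq_top, eq_top_iff, ← hperf, _root_.commutator_def, commutator_le]
    intro a _ b _
    obtain ⟨e, he⟩ := hσs (q a)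
    obtain ⟨e', he'⟩ := hσs (q b)
    have hz : ∀ (c : A) (e : ↥E'), σ e = q c → ∀ g : A, Commute ((pA e)⁻¹ * c) g := fun c e h g =>
      (mem_center_iff.1 (hcen (show (pA e)⁻¹ * c ∈ q.ker by
        rw [MonoidHom.mem_ker, map_mul, map_inv, ← h]
        exact inv_mul_cancel _)) g).symm
    refine ⟨⁅e, e'⁆, ?_⟩
    rw [map_commutatorElement]
    obtain ⟨z, hza, rfl⟩ : ∃ z, (∀ g, Commute z g) ∧ a = pA e * z :=
      ⟨_, hz a e he, (mul_inv_cancel_left _ _).symm⟩
    obtain ⟨w, hwb, rfl⟩ : ∃ w, (∀ g, Commute w g) ∧ b = pA e' * w :=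
      ⟨_, hz b e' he', (mul_inv_cancel_left _ _).symm⟩
    symm
    calc ⁅pA e * z, pA e' * w⁆
        = pA e * (z * pA e') * (w * z⁻¹) * (pA e)⁻¹ * w⁻¹ * (pA e')⁻¹ := by
          simp only [commutatorElement_def]; group
      _ = pA e * (pA e' * z) * (z⁻¹ * w) * (pA e)⁻¹ * w⁻¹ * (pA e')⁻¹ := by
          rw [(hza (pA e')).eq, (hwb z⁻¹).eq]
      _ = pA e * pA e' * (w * (pA e)⁻¹) * w⁻¹ * (pA e')⁻¹ := by group
      _ = ⁅pA e, pA e'⁆ := by rw [(hwb (pA e)⁻¹).eq]; simp only [commutatorElement_def]; group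
  obtain ⟨z, hz1, hzker, hzq⟩ : ∃ z : A, z ≠ 1 ∧ q z = 1 ∧ ∀ c, q c = 1 → c = 1 ∨ c = z := by
    obtain ⟨p1, p2, hne', hu⟩ := Nat.card_eq_two_iff.1 hcard
    have hall : ∀ y : q.ker, y = p1 ∨ y = p2 := fun y => by
      have := hu.symm ▸ Set.mem_univ y
      simpa using this
    by_cases h1 : p1 = 1
    · refine ⟨p2, fun h => hne' (h1.trans (Subtype.ext h.symm)), p2.2, fun c hc => ?_⟩
      rcases hall ⟨c, hc⟩ with h | h
      · exact Or.inl (congrArg Subtype.val (h.trans h1))
      · exact Or.inr (congrArg Subtype.val h)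
    · refine ⟨p1, fun h => h1 (Subtype.ext h), p1.2, fun c hc => ?_⟩
      rcases hall ⟨c, hc⟩ with h | h
      · exact Or.inr (congrArg Subtype.val h)
      · have h2 : p2 = 1 := by
          rcases hall 1 with h' | h'
          · exact absurd h'.symm h1
          · exact h'.symm
        exact Or.inl (congrArg Subtype.val (h.trans h2))
  -- descent along a coordinate
  have descend : ∀ pr : Um × Um × Um →* Um,
      Subgroup.closure (Set.range fun r => pr (lift3 r)) = matGroup →
      (∀ e : ↥E', σ e = 1 → (pA e = 1 ↔ pr (e : A × (Um × Um × Um)).2 = 1)) →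
      ∃ φ : A →* Um, Function.Injective φ ∧ φ.range = matGroup := by
    intro pr hrange hiff
    let pU : ↥E' →* Um := (pr.comp (MonoidHom.snd A (Um × Um × Um))).comp E'.subtype
    have hmap : pU.range = matGroup := by
      rw [MonoidHom.range_comp, range_subtype, map_commutator, MonoidHom.map_closure,
        ← Set.range_comp]
      show ⁅Subgroup.closure (Set.range fun r => pr (lift3 r)), Subgroup.closure (Set.range fun r => pr (lift3 r))⁆ = _
      rw [hrange, commutator_matGroup]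
    have hkerU : ∀ e, pU e = 1 → σ e = 1 := by
      haveI : (pU.ker.map σ).Normal := (inferInstance : pU.ker.Normal).map σ hσs
      rcases IsSimpleGroup.eq_bot_or_eq_top_of_normal (pU.ker.map σ) inferInstance with h | h
      · intro e he
        exact mem_bot.1 (h ▸ mem_map_of_mem σ he)
      · exfalso
        have hcentral : ∀ e, ∀ g : ↥E', Commute (pU e) (pU g) := by
          intro e g
          obtain ⟨k, hk, hke⟩ : σ e ∈ pU.ker.map σ := h ▸ mem_top _
          have hn : σ (k⁻¹ * e) = 1 := by rw [map_mul, map_inv, hke, inv_mul_cancel]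
          have hc := (hD _ (hkerD _ hn) (g : A × (Um × Um × Um))).map
            (pr.comp (MonoidHom.snd A (Um × Um × Um)))
          have he' : pU (k⁻¹ * e) = pU e := by
            rw [map_mul, map_inv, MonoidHom.mem_ker.1 hk, inv_one, one_mul]
          rw [← he']
          exact hc
        have h1 : ∀ a ∈ matGroup, ∀ b ∈ matGroup, Commute a b := by
          rw [← hmap]
          rintro _ ⟨a, rfl⟩ _ ⟨b, rfl⟩
          exact hcentral a b
        have h2 : ⁅matU 14, matU 21⁆ = 1 := commutatorElement_eq_one_iff_mul_comm.2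
          (h1 _ (subset_closure ⟨_, rfl⟩) _ (subset_closure ⟨_, rfl⟩)).eq
        rw [s1] at h2
        exact hne h2
    have hker : pA.ker = pU.ker := by
      ext e
      simp only [MonoidHom.mem_ker]
      refine ⟨fun h => ?_, fun h => (hiff e (hkerU e h)).2 h⟩
      exact (hiff e (show q (pA e) = 1 by rw [h, map_one])).1 h
    let φ : A →* Um := MonoidHom.liftOfSurjective pA hpA ⟨pU, hker.le⟩
    have hφ : ∀ e, φ (pA e) = pU e := fun e =>
      DFunLike.congr_fun (MonoidHom.liftOfRightInverse_comp pA _ (Function.rightInverse_surjInv hpA)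
        ⟨pU, hker.le⟩) e
    refine ⟨φ, (injective_iff_map_eq_one φ).2 fun a ha => ?_, ?_⟩
    · obtain ⟨e, rfl⟩ := hpA a
      rw [hφ] at ha
      exact MonoidHom.mem_ker.1 (hker.symm ▸ MonoidHom.mem_ker.2 ha)
    · rw [← hmap]
      ext y
      constructor
      · rintro ⟨a, rfl⟩
        obtain ⟨e, rfl⟩ := hpA a
        exact ⟨e, (hφ e).symm⟩
      · rintro ⟨e, rfl⟩
        exact ⟨pA e, hφ e⟩
  obtain ⟨ca, hca'⟩ : ∃ c, pA a0 = c := ⟨_, rfl⟩
  obtain ⟨cb, hcb'⟩ : ∃ c, pA b0 = c := ⟨_, rfl⟩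
  have qa : q ca = 1 := hca' ▸ hca
  have qb : q cb = 1 := hcb' ▸ hcb
  have hzz : z * z = 1 := (hzq (z * z) (by rw [map_mul, hzker, one_mul])).resolve_right
    fun e => hz1 (mul_eq_left.1 e)
  have key : ∀ pr : Um × Um × Um →* Um, Subgroup.closure (Set.range fun r => pr (lift3 r)) = matGroup →
      (ca = 1 ↔ pr (-1, 1, -1) = 1) → (cb = 1 ↔ pr (1, -1, -1) = 1) →
      (ca * cb = 1 ↔ pr (-1, -1, 1) = 1) →
      ∃ φ : A →* Um, Function.Injective φ ∧ φ.range = matGroup := by
    intro pr h1 ha hb hab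
    refine descend pr h1 fun e he => ?_
    rcases hfour e he with rfl | rfl | rfl | rfl
    · simp
    · rw [hca', ea]; exact ha
    · rw [hcb', eb]; exact hb
    · rw [map_mul, hca', hcb', eab]; exact hab
  have p1 : Subgroup.closure (Set.range fun r => (MonoidHom.fst Um (Um × Um)) (lift3 r)) = matGroup := rfl
  have p2 : Subgroup.closure (Set.range fun r =>
      ((MonoidHom.fst Um Um).comp (MonoidHom.snd Um (Um × Um))) (lift3 r)) = matGroup :=
    congrArg Subgroup.closure range_tau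
  have p3 : Subgroup.closure (Set.range fun r =>
      ((MonoidHom.snd Um Um).comp (MonoidHom.snd Um (Um × Um))) (lift3 r)) = matGroup :=
    congrArg Subgroup.closure range_tau_tau
  rcases hzq ca qa with rfl | rfl <;> rcases hzq cb qb with rfl | rfl
  · exfalso
    obtain ⟨e, he⟩ := hpA z
    have hez : σ e = 1 := by
      show q (pA e) = 1
      rw [he, hzker]
    rcases hfour e hez with rfl | rfl | rfl | rfl <;>
      simp [hca', hcb', hz1.symm] at he
  · refine key _ p2 ?_ ?_ ?_ <;> simp [hz1, hne]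
  · refine key _ p1 ?_ ?_ ?_ <;> simp [hz1, hne]
  · refine key _ p3 ?_ ?_ ?_ <;> simp [hz1, hne, hzz]

end CfsgLib.StdForm.OmegaEight.MatModel
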