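import Cfsg.Agent.Lib.StdForm.OmegaEight.Pairs

/-!
The outer class of reflections is not fused to the centre: nine pairwise commuting conjugates of the
centre carry no consistent system of planes.
-/

set_option autoImplicit false

open Subgroup
open scoped Matrix commutatorElement

namespace CfsgLib.StdForm.OmegaEight

local notation "Mat8" => Matrix (Fin 8) (Fin 8) (ZMod 3)

theorem trace_refl_mul {a b : Vec} (ha : a ∈ rootSet) (hb : b ∈ rootSet) :
    ((refl a * refl b : GL8) : Mat8).trace = 1 + (a ⬝ᵥ b) * (a ⬝ᵥ b) := by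
  rw [Units.val_mul, refl_val (dot_self ha), refl_val (dot_self hb), reflM, reflM]
  rw [add_mul, mul_add, mul_add, one_mul, one_mul, mul_one, Matrix.vecMulVec_mul_vecMulVec,
    Matrix.trace_add, Matrix.trace_add, Matrix.trace_add, Matrix.trace_one, Matrix.trace_vecMulVec,
    Matrix.trace_vecMulVec, dot_self ha, dot_self hb, Matrix.trace_vecMulVec, dotProduct_smul,
    smul_eq_mul]
  rw [Fintype.card_fin]
  have h3 : ∀ x : ZMod 3, (8 : ℕ) + 1 + (1 + x * x) = (1 : ZMod 3) + x * x := by decide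
  exact h3 _

theorem refl_inj {a b : Vec} (ha : a ∈ rootSet) (hb : b ∈ rootSet) (h : refl a = refl b) :
    a = b ∨ a = -b := by
  rcases commute_refl ha hb (by rw [h]) with h0 | h0 | h0
  · exfalso
    have h1 := trace_refl_mul ha hb
    have h2 := trace_refl_mul ha ha
    rw [← h, h2, dot_self ha, h0] at h1
    exact absurd h1 (by decide)
  · exact Or.inl h0
  · exact Or.inr h0

theorem two_facts : ∀ i j : Fin 8, i ≠ j → dg {i} * dg {j} ≠ 1 ∧ dg {i} * dg {j} ≠ -1 ∧
    ((dg {i} * dg {j} : GL8) : Mat8).trace = 1 ∧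
    ((dg {i} * dg {j} : GL8) : Mat8) *ᵥ ee i = -ee i ∧
    ((dg {i} * dg {j} : GL8) : Mat8) *ᵥ ee j = -ee j := by
  decide +kernel

theorem dg_pair_mem (i j : Fin 8) : dg {i} * dg {j} ∈ W1 := by
  rw [mem_W1_iff (mul_mem (dg_mem _) (dg_mem _)), Units.val_mul, Matrix.det_mul, det_dg, det_dg]
  simp

theorem fix_of_support {M : GL8} (h0 : Fix M (ee 0)) (h1 : Fix M (ee 1)) {v : Vec}
    (hv : ((dg {0, 1} : GL8) : Mat8) *ᵥ v = -v) : Fix M v := by
  have hz : ∀ k : Fin 8, k ≠ 0 → k ≠ 1 → v k = 0 := by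
    intro k hk0 hk1
    have h := congrFun hv k
    simp only [dg, Matrix.mulVec_diagonal, Finset.mem_insert, Finset.mem_singleton, hk0, hk1,
      or_self, if_false, one_mul, Pi.neg_apply] at h
    have h3 : ∀ x : ZMod 3, x = -x → x = 0 := by decide
    exact h3 _ h
  have e : v = v 0 • ee 0 + v 1 • ee 1 := by
    funext k
    simp only [Pi.add_apply, Pi.smul_apply, smul_eq_mul, Pi.single_apply]
    by_cases hk0 : k = 0
    · subst hk0; simp
    · by_cases hk1 : k = 1
      · subst hk1; simp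
      · simp [hk0, hk1, hz k hk0 hk1]
  unfold Fix at h0 h1 ⊢
  rw [e, Matrix.mulVec_add, Matrix.mulVec_smul, Matrix.mulVec_smul, h0, h1]

theorem lt_four : ∀ i : Fin 8, i.val < 4 → i = 0 ∨ i = 1 ∨ i = 2 ∨ i = 3 := by decide

universe u

variable {G : Type u} [Group G] [Finite G] {A : Subgroup G} {z : G}

namespace Mdl

variable (m : Mdl A z)

/-- A perfect group centralizing two given orthogonal coordinate vectors. -/
theorem exists_pair (hcard : Nat.card W1 = 348364800) (i j : Fin 8) : ∃ R : Subgroup GL8, R ≤ W1 ∧ R ≠ ⊥ ∧ PerfectInv R ∧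
    ∀ X ∈ R, Fix X (ee i) ∧ Fix X (ee j) := by
  obtain ⟨P, hPW, hPp, hfix, huP, -⟩ := six
  have hne : P ≠ ⊥ := by
    rintro rfl
    exact absurd (mem_bot.1 huP) (by decide +kernel)
  have key : ∀ c ∈ W, (∀ X ∈ P, Fix X ((c : Mat8) *ᵥ ee i) ∧ Fix X ((c : Mat8) *ᵥ ee j)) →
      ∃ R : Subgroup GL8, R ≤ W1 ∧ R ≠ ⊥ ∧ PerfectInv R ∧
        ∀ X ∈ R, Fix X (ee i) ∧ Fix X (ee j) := by
    intro c hc hX
    refine ⟨P.map (MulAut.conj c⁻¹).toMonoidHom, ?_, fun h => hne
      ((map_eq_bot_iff_of_injective _ (MulAut.conj c⁻¹).injective).1 h), perfectInv_map _ hPp, ?_⟩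
    · rintro _ ⟨X, hX, rfl⟩
      exact W1_normal (inv_mem hc) (hPW hX)
    · rintro _ ⟨X, hX', rfl⟩
      have hv : ∀ v : Vec, Fix X ((c : Mat8) *ᵥ v) → Fix (c⁻¹ * X * c⁻¹⁻¹) v := by
        intro v h
        unfold Fix at h ⊢
        rw [inv_inv, Units.val_mul, Units.val_mul, ← Matrix.mulVec_mulVec, ← Matrix.mulVec_mulVec, h,
          Matrix.mulVec_mulVec, ← Units.val_mul, inv_mul_cancel, Units.val_one, Matrix.one_mulVec]
      exact ⟨hv _ (hX X hX').1, hv _ (hX X hX').2⟩
  by_cases hij : i = j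
  · subst hij
    obtain ⟨M, hM, hMi⟩ := exists_map (ee_mem i)
    have he : ((M⁻¹ : GL8) : Mat8) *ᵥ ee i = ee 0 := by
      rw [← hMi, Matrix.mulVec_mulVec, ← Units.val_mul, inv_mul_cancel, Units.val_one,
        Matrix.one_mulVec]
    exact key M⁻¹ (inv_mem (W1_le_W hM)) fun X hX => by
      rw [he]; exact ⟨(hfix X hX).1, (hfix X hX).1⟩
  · obtain ⟨f1, f2, f3, f4, f5⟩ := two_facts i j hij
    set Y := dg {i} * dg {j} with hY
    have hYW : Y ∈ W1 := dg_pair_mem i j
    have hYsq : Y * Y = 1 := by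
      have hc : dg {i} * dg {j} = dg {j} * dg {i} :=
        Units.ext (Matrix.commute_diagonal _ _).eq
      rw [hY, mul_assoc, ← mul_assoc (dg {j}), ← hc, mul_assoc (dg {i}) (dg {j}), dg_sq, mul_one,
        dg_sq]
    rcases classify hcard (W1_le_W hYW) (Or.inl hYsq) with h | h | ⟨c, hc, X, hX, h⟩
    · exact absurd h f1
    · exact absurd h f2
    · have hdet : ((c * Y * c⁻¹ : GL8) : Mat8).det = 1 := by rw [det_conj, det_W1 hYW]
      have htr : ((c * Y * c⁻¹ : GL8) : Mat8).trace = 1 := by rw [trace_conj, f3]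
      obtain ⟨t1, t2, t3, t4, t5⟩ := trace_facts
      have hXY : c * Y * c⁻¹ = dg {0, 1} := by
        rcases mem_reps hX with rfl | rfl | rfl | rfl | rfl | rfl
        rotate_left
        · refine h.resolve_right fun h' => ?_
          rw [h', Units.val_neg, Matrix.trace_neg, t1] at htr
          exact absurd htr (by decide)
        · exfalso
          rcases h with h | h <;> rw [h] at hdet
          · rw [det_dg] at hdet; exact absurd hdet (by decide)
          · rw [det_neg', det_dg] at hdet; exact absurd hdet (by decide)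
        · exfalso
          rcases h with h | h <;> rw [h] at htr
          · rw [t4] at htr; exact absurd htr (by decide)
          · rw [Units.val_neg, Matrix.trace_neg, t4] at htr; exact absurd htr (by decide)
        · exfalso
          rcases h with h | h <;> rw [h] at htr
          · rw [t5] at htr; exact absurd htr (by decide)
          · rw [Units.val_neg, Matrix.trace_neg, t5] at htr; exact absurd htr (by decide)
        · exfalso
          have h1 : c * Y * c⁻¹ * (c * Y * c⁻¹) = 1 := by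
            rw [show c * Y * c⁻¹ * (c * Y * c⁻¹) = c * (Y * Y) * c⁻¹ by group, hYsq]; group
          rcases h with h | h <;> rw [h] at h1
          · exact one_ne_neg_one (h1.symm.trans rotJ_facts.2)
          · rw [neg_mul_neg] at h1; exact one_ne_neg_one (h1.symm.trans rotJ_facts.2)
        · exfalso
          rcases h with h | h <;> rw [h] at hdet
          · rw [det_dg] at hdet; exact absurd hdet (by decide)
          · rw [det_neg', det_dg] at hdet; exact absurd hdet (by decide)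
      have hv : ∀ v : Vec, (Y : Mat8) *ᵥ v = -v →
          ((dg {0, 1} : GL8) : Mat8) *ᵥ ((c : Mat8) *ᵥ v) = -((c : Mat8) *ᵥ v) := by
        intro v hv
        rw [← hXY, Matrix.mulVec_mulVec, ← Units.val_mul, inv_mul_cancel_right, Units.val_mul,
          ← Matrix.mulVec_mulVec, hv, Matrix.mulVec_neg]
      exact key c hc fun X hX => ⟨fix_of_support (hfix X hX).1 (hfix X hX).2 (hv _ f4),
        fix_of_support (hfix X hX).1 (hfix X hX).2 (hv _ f5)⟩

/-- A fused element commuting with a nontrivial perfect subgroup of `A` acts as a reflection. -/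
theorem exists_root {w : G} (hw : Fused A z w) {Q : Subgroup G} (hQA : Q ≤ A) (hQne : Q ≠ ⊥)
    (hQp : PerfectInv Q) (hc : ∀ x ∈ Q, x * w = w * x) :
    ∃ a ∈ rootSet, m.Ind w (refl a) := by
  obtain ⟨c, hcW, X, hX, hI⟩ := m.cases hw
  set n := m.conj c hcW
  have hbot : ∀ Z ∈ [dg {0, 1, 2}, dg {0, 1, 2, 3}, dg {0, 1, 2, 4}], n.Ind w Z → False :=
    fun Z hZ hZI => n.push_ne_bot hQA hQne (fix_bot (fun x hx => W1_le_W (n.push_le _ hx))
      (n.push_perfect hQA hQp).1 hZ (n.push_commute hZI hc))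
  rcases mem_reps hX with rfl | rfl | rfl | rfl | rfl | rfl
  · refine ⟨((c⁻¹ : GL8) : Mat8) *ᵥ ee 0, map_root (inv_mem hcW) (ee_mem 0), ?_⟩
    rw [← m.conj_ind hcW, ← refl_conj (inv_mem hcW) (ee_mem 0), refl_ee,
      show c * (c⁻¹ * dg {0} * c⁻¹⁻¹) * c⁻¹ = dg {0} by group]
    exact hI
  · exfalso
    have hA : w ∈ A := inner_mem n hw two_mem_W1 (dg_sq _) hI
    obtain ⟨a, rfl⟩ : ∃ a : ↥A, (a : G) = w := ⟨⟨w, hA⟩, rfl⟩
    have htr := (mem_four n hw).1
    rcases n.eq_of_ind (dg_mem _) hI with h | h <;> rw [h] at htr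
    · rw [trace_facts.1] at htr; exact absurd htr (by decide)
    · rw [Units.val_neg, Matrix.trace_neg, trace_facts.1] at htr; exact absurd htr (by decide)
  · exact (hbot _ (by simp) hI).elim
  · exact (hbot _ (by simp) hI).elim
  · exact (hbot _ (by simp) hI).elim
  · exact (no_rot n hw hI).elim

end Mdl

/-- Five elements `L` are special when an element of order three centralizes them and lies in the
component of the centralizer of each. -/
def Special (A : Subgroup G) (z : G) (L : List G) : Prop :=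
  ∃ x : G, x ^ 3 = 1 ∧ x ≠ 1 ∧
    ∀ q ∈ L, x * q = q * x ∧ ∀ g, g * z * g⁻¹ = q → g⁻¹ * x * g ∈ A

theorem Special.mono {L L' : List G} (h : Special A z L) (hsub : ∀ q ∈ L', q ∈ L) :
    Special A z L' :=
  let ⟨x, h3, h1, hx⟩ := h
  ⟨x, h3, h1, fun q hq => hx q (hsub q hq)⟩

theorem special_of_planar (m : Mdl A z) {g p q1 q2 q3 q4 : G} {a b c d : Vec}
    (hg : g * z * g⁻¹ = p)
    (hn : ∀ q ∈ [q1, q2, q3, q4], g⁻¹ * q * g ∈ normalizer (A : Set G))
    (h1 : a ∈ rootSet ∧ m.Ind (g⁻¹ * q1 * g) (refl a))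
    (h2 : b ∈ rootSet ∧ m.Ind (g⁻¹ * q2 * g) (refl b))
    (h3 : c ∈ rootSet ∧ m.Ind (g⁻¹ * q3 * g) (refl c))
    (h4 : d ∈ rootSet ∧ m.Ind (g⁻¹ * q4 * g) (refl d))
    (ho : [a, b, c, d].Pairwise fun v w => v ⬝ᵥ w = 0) (hp : Planar a b c d) :
    Special A z [p, q1, q2, q3, q4] := by
  obtain ⟨M, hM, hMv⟩ := normalise_four (a := a) (b := b) (c := c) (d := d) (by simp [h1.1, h2.1, h3.1, h4.1]) ho hp
  set n := m.conj M hM
  obtain ⟨P, hPW, hPp, hfix, -, -, -, -, -, -, -, x, hxP, k, hk, hx1, hx3, hfx, hkx, hkm, -⟩ := six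
  have hk2 := (hkm 2 0 (by decide) (by decide)).1
  have hk3 := (hkm 3 1 (by decide) (by decide)).1
  have hxW : x ∈ W1 := hPW hxP
  set y := n.el x with hy
  have hy3 : y ^ 3 = 1 := by
    rw [hy, pow_succ, pow_two, ← n.el_mul hxW hxW, ← n.el_mul (mul_mem hxW hxW) hxW, ← pow_two,
      ← pow_succ, hx3, n.el_one]
  have hy1 : y ≠ 1 := fun h => hx1 (n.el_inj hxW (one_mem _) (h.trans n.el_one.symm))
  -- a perfect group through `x` fixing a given coordinate vector
  have hR : ∀ i : Fin 8, i.val < 4 → ∃ R : Subgroup GL8, R ≤ W1 ∧ PerfectInv R ∧ x ∈ R ∧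
      ∀ X ∈ R, X * dg {i} = dg {i} * X := by
    intro i hi
    have hcomm : ∀ (R : Subgroup GL8), R ≤ W1 → (∀ X ∈ R, Fix X (ee i)) →
        ∀ X ∈ R, X * dg {i} = dg {i} * X := fun R hR h X hX =>
      refl_ee i ▸ commute_refl_of_fix (W1_le_W (hR hX)) (ee_mem i) (h X hX)
    have := lt_four i hi
    have hR' : P.map (MulAut.conj k⁻¹).toMonoidHom ≤ W1 := by
      rintro _ ⟨X, hX, rfl⟩
      exact mul_mem (mul_mem (inv_mem hk) (hPW hX)) (inv_mem (inv_mem hk))
    have hxR' : x ∈ P.map (MulAut.conj k⁻¹).toMonoidHom :=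
      mem_map.2 ⟨_, hkx, by simp [MulAut.conj_apply, mul_assoc]⟩
    have hfixR : ∀ (v w : Vec), (k : Mat8) *ᵥ v = w → (∀ X ∈ P, Fix X w) →
        ∀ X ∈ P.map (MulAut.conj k⁻¹).toMonoidHom, Fix X v := by
      rintro v w hvw hw _ ⟨X, hX, rfl⟩
      show Fix (k⁻¹ * X * k⁻¹⁻¹) v
      have h := hw X hX
      unfold Fix at h ⊢
      rw [inv_inv, Units.val_mul, Units.val_mul, ← Matrix.mulVec_mulVec, ← Matrix.mulVec_mulVec,
        hvw, h, ← hvw, Matrix.mulVec_mulVec, ← Units.val_mul, inv_mul_cancel, Units.val_one,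
        Matrix.one_mulVec]
    rcases this with rfl | rfl | rfl | rfl
    · exact ⟨P, hPW, hPp, hxP, hcomm P hPW fun X hX => (hfix X hX).1⟩
    · exact ⟨P, hPW, hPp, hxP, hcomm P hPW fun X hX => (hfix X hX).2⟩
    · exact ⟨_, hR', perfectInv_map _ hPp, hxR',
        hcomm _ hR' (hfixR _ _ hk2 fun X hX => (hfix X hX).1)⟩
    · exact ⟨_, hR', perfectInv_map _ hPp, hxR',
        hcomm _ hR' (hfixR _ _ hk3 fun X hX => (hfix X hX).2)⟩
  have hyz : y * z = z * y :=
    (mem_centralizer_iff.1 m.setup.hzC y (n.el_mem x))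
  refine ⟨g * y * g⁻¹, ?_, fun h => hy1 (conj_eq_one_iff.1 h), fun q hq => ?_⟩
  · rw [conj_pow, hy3]; group
  rw [List.mem_cons] at hq
  rcases hq with rfl | hq
  · refine ⟨by rw [← hg, show g * y * g⁻¹ * (g * z * g⁻¹) = g * (y * z) * g⁻¹ by group, hyz]; group,
      fun g' hg' => ?_⟩
    have hN : g⁻¹ * g' ∈ normalizer (A : Set G) := by
      refine (mem_normalizer_iff_commute m.setup).2 ?_
      calc g⁻¹ * g' * z = g⁻¹ * (g' * z * g'⁻¹) * g' := by group
        _ = g⁻¹ * (g * z * g⁻¹) * g' := by rw [hg', hg]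
        _ = z * (g⁻¹ * g') := by group
    have := (mem_normalizer_iff.1 (inv_mem hN) y).1 (n.el_mem x)
    rwa [show g'⁻¹ * (g * y * g⁻¹) * g' = (g⁻¹ * g')⁻¹ * y * (g⁻¹ * g')⁻¹⁻¹ by group]
  · have hq' : ∃ v, v ∈ [a, b, c, d] ∧ v ∈ rootSet ∧ m.Ind (g⁻¹ * q * g) (refl v) := by
      simp only [List.mem_cons, List.not_mem_nil, or_false] at hq
      rcases hq with rfl | rfl | rfl | rfl
      · exact ⟨a, by simp, h1⟩
      · exact ⟨b, by simp, h2⟩
      · exact ⟨c, by simp, h3⟩
      · exact ⟨d, by simp, h4⟩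
    obtain ⟨v, hv, hvR, hvI⟩ := hq'
    obtain ⟨i, hi, hMi⟩ := hMv v hv
    have hIi : n.Ind (g⁻¹ * q * g) (dg {i}) := by
      have h := (m.conj_ind hM).2 hvI
      rw [refl_conj hM hvR] at h
      rcases hMi with e | e <;> rw [e] at h
      · rwa [refl_ee] at h
      · rwa [refl_neg, refl_ee] at h
    obtain ⟨R, hRW, hRp, hxR, hRc⟩ := hR i hi
    have hcR := n.commute_pull (hn q hq) hIi hRc
    have hyR : y ∈ n.pull R := n.el_mem_pull hRW hxR
    have hcq : ∀ t ∈ n.pull R, g * t * g⁻¹ * q = q * (g * t * g⁻¹) := by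
      intro t ht
      calc g * t * g⁻¹ * q = g * (t * (g⁻¹ * q * g)) * g⁻¹ := by group
        _ = g * (g⁻¹ * q * g * t) * g⁻¹ := by rw [hcR t ht]
        _ = q * (g * t * g⁻¹) := by group
    refine ⟨hcq y hyR, fun g' hg' => ?_⟩
    have hp' : PerfectInv ((n.pull R).map (MulAut.conj g).toMonoidHom) :=
      perfectInv_map _ (n.pull_perfect hRW hRp)
    refine tau_le m hg' hp' ?_ (mem_tau (mem_map.2 ⟨y, hyR, by simp [MulAut.conj_apply]⟩))
    rintro _ ⟨t, ht, rfl⟩
    simpa [MulAut.conj_apply] using hcq t ht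

theorem planar_of_special (m : Mdl A z) {g p q1 q2 q3 q4 : G} {a b c d : Vec}
    (hg : g * z * g⁻¹ = p) (hs : Special A z [p, q1, q2, q3, q4])
    (h1 : a ∈ rootSet ∧ m.Ind (g⁻¹ * q1 * g) (refl a))
    (h2 : b ∈ rootSet ∧ m.Ind (g⁻¹ * q2 * g) (refl b))
    (h3 : c ∈ rootSet ∧ m.Ind (g⁻¹ * q3 * g) (refl c))
    (h4 : d ∈ rootSet ∧ m.Ind (g⁻¹ * q4 * g) (refl d))
    (ho : [a, b, c, d].Pairwise fun v w => v ⬝ᵥ w = 0) : Planar a b c d := by
  obtain ⟨x, hx3, hx1, hx⟩ := hs
  have hyA : g⁻¹ * x * g ∈ A := (hx p (by simp)).2 g hg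
  set y : ↥A := ⟨g⁻¹ * x * g, hyA⟩
  have hy3 : y ^ 3 = 1 := Subtype.ext (by
    show (g⁻¹ * x * g) ^ 3 = 1
    rw [show g⁻¹ * x * g = g⁻¹ * x * g⁻¹⁻¹ by rw [inv_inv], conj_pow, hx3]; group)
  have hY3 : m.φ y ^ 3 = 1 := by rw [← map_pow, hy3, map_one]
  have hfix : ∀ q v, q ∈ [p, q1, q2, q3, q4] → v ∈ rootSet → m.Ind (g⁻¹ * q * g) (refl v) →
      Fix (m.φ y) v := by
    intro q v hq hv hI
    have hc : g⁻¹ * q * g * (y : G) = y * (g⁻¹ * q * g) := by
      show g⁻¹ * q * g * (g⁻¹ * x * g) = g⁻¹ * x * g * (g⁻¹ * q * g)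
      calc g⁻¹ * q * g * (g⁻¹ * x * g) = g⁻¹ * (q * x) * g := by group
        _ = g⁻¹ * (x * q) * g := by rw [(hx q hq).1]
        _ = g⁻¹ * x * g * (g⁻¹ * q * g) := by group
    have hYW := W1_le_W (m.φ_mem y)
    have h := m.φ_commute hI hc
    rw [← mul_inv_eq_iff_eq_mul, refl_conj hYW hv] at h
    rcases refl_inj (map_root hYW hv) hv h with e | e
    · exact e
    · exfalso
      have h' := congrArg (fun N : GL8 => (N : Mat8) *ᵥ v) hY3
      simp only [pow_succ, pow_zero, one_mul, Units.val_mul, Units.val_one, Matrix.one_mulVec,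
        ← Matrix.mulVec_mulVec, e, Matrix.mulVec_neg, neg_neg] at h'
      have h0 := congrArg (fun w => v ⬝ᵥ w) h'
      simp only [dotProduct_neg, dot_self hv] at h0
      exact absurd h0 (by decide)
  refine planar_of_fix (by simp [h1.1, h2.1, h3.1, h4.1]) ho (W1_le_W (m.φ_mem y)) hY3 ?_ ?_
  · intro h
    refine hx1 ?_
    have h' : g⁻¹ * x * g = 1 := congrArg Subtype.val (m.inj (h.trans (map_one m.φ).symm))
    calc x = g * (g⁻¹ * x * g) * g⁻¹ := by group
      _ = 1 := by rw [h']; group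
  · intro v hv
    simp only [List.mem_cons, List.not_mem_nil, or_false] at hv
    rcases hv with rfl | rfl | rfl | rfl
    · exact hfix q1 v (by simp) h1.1 h1.2
    · exact hfix q2 v (by simp) h2.1 h2.2
    · exact hfix q3 v (by simp) h3.1 h3.2
    · exact hfix q4 v (by simp) h4.1 h4.2

set_option maxHeartbeats 1600000 in
/-- The outer class of reflections is not fused. -/
theorem no_refl (m : Mdl A z) {u : G} (hu : Fused A z u) (hI : m.Ind u (dg {0})) : False := by
  classical
  choose M hM hMe using fun i : Fin 8 => exists_map (ee_mem i)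
  set us : Fin 8 → G := fun i => m.el (M i) * u * (m.el (M i))⁻¹ with hus
  have hIus : ∀ i, m.Ind (us i) (refl (ee i)) := by
    intro i
    have h := m.ind_mul (inv_mem (m.el_mem_normalizer (M i))) (m.ind_mul hu.2.2 (m.ind_el (hM i)) hI)
      (m.ind_inv (m.el_mem_normalizer (M i)) (m.ind_el (hM i)))
    rwa [← refl_ee, refl_conj (W1_le_W (hM i)) (ee_mem 0), hMe] at h
  have hF : ∀ i, Fused A z (us i) := fun i => hu.conj m.setup (m.el_mem_normalizer _)
  have hmul : ∀ i j, us i * us j = m.el (dg {i} * dg {j}) := by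
    intro i j
    obtain ⟨ai, hai, hiel⟩ := m.exists_el (hM i)
    obtain ⟨aj, haj, hjel⟩ := m.exists_el (hM j)
    let a' : ↥A := ⟨u * ((ai⁻¹ * aj : ↥A) : G) * u⁻¹,
      (mem_normalizer_iff.1 hu.2.2 _).1 (ai⁻¹ * aj).2⟩
    have hd : ∀ k, dg {k} = M k * dg {0} * (M k)⁻¹ := fun k => by
      rw [← refl_ee, ← refl_ee, refl_conj (W1_le_W (hM k)) (ee_mem 0), hMe]
    have h : m.φ (ai * a' * aj⁻¹) = dg {i} * dg {j} := by
      rw [map_mul, map_mul, map_inv, hI _ a' rfl, map_mul, map_inv, hai, haj, hd i, hd j,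
        inv_eq_of_mul_eq_one_right (dg_sq {0})]
      group
    rw [← h, m.el_coe]
    show m.el (M i) * u * (m.el (M i))⁻¹ * (m.el (M j) * u * (m.el (M j))⁻¹) =
      (ai : G) * (u * ((ai : G)⁻¹ * (aj : G)) * u⁻¹) * (aj : G)⁻¹
    rw [hiel, hjel, inv_eq_of_mul_eq_one_right (hu.sq m.setup)]
    group
  have hnA : ∀ i, us i ∉ A := fun i h => by
    have h' := det_W1 (m.φ_mem ⟨us i, h⟩)
    rcases m.eq_of_ind (a := ⟨us i, h⟩) (refl_mem (ee_mem i)) (hIus i) with e | e <;>
      rw [e] at h'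
    · rw [det_refl (ee_norm i)] at h'; exact absurd h' (by decide)
    · rw [det_neg', det_refl (ee_norm i)] at h'; exact absurd h' (by decide)
  set T : Option (Fin 8) → G := fun p => p.elim z us with hT
  have hTc : ∀ p q, T p * T q = T q * T p := by
    have hz : ∀ i, us i * z = z * us i := fun i => (mem_normalizer_iff_commute m.setup).1 (hF i).2.2
    rintro (_ | i) (_ | j)
    · rfl
    · exact (hz j).symm
    · exact hz i
    · show us i * us j = us j * us i
      rw [hmul, hmul, show dg {i} * dg {j} = dg {j} * dg {i} from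
        Units.ext (Matrix.commute_diagonal _ _).eq]
  have hTconj : ∀ p, IsConj z (T p) := by
    rintro (_ | i)
    · exact IsConj.refl z
    · exact (hF i).1
  have hTinj : ∀ p q, T p = T q → p = q := by
    rintro (_ | i) (_ | j) h
    · rfl
    · exact absurd h.symm (hF j).2.1
    · exact absurd h (hF i).2.1
    · by_contra hne
      have h1 : m.el (dg {i} * dg {j}) = 1 := by
        rw [← hmul, show us j = us i from h.symm, (hF i).sq m.setup]
      exact (two_facts i j fun e => hne (by rw [e])).1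
        (m.el_inj (dg_pair_mem i j) (one_mem _) (h1.trans m.el_one.symm))
  have hsq : ∀ i, us i * us i = 1 := fun i => (hF i).sq m.setup
  have hTne : ∀ p q r, p ≠ q → p ≠ r → q ≠ r → T q * T r ≠ T p := by
    have hprod : ∀ i j, i ≠ j → us i * us j ≠ z := fun i j hij h =>
      (two_facts i j hij).2.1 (m.el_inj (dg_pair_mem i j) m.neg_one_mem_W1.1
        ((hmul i j).symm.trans (h.trans m.el_neg_one.symm)))
    have hzA : ∀ i j, us i * us j ∈ A := fun i j => hmul i j ▸ m.el_mem _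
    rintro (_ | i) (_ | j) (_ | k) hpq hpr hqr h
    all_goals first | exact hpq rfl | exact hpr rfl | exact hqr rfl | skip
    · exact hprod j k (fun e => hqr (by rw [e])) h
    · have h2 : z = us i * us k := by
        rw [← show z * us k = us i from h, mul_assoc, hsq, mul_one]
      exact hprod i k (fun e => hpr (by rw [e])) h2.symm
    · have hz : us j * z = z * us j := (mem_normalizer_iff_commute m.setup).1 (hF j).2.2
      have h2 : z = us i * us j := by
        rw [← show us j * z = us i from h, hz, mul_assoc, hsq, mul_one]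
      exact hprod i j (fun e => hpq (by rw [e])) h2.symm
    · exact hnA i ((show us j * us k = us i from h) ▸ hzA j k)
  have hFτ : ∀ p q g, p ≠ q → g * z * g⁻¹ = T p → Fused A z (g⁻¹ * T q * g) := fun p q g hpq hg =>
    fused_pull m.setup hg (hTconj q) (fun e => hpq (hTinj _ _ e).symm) (hTc q p)
  have hview : ∀ p q g, p ≠ q → g * z * g⁻¹ = T p →
      ∃ a ∈ rootSet, m.Ind (g⁻¹ * T q * g) (refl a) := by
    intro p q g hpq hg
    obtain ⟨R, hRW, hRne, hRp, hRfix⟩ := Mdl.exists_pair m.card_W1 (p.getD (q.getD 0)) (q.getD (p.getD 0))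
    have hcom : ∀ i, (∀ X ∈ R, Fix X (ee i)) → ∀ x ∈ m.pull R, x * us i = us i * x := fun i hi =>
      m.commute_pull (hF i).2.2 (hIus i) fun X hX =>
        commute_refl_of_fix (W1_le_W (hRW hX)) (ee_mem i) (hi X hX)
    have hcz : ∀ x ∈ m.pull R, x * z = z * x := fun x hx =>
      (mem_normalizer_iff_commute m.setup).1 (le_normalizer (m.pull_le R hx))
    have hcp : ∀ x ∈ m.pull R, x * T p = T p * x := by
      rcases p with _ | i
      · exact hcz
      · exact hcom i fun X hX => (hRfix X hX).1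
    have hcq : ∀ x ∈ m.pull R, x * T q = T q * x := by
      rcases q with _ | j
      · exact hcz
      · exact hcom j fun X hX => (hRfix X hX).2
    exact m.exists_root (hFτ p q g hpq hg) (tau_le m hg (m.pull_perfect hRW hRp) hcp)
      (tau_ne_bot (m.pull_ne_bot hRW hRne)) (perfectInv_map _ (m.pull_perfect hRW hRp))
      (tau_commute hcq)
  have horth : ∀ p q r g a b, p ≠ q → p ≠ r → q ≠ r → g * z * g⁻¹ = T p → a ∈ rootSet →
      b ∈ rootSet → m.Ind (g⁻¹ * T q * g) (refl a) → m.Ind (g⁻¹ * T r * g) (refl b) →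
      a ⬝ᵥ b = 0 := by
    intro p q r g a b hpq hpr hqr hg ha hb hIa hIb
    have hq := hFτ p q g hpq hg
    have hr := hFτ p r g hpr hg
    have hc : g⁻¹ * T q * g * (g⁻¹ * T r * g) = g⁻¹ * T r * g * (g⁻¹ * T q * g) := by
      calc _ = g⁻¹ * (T q * T r) * g := by group
        _ = g⁻¹ * (T r * T q) * g := by rw [hTc]
        _ = _ := by group
    have h1 := m.ind_mul hr.2.2 hIa hIb
    have h2 := m.ind_mul hq.2.2 hIb hIa
    rw [← hc] at h2
    have hab : refl a * refl b = refl b * refl a := by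
      rcases m.ind_unique (mul_mem (refl_mem ha) (refl_mem hb)) (mul_mem (refl_mem hb) (refl_mem ha))
        (mul_mem hq.2.2 hr.2.2) h1 h2 with e | e
      · exact e.symm
      · exfalso
        have ht := congrArg (fun N : GL8 => (N : Mat8).trace) e
        simp only [trace_refl_mul hb ha, Units.val_neg, Matrix.trace_neg, trace_refl_mul ha hb,
          dotProduct_comm b a] at ht
        have h3 : ∀ x : ZMod 3, 1 + x * x ≠ -(1 + x * x) := by decide
        exact h3 _ ht
    have hne : refl a ≠ refl b := fun e => by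
      rw [e, refl_mul_self] at h1
      have hk := (m.eq_of_ind_one (Or.inl h1)).resolve_right fun hn => hn (mul_mem hq.2.2 hr.2.2)
      have hprod : g⁻¹ * T q * g * (g⁻¹ * T r * g) = g⁻¹ * (T q * T r) * g := by group
      rcases m.setup.eq_of_sq hk (by
        rw [Commute.mul_mul_mul_comm (hc.symm : Commute (g⁻¹ * T r * g) (g⁻¹ * T q * g)),
          hq.sq m.setup, hr.sq m.setup, one_mul]) with h | h
      · have hinv := eq_inv_of_mul_eq_one_left h
        rw [inv_eq_of_mul_eq_one_right (hr.sq m.setup)] at hinv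
        exact hqr (hTinj _ _ (mul_left_cancel (mul_right_cancel hinv)))
      · refine hTne p q r hpq hpr hqr ?_
        rw [← hg, ← h, hprod]; group
    rcases commute_refl ha hb hab with e | e | e
    · exact e
    · exact absurd (by rw [e]) hne
    · exact absurd (by rw [e, refl_neg]) hne
  -- the contradiction
  have hz1 : (1 : G) * z * (1 : G)⁻¹ = T none := by simp [hT]
  have hI1 : ∀ i, ee i ∈ rootSet ∧ m.Ind ((1 : G)⁻¹ * T (some i) * 1) (refl (ee i)) := fun i =>
    ⟨ee_mem i, by simpa [hT] using hIus i⟩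
  have hn1 : ∀ i, (1 : G)⁻¹ * T (some i) * 1 ∈ normalizer (A : Set G) := fun i => by
    simpa [hT] using (hF i).2.2
  have hs1 := special_of_planar m hz1 (p := T none) (q1 := T (some 0)) (q2 := T (some 1))
    (q3 := T (some 2)) (q4 := T (some 3)) (by
      simp only [List.mem_cons, List.not_mem_nil, or_false, forall_eq_or_imp, forall_eq]
      exact ⟨hn1 _, hn1 _, hn1 _, hn1 _⟩) (hI1 0) (hI1 1) (hI1 2) (hI1 3)
    (by decide +kernel) planar_ee.1
  have hs2 := special_of_planar m hz1 (p := T none) (q1 := T (some 4)) (q2 := T (some 5))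
    (q3 := T (some 6)) (q4 := T (some 7)) (by
      simp only [List.mem_cons, List.not_mem_nil, or_false, forall_eq_or_imp, forall_eq]
      exact ⟨hn1 _, hn1 _, hn1 _, hn1 _⟩) (hI1 4) (hI1 5) (hI1 6) (hI1 7)
    (by decide +kernel) planar_ee.2
  -- the view from the first reflection
  obtain ⟨g, hg⟩ := isConj_iff.1 (hTconj (some 0))
  have R0 : ∀ q, some (0 : Fin 8) ≠ q → ∃ a ∈ rootSet, m.Ind (g⁻¹ * T q * g) (refl a) :=
    fun q hq => hview _ q g hq hg
  obtain ⟨a0, ha0, hIa0⟩ := R0 none (by decide)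
  obtain ⟨a1, ha1, hIa1⟩ := R0 (some 1) (by decide)
  obtain ⟨a2, ha2, hIa2⟩ := R0 (some 2) (by decide)
  obtain ⟨a3, ha3, hIa3⟩ := R0 (some 3) (by decide)
  obtain ⟨a4, ha4, hIa4⟩ := R0 (some 4) (by decide)
  obtain ⟨a5, ha5, hIa5⟩ := R0 (some 5) (by decide)
  obtain ⟨a6, ha6, hIa6⟩ := R0 (some 6) (by decide)
  obtain ⟨a7, ha7, hIa7⟩ := R0 (some 7) (by decide)
  have o01' := horth _ none (some 1) g a0 a1 (by decide) (by decide) (by decide) hg ha0 ha1 hIa0 hIa1
  have o02' := horth _ none (some 2) g a0 a2 (by decide) (by decide) (by decide) hg ha0 ha2 hIa0 hIa2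
  have o03' := horth _ none (some 3) g a0 a3 (by decide) (by decide) (by decide) hg ha0 ha3 hIa0 hIa3
  have o04' := horth _ none (some 4) g a0 a4 (by decide) (by decide) (by decide) hg ha0 ha4 hIa0 hIa4
  have o05' := horth _ none (some 5) g a0 a5 (by decide) (by decide) (by decide) hg ha0 ha5 hIa0 hIa5
  have o06' := horth _ none (some 6) g a0 a6 (by decide) (by decide) (by decide) hg ha0 ha6 hIa0 hIa6
  have o07' := horth _ none (some 7) g a0 a7 (by decide) (by decide) (by decide) hg ha0 ha7 hIa0 hIa7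
  have o12' := horth _ (some 1) (some 2) g a1 a2 (by decide) (by decide) (by decide) hg ha1 ha2 hIa1 hIa2
  have o13' := horth _ (some 1) (some 3) g a1 a3 (by decide) (by decide) (by decide) hg ha1 ha3 hIa1 hIa3
  have o14' := horth _ (some 1) (some 4) g a1 a4 (by decide) (by decide) (by decide) hg ha1 ha4 hIa1 hIa4
  have o15' := horth _ (some 1) (some 5) g a1 a5 (by decide) (by decide) (by decide) hg ha1 ha5 hIa1 hIa5
  have o16' := horth _ (some 1) (some 6) g a1 a6 (by decide) (by decide) (by decide) hg ha1 ha6 hIa1 hIa6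
  have o17' := horth _ (some 1) (some 7) g a1 a7 (by decide) (by decide) (by decide) hg ha1 ha7 hIa1 hIa7
  have o23' := horth _ (some 2) (some 3) g a2 a3 (by decide) (by decide) (by decide) hg ha2 ha3 hIa2 hIa3
  have o24' := horth _ (some 2) (some 4) g a2 a4 (by decide) (by decide) (by decide) hg ha2 ha4 hIa2 hIa4
  have o25' := horth _ (some 2) (some 5) g a2 a5 (by decide) (by decide) (by decide) hg ha2 ha5 hIa2 hIa5
  have o26' := horth _ (some 2) (some 6) g a2 a6 (by decide) (by decide) (by decide) hg ha2 ha6 hIa2 hIa6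
  have o27' := horth _ (some 2) (some 7) g a2 a7 (by decide) (by decide) (by decide) hg ha2 ha7 hIa2 hIa7
  have o34' := horth _ (some 3) (some 4) g a3 a4 (by decide) (by decide) (by decide) hg ha3 ha4 hIa3 hIa4
  have o35' := horth _ (some 3) (some 5) g a3 a5 (by decide) (by decide) (by decide) hg ha3 ha5 hIa3 hIa5
  have o36' := horth _ (some 3) (some 6) g a3 a6 (by decide) (by decide) (by decide) hg ha3 ha6 hIa3 hIa6
  have o37' := horth _ (some 3) (some 7) g a3 a7 (by decide) (by decide) (by decide) hg ha3 ha7 hIa3 hIa7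
  have o45' := horth _ (some 4) (some 5) g a4 a5 (by decide) (by decide) (by decide) hg ha4 ha5 hIa4 hIa5
  have o46' := horth _ (some 4) (some 6) g a4 a6 (by decide) (by decide) (by decide) hg ha4 ha6 hIa4 hIa6
  have o47' := horth _ (some 4) (some 7) g a4 a7 (by decide) (by decide) (by decide) hg ha4 ha7 hIa4 hIa7
  have o56' := horth _ (some 5) (some 6) g a5 a6 (by decide) (by decide) (by decide) hg ha5 ha6 hIa5 hIa6
  have o57' := horth _ (some 5) (some 7) g a5 a7 (by decide) (by decide) (by decide) hg ha5 ha7 hIa5 hIa7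
  have o67' := horth _ (some 6) (some 7) g a6 a7 (by decide) (by decide) (by decide) hg ha6 ha7 hIa6 hIa7
  have ho : [a0, a1, a2, a3, a4, a5, a6, a7].Pairwise fun v w => v ⬝ᵥ w = 0 := by
    simp [List.pairwise_cons, o01', o02', o03', o04', o05', o06', o07', o12', o13', o14', o15', o16', o17', o23', o24', o25', o26', o27', o34', o35', o36', o37', o45', o46', o47', o56', o57', o67']
  have hp1 : Planar a0 a1 a2 a3 := by
    refine planar_of_special m hg (hs1.mono (by simp)) ⟨ha0, hIa0⟩ ⟨ha1, hIa1⟩ ⟨ha2, hIa2⟩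
      ⟨ha3, hIa3⟩ ?_
    exact ho.sublist (List.sublist_append_left [a0, a1, a2, a3] [a4, a5, a6, a7])
  have hp2 : Planar a4 a5 a6 a7 := planar_complement
    (by simp [ha0, ha1, ha2, ha3, ha4, ha5, ha6, ha7]) ho hp1
  have hs3 := special_of_planar m hg (q1 := T (some 4)) (q2 := T (some 5)) (q3 := T (some 6))
    (q4 := T (some 7)) (by
      simp only [List.mem_cons, List.not_mem_nil, or_false, forall_eq_or_imp, forall_eq]
      exact ⟨(hFτ _ _ g (by decide) hg).2.2, (hFτ _ _ g (by decide) hg).2.2,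
        (hFτ _ _ g (by decide) hg).2.2, (hFτ _ _ g (by decide) hg).2.2⟩)
    ⟨ha4, hIa4⟩ ⟨ha5, hIa5⟩ ⟨ha6, hIa6⟩ ⟨ha7, hIa7⟩
    (ho.sublist (List.sublist_append_right [a0, a1, a2, a3] [a4, a5, a6, a7])) hp2
  -- the view from the fifth reflection
  obtain ⟨k, hk⟩ := isConj_iff.1 (hTconj (some 4))
  have R4 : ∀ q, some (4 : Fin 8) ≠ q → ∃ a ∈ rootSet, m.Ind (k⁻¹ * T q * k) (refl a) :=
    fun q hq => hview _ q k hq hk
  obtain ⟨b0, hb0, hIb0⟩ := R4 none (by decide)
  obtain ⟨c0, hc0, hIc0⟩ := R4 (some 0) (by decide)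
  obtain ⟨b5, hb5, hIb5⟩ := R4 (some 5) (by decide)
  obtain ⟨b6, hb6, hIb6⟩ := R4 (some 6) (by decide)
  obtain ⟨b7, hb7, hIb7⟩ := R4 (some 7) (by decide)
  have o56 := horth _ _ _ k _ _ (by decide) (by decide) (by decide) hk hb5 hb6 hIb5 hIb6
  have o57 := horth _ _ _ k _ _ (by decide) (by decide) (by decide) hk hb5 hb7 hIb5 hIb7
  have o67 := horth _ _ _ k _ _ (by decide) (by decide) (by decide) hk hb6 hb7 hIb6 hIb7
  have o50 := horth _ _ _ k _ _ (by decide) (by decide) (by decide) hk hb5 hb0 hIb5 hIb0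
  have o60 := horth _ _ _ k _ _ (by decide) (by decide) (by decide) hk hb6 hb0 hIb6 hIb0
  have o70 := horth _ _ _ k _ _ (by decide) (by decide) (by decide) hk hb7 hb0 hIb7 hIb0
  have p50 := horth _ _ _ k _ _ (by decide) (by decide) (by decide) hk hb5 hc0 hIb5 hIc0
  have p60 := horth _ _ _ k _ _ (by decide) (by decide) (by decide) hk hb6 hc0 hIb6 hIc0
  have p70 := horth _ _ _ k _ _ (by decide) (by decide) (by decide) hk hb7 hc0 hIb7 hIc0
  have hbc := horth _ _ _ k _ _ (by decide) (by decide) (by decide) hk hb0 hc0 hIb0 hIc0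
  have hq1 : Planar b5 b6 b7 b0 := planar_of_special m hk
    (hs2.mono (by
      simp only [List.mem_cons, List.not_mem_nil, or_false]
      rintro q (h | h | h | h | h) <;> simp [h]))
    ⟨hb5, hIb5⟩ ⟨hb6, hIb6⟩ ⟨hb7, hIb7⟩ ⟨hb0, hIb0⟩ (by simp [o56, o57, o67, o50, o60, o70])
  have hq2 : Planar b5 b6 b7 c0 := planar_of_special m hk
    (hs3.mono (by
      simp only [List.mem_cons, List.not_mem_nil, or_false]
      rintro q (h | h | h | h | h) <;> simp [h]))
    ⟨hb5, hIb5⟩ ⟨hb6, hIb6⟩ ⟨hb7, hIb7⟩ ⟨hc0, hIc0⟩ (by simp [o56, o57, o67, p50, p60, p70])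
  rcases planar_unique (by simp [hb5, hb6, hb7, hb0, hc0])
    (by simp [Orth, o56, o57, o67, o50, o60, o70]) (by simp [Orth, o56, o57, o67, p50, p60, p70]) hq1 hq2
    with e | e
  · rw [e, dot_self hb0] at hbc; exact absurd hbc (by decide)
  · rw [e, dotProduct_neg, dot_self hb0] at hbc; exact absurd hbc (by decide)

end CfsgLib.StdForm.OmegaEight
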