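import Cfsg.Agent.Lib.StdForm.OmegaEight.Inner

/-!
The classes with a two-dimensional or three-dimensional `-1` space and the two classes with a
four-dimensional one are not fused to the centre.
-/

set_option autoImplicit false

open Subgroup
open scoped Matrix commutatorElement

namespace CfsgLib.StdForm.OmegaEight

local notation "Mat8" => Matrix (Fin 8) (Fin 8) (ZMod 3)

universe u

variable {G : Type u} [Group G] [Finite G] {A : Subgroup G} {z : G}

theorem inner_mem (m : Mdl A z) {w : G} (hw : Fused A z w) {X : GL8} (hX : X ∈ W1)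
    (hsq : X * X = 1) (hI : m.Ind w X) : w ∈ A := by
  have hwN := hw.2.2
  obtain ⟨a, ha, hael⟩ := m.exists_el hX
  have hIa : m.Ind (a : G) X := hael ▸ m.ind_el hX
  have h1 := m.ind_mul hwN (m.ind_inv (le_normalizer a.2) hIa) hI
  rw [inv_mul_cancel] at h1
  have hk := (m.eq_of_ind_one (Or.inl h1)).resolve_right fun hn =>
    hn (mul_mem (inv_mem (le_normalizer a.2)) hwN)
  have hc : Commute (a : G) ((a : G)⁻¹ * w) := mem_centralizer_iff.1 hk _ a.2
  have hkk : (a : G)⁻¹ * w * ((a : G)⁻¹ * w) = 1 := by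
    have h2 : (a : G) * a = 1 := by
      rw [← hael, ← m.el_mul hX hX, hsq, m.el_one]
    have h3 : (a : G) * ((a : G)⁻¹ * w) * ((a : G) * ((a : G)⁻¹ * w)) = 1 := by
      rw [mul_inv_cancel_left]; exact hw.sq m.setup
    rwa [hc.symm.mul_mul_mul_comm, h2, one_mul] at h3
  rcases m.setup.eq_of_sq hk hkk with h | h
  · rw [← inv_mul_eq_one.1 h]; exact a.2
  · rw [inv_mul_eq_iff_eq_mul.1 h]; exact mul_mem a.2 m.setup.hzA

theorem Mdl.el_conj (m : Mdl A z) {c X : GL8} (hc : c ∈ W1) (hX : X ∈ W1) :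
    m.el (c * X * c⁻¹) = m.el c * m.el X * (m.el c)⁻¹ := by
  rw [m.el_mul (mul_mem hc hX) (inv_mem hc), m.el_mul hc hX, m.el_inv hc]

theorem tri_comm : ∀ S ∈ [({1, 2, 4, 7} : Finset (Fin 8)), {4, 5, 6, 7}], ∃ a b c d : GL8,
    (a ∈ W1 ∧ b ∈ W1 ∧ c ∈ W1 ∧ d ∈ W1) ∧ (a * dg {0, 1, 2} = dg {0, 1, 2} * a ∧
      b * dg {0, 1, 2} = dg {0, 1, 2} * b ∧ c * dg {0, 1, 2} = dg {0, 1, 2} * c ∧
      d * dg {0, 1, 2} = dg {0, 1, 2} * d) ∧ ⁅⁅a, b⁆, ⁅c, d⁆⁆ = dg S := by
  intro S hS
  simp only [List.mem_cons, List.not_mem_nil, or_false] at hS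
  rcases hS with rfl | rfl
  · obtain ⟨a, b, c, d, h1, h2, h3, h4, k1, k2, k3, k4, e⟩ := tri_comm_1247
    exact ⟨a, b, c, d, ⟨h1, h2, h3, h4⟩, ⟨k1.eq, k2.eq, k3.eq, k4.eq⟩, e⟩
  · obtain ⟨a, b, c, d, h1, h2, h3, h4, k1, k2, k3, k4, e⟩ := tri_comm_4567
    exact ⟨a, b, c, d, ⟨h1, h2, h3, h4⟩, ⟨k1.eq, k2.eq, k3.eq, k4.eq⟩, e⟩

theorem four_pair : ∀ D ∈ [dg {0, 1, 2, 3}, dg {0, 1, 2, 4}], ∃ c ∈ W1, ∃ c' ∈ W1,
    D * (c * D * c⁻¹) = c * D * c⁻¹ * D ∧ c' * (D * (c * D * c⁻¹)) * c'⁻¹ = dg {0, 1} := by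
  intro D hD
  simp only [List.mem_cons, List.not_mem_nil, or_false] at hD
  rcases hD with rfl | rfl
  · obtain ⟨c, hc, c', hc', h, h'⟩ := Dp_prod
    exact ⟨c, hc, c', hc', h.eq, h'⟩
  · obtain ⟨c, hc, c', hc', h, h'⟩ := Dn_prod
    exact ⟨c, hc, c', hc', h.eq, h'⟩

/-- The class with a two-dimensional `-1` space is not fused. -/
theorem no_two (m : Mdl A z) {u : G} (hu : Fused A z u) (e : u = m.el (dg {0, 1})) : False := by
  obtain ⟨P, hPW, hPp, hfix, huP, -, -, h24, -, -, hU2, -⟩ := six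
  obtain ⟨P5, h5W, h5ne, h5p, h5fix, h5U⟩ := five
  obtain ⟨c1, hc1, hc1U⟩ := U2_conj
  obtain ⟨c2, hc2, hc2U⟩ := kU_conj
  obtain ⟨g, hg⟩ := isConj_iff.1 hu.1
  have hv := fused_partner m.setup (g := g) (hg.symm ▸ hu)
  have hIu : m.Ind u (dg {0, 1}) := by rw [e]; exact m.ind_el two_mem_W1
  have hk : ∀ X ∈ P, X * dg {0, 1} = dg {0, 1} * X := fun X hX =>
    commute_two_of_fix (W1_le_W (hPW hX)) (hfix X hX).1 (hfix X hX).2
  have hk5 : ∀ X ∈ P5, X * dg {0, 1} = dg {0, 1} * X := fun X hX =>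
    commute_two_of_fix (W1_le_W (h5W hX)) (h5fix X hX).1 (h5fix X hX).2
  have hQu := m.commute_pull hu.2.2 hIu hk
  have hQp : PerfectInv (m.pull P) := m.pull_perfect hPW hPp
  have hQA : tau g (m.pull P) ≤ A := tau_le m hg hQp hQu
  have hQz : ∀ (R : Subgroup GL8), ∀ x ∈ m.pull R, x * z = z * x := fun R x hx =>
    (mem_normalizer_iff_commute m.setup).1 (le_normalizer (m.pull_le R hx))
  have hv' := tau_commute (g := g) (hQz P)
  have huzQ : z * (g⁻¹ * z * g) ∈ tau g (m.pull P) := by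
    have h1 := mem_tau (g := g) (m.el_mem_pull hPW huP)
    rw [m.el_neg two_mem_W1, ← e] at h1
    have h2 : g⁻¹ * (z * u) * g = z * (g⁻¹ * z * g) := by
      have hcomm : Commute (g⁻¹ * z * g) z := ((mem_normalizer_iff_commute m.setup).1 hv.2.2)
      rw [← hcomm.eq, ← hg]; group
    rwa [h2] at h1
  have hvA : g⁻¹ * z * g ∈ A := by
    have := mul_mem (inv_mem m.setup.hzA) (hQA huzQ)
    rwa [inv_mul_cancel_left] at this
  obtain ⟨c, hc, X, hX, hX'⟩ := m.cases_mem hv hvA
  set m' := m.conj c hc with hm'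
  have hX1 : X = dg {0, 1} ∧ g⁻¹ * z * g = m'.el X := by
    have hXW : X ∈ W1 := by
      simp only [List.mem_cons, List.not_mem_nil, or_false] at hX
      rcases hX with rfl | rfl | rfl <;> exact dg_mem_W1 (by decide)
    have hI' : m'.Ind (g⁻¹ * z * g) X := by
      rcases hX' with h | h <;> rw [h]
      · exact m'.ind_el hXW
      · have h1 := m'.ind_neg (m'.ind_el (m'.neg_mem hXW))
        rwa [neg_neg] at h1
    simp only [List.mem_cons, List.not_mem_nil, or_false] at hX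
    rcases hX with rfl | rfl | rfl
    · exact ⟨rfl, hX'.resolve_right fun h => no_six m' hv h⟩
    all_goals
      exfalso
      have hb := fix_bot (fun x hx => W1_le_W (m'.push_le _ hx))
        (m'.push_perfect hQA (perfectInv_map _ hQp)).1 (by simp) (m'.push_commute hI' hv')
      refine m'.push_ne_bot hQA (fun hbot => hv.2.1 ?_) hb
      have h1 := mem_bot.1 (hbot ▸ huzQ)
      rw [eq_inv_of_mul_eq_one_right h1, inv_eq_of_mul_eq_one_right m.setup.sq_eq]
  obtain ⟨rfl, hvel⟩ := hX1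
  have hIv : m'.Ind (g⁻¹ * z * g) (dg {0, 1}) := by rw [hvel]; exact m'.ind_el two_mem_W1
  -- the second element of the class and their product
  have hU2W : U2 ∈ W1 := by
    rw [U2]; exact prodRefl_mem_W1 (by decide +kernel) ⟨1, rfl⟩
  set u' := m.el U2 with hu'
  have hu'F : Fused A z u' := by
    have h1 := hu.conj m.setup (m.el_mem_normalizer c1⁻¹)
    rwa [e, ← m.el_conj (inv_mem hc1) two_mem_W1, ← hc1U,
      show c1⁻¹ * (c1 * U2 * c1⁻¹) * c1⁻¹⁻¹ = U2 by group] at h1
  have huu'F : Fused A z (u * u') := by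
    have h1 := hu.conj m.setup (m.el_mem_normalizer c2⁻¹)
    rw [e, ← m.el_conj (inv_mem hc2) two_mem_W1, ← hc2U,
      show c2⁻¹ * (c2 * (dg {0, 1} * U2) * c2⁻¹) * c2⁻¹⁻¹ = dg {0, 1} * U2 by group,
      m.el_mul two_mem_W1 hU2W, ← e] at h1
    exact h1
  have hu'c : u' * u = u * u' := by
    have h1 : Commute u u' := by
      rw [commute_iff_eq]
      have h2 := huu'F.sq m.setup
      calc u * u' = (u * u') * (u * u' * (u * u'))⁻¹ := by rw [h2, inv_one, mul_one]
        _ = u'⁻¹ * u⁻¹ := by group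
        _ = u' * u := by
          rw [inv_eq_of_mul_eq_one_right (hu'F.sq m.setup), inv_eq_of_mul_eq_one_right (hu.sq m.setup)]
    exact h1.eq.symm
  set z' := g⁻¹ * u' * g with hz'
  have hz'F : Fused A z z' := by
    refine fused_pull m.setup hg hu'F.1 (fun h => huu'F.ne_one m.setup ?_) hu'c
    rw [h, hu.sq m.setup]
  have hzz'F : Fused A z (z * z') := by
    have h1 := fused_pull m.setup (g := g) (u := u) (w := u * u') hg huu'F.1
      (fun h => hu'F.ne_one m.setup (mul_eq_left.1 h))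
      (by rw [mul_assoc, hu'c])
    rwa [show g⁻¹ * (u * u') * g = z * z' by rw [hz', ← hg]; group] at h1
  have hQ5p : PerfectInv (m.pull P5) := m.pull_perfect h5W h5p
  have hQ5A : tau g (m.pull P5) ≤ A := tau_le m hg hQ5p (m.commute_pull hu.2.2 hIu hk5)
  have h5z' := tau_commute (g := g)
    (m.commute_pull hu'F.2.2 (m.ind_el hU2W) h5U)
  have h5v := tau_commute (g := g) (hQz P5)
  have h5ne' : tau g (m.pull P5) ≠ ⊥ := tau_ne_bot (m.pull_ne_bot h5W h5ne)
  obtain ⟨d, hdW, Y, hY, hIY⟩ := m'.cases hz'F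
  set m'' := m'.conj d hdW
  have hbot : ∀ Z ∈ [dg {0, 1, 2}, dg {0, 1, 2, 3}, dg {0, 1, 2, 4}], ∀ M ∈ W, ∀ n : Mdl A z,
      (∀ X ∈ n.push (tau g (m.pull P5)), X * (M * Z * M⁻¹) = M * Z * M⁻¹ * X) → False := by
    intro Z hZ M hM n hcomm
    have hq := perfectInv_map (MulAut.conj M⁻¹).toMonoidHom
      (n.push_perfect hQ5A (perfectInv_map _ hQ5p))
    refine n.push_ne_bot hQ5A h5ne' ((map_eq_bot_iff_of_injective _ (MulAut.conj M⁻¹).injective).1
      (fix_bot ?_ hq.1 hZ ?_))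
    · rintro _ ⟨x, hx, rfl⟩
      exact mul_mem (mul_mem (inv_mem hM) (W1_le_W (n.push_le _ hx))) (inv_mem (inv_mem hM))
    · rintro _ ⟨x, hx, rfl⟩
      show M⁻¹ * x * M⁻¹⁻¹ * Z = Z * (M⁻¹ * x * M⁻¹⁻¹)
      rw [inv_inv]
      calc M⁻¹ * x * M * Z = M⁻¹ * (x * (M * Z * M⁻¹)) * M := by group
        _ = M⁻¹ * (M * Z * M⁻¹ * x) * M := by rw [hcomm x hx]
        _ = Z * (M⁻¹ * x * M) := by group
  have hIY' : ∀ X ∈ m''.push (tau g (m.pull P5)), X * Y = Y * X := m''.push_commute hIY h5z'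
  rcases mem_reps hY with rfl | rfl | rfl | rfl | rfl | rfl
  · -- a reflection
    set a : Vec := ((d⁻¹ : GL8) : Mat8) *ᵥ ee 0 with ha
    have haR : a ∈ rootSet := map_root (inv_mem hdW) (ee_mem 0)
    have hM : d⁻¹ * dg {0} * d⁻¹⁻¹ = refl a := by
      rw [← refl_ee, refl_conj (inv_mem hdW) (ee_mem 0)]
    have hIa : m'.Ind z' (refl a) := by
      rw [← hM, ← m'.conj_ind hdW]
      convert hIY using 2
      group
    have hva : refl a * dg {0, 1} = dg {0, 1} * refl a := by
      have hz'v : z' * (g⁻¹ * z * g) = g⁻¹ * z * g * z' := by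
        calc g⁻¹ * u' * g * (g⁻¹ * z * g) = g⁻¹ * (u' * z) * g := by group
          _ = g⁻¹ * (z * u') * g := by rw [(mem_normalizer_iff_commute m.setup).1 hu'F.2.2]
          _ = g⁻¹ * z * g * (g⁻¹ * u' * g) := by group
      obtain ⟨b, hb, hbel⟩ := m'.exists_el two_mem_W1
      have := m'.φ_commute hIa (a := b) (by rw [← hbel, ← hvel]; exact hz'v)
      rw [hb] at this
      exact this.symm
    by_cases htr : (((dg {0, 1} : GL8) : Mat8) * (refl a : GL8)).trace = 2
    · set T := dg {0, 1} * refl a with hT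
      have hTW : T ∈ W := mul_mem (dg_mem _) (refl_mem haR)
      have hTsq : T * T = 1 := by
        rw [hT, mul_assoc, ← mul_assoc (refl a), hva, mul_assoc, refl_mul_self, mul_one, dg_sq]
      have hTdet : ((T : GL8) : Mat8).det = -1 := by
        rw [hT, Units.val_mul, Matrix.det_mul, det_dg, det_refl (dot_self haR)]
        decide
      have hTtr : ((T : GL8) : Mat8).trace = 2 := by rw [hT, Units.val_mul]; exact htr
      rcases classify m.card_W1 hTW (Or.inl hTsq) with h | h | ⟨c', hc', X, hX, h⟩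
      · rw [h] at hTdet; simp at hTdet; exact absurd hTdet (by decide)
      · rw [h, det_neg'] at hTdet; simp at hTdet; exact absurd hTdet (by decide)
      · have h1 : ((X : GL8) : Mat8).det = -1 ∧
            (((X : GL8) : Mat8).trace = 2 ∧ c' * T * c'⁻¹ = X ∨ ((X : GL8) : Mat8).trace = 1) := by
          rcases h with h | h
          · refine ⟨?_, Or.inl ⟨?_, h⟩⟩
            · rw [← h, det_conj, hTdet]
            · rw [← h, trace_conj, hTtr]
          · have h2 : X = -(c' * T * c'⁻¹) := by rw [h, neg_neg]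
            refine ⟨?_, Or.inr ?_⟩
            · rw [h2, det_neg', det_conj, hTdet]
            · rw [h2, Units.val_neg, Matrix.trace_neg, trace_conj, hTtr]; decide
        obtain ⟨t1, t2, t3, t4, t5⟩ := trace_facts
        rcases mem_reps hX with rfl | rfl | rfl | rfl | rfl | rfl
        · rw [t3] at h1
          rcases h1.2 with ⟨h2, -⟩ | h2 <;> exact absurd h2 (by decide)
        · rw [det_dg] at h1; exact absurd h1.1 (by decide)
        · rw [t2] at h1
          have h3 := (h1.2.resolve_right (by decide)).2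
          refine hbot (dg {0, 1, 2}) (by simp) c'⁻¹ (inv_mem hc') m' ?_
          rw [show c'⁻¹ * dg {0, 1, 2} * c'⁻¹⁻¹ = T by rw [← h3]; group]
          intro x hx
          have hx1 := m'.push_commute hIv h5v x hx
          have hx2 := m'.push_commute hIa h5z' x hx
          rw [hT, ← mul_assoc, hx1, mul_assoc, hx2, mul_assoc]
        · rw [det_dg] at h1; exact absurd h1.1 (by decide)
        · rw [det_dg] at h1; exact absurd h1.1 (by decide)
        · rw [det_W1 rotJ_facts.1] at h1; exact absurd h1.1 (by decide)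
    · -- the root lies in the plane of the pair
      have ha' : a = ee 0 ∨ a = -ee 0 ∨ a = ee 1 ∨ a = -ee 1 := by
        rcases root_pair haR hva with h | h | h | h | h
        · exact Or.inl h
        · exact Or.inr (Or.inl h)
        · exact Or.inr (Or.inr (Or.inl h))
        · exact Or.inr (Or.inr (Or.inr h))
        · exact absurd h htr
      have hp := m'.push_perfect hQA (perfectInv_map _ hQp)
      have hf := fix_two (fun x hx => W1_le_W (m'.push_le _ hx)) hp.1 (m'.push_commute hIv hv')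
      have hcz : ∀ y ∈ tau g (m.pull P), y * z' = z' * y := by
        intro y hy
        obtain ⟨b, rfl⟩ : ∃ b : ↥A, (b : G) = y := ⟨⟨y, hQA hy⟩, rfl⟩
        have hb := hf _ (m'.mem_push hy)
        have hc1 : m'.φ b * refl a = refl a * m'.φ b := by
          refine commute_refl_of_fix (W1_le_W (m'.φ_mem b)) haR ?_
          rcases ha' with h | h | h | h <;> rw [h]
          · exact hb.1
          · unfold Fix at hb ⊢; rw [Matrix.mulVec_neg, hb.1]
          · exact hb.2
          · unfold Fix at hb ⊢; rw [Matrix.mulVec_neg, hb.2]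
        have := m'.commute_el hz'F.2.2 hIa (m'.φ_mem b) hc1
        rw [m'.el_coe] at this
        exact this.symm
      apply hU2
      refine m.el_inj (mul_mem hU2W (hPW h24)) (mul_mem (hPW h24) hU2W) ?_
      rw [m.el_mul hU2W (hPW h24), m.el_mul (hPW h24) hU2W, ← hu']
      have h1 := hcz _ (mem_tau (g := g) (m.el_mem_pull hPW h24))
      rw [hz'] at h1
      calc u' * m.el (dg {2, 4}) =
          g * (g⁻¹ * u' * g * (g⁻¹ * m.el (dg {2, 4}) * g)) * g⁻¹ := by group
        _ = g * (g⁻¹ * m.el (dg {2, 4}) * g * (g⁻¹ * u' * g)) * g⁻¹ := by rw [h1]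
        _ = m.el (dg {2, 4}) * u' := by group
  · -- the image has a two-dimensional or six-dimensional `-1` space
    have hzA : z' ∈ A := inner_mem m'' hz'F two_mem_W1 (dg_sq _) hIY
    obtain ⟨b, hb⟩ : ∃ b : ↥A, (b : G) = z' := ⟨⟨z', hzA⟩, rfl⟩
    rw [← hb] at hIY
    rcases m''.eq_of_ind (dg_mem _) hIY with h | h
    · refine no_six m'' hzz'F ?_
      rw [m''.el_neg two_mem_W1, ← h, m''.el_coe, hb]
    · refine no_six m'' hz'F ?_
      rw [← h, m''.el_coe, hb]
  · exact hbot (dg {0, 1, 2}) (by simp) 1 (one_mem _) m'' (by simpa using hIY')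
  · exact hbot (dg {0, 1, 2, 3}) (by simp) 1 (one_mem _) m'' (by simpa using hIY')
  · exact hbot (dg {0, 1, 2, 4}) (by simp) 1 (one_mem _) m'' (by simpa using hIY')
  · exact no_rot m'' hz'F hIY

/-- A fused element of `A` has trace zero and is conjugate to its product with `z`. -/
theorem mem_four (m : Mdl A z) {a : ↥A} (hw : Fused A z (a : G)) :
    ((m.φ a : GL8) : Mat8).trace = 0 ∧ IsConj (a : G) (z * a) := by
  obtain ⟨c, hc, X, hX, hX'⟩ := m.cases_mem hw a.2
  set m' := m.conj c hc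
  obtain ⟨t1, t2, t3, t4, t5⟩ := trace_facts
  have key : ∀ D, D ∈ W1 → ((D : GL8) : Mat8).trace = 0 →
      (∃ k ∈ W1, k * (-D) * k⁻¹ = D) → ((a : G) = m'.el D ∨ (a : G) = m'.el (-D)) →
      ((m.φ a : GL8) : Mat8).trace = 0 ∧ IsConj (a : G) (z * a) := by
    intro D hD htr hk hor
    obtain ⟨k, hk1, hk2⟩ := hk
    have hel : m'.el D = m'.el k * m'.el (-D) * (m'.el k)⁻¹ := by
      rw [← m'.el_conj hk1 (m'.neg_mem hD), hk2]
    have hphi : m'.φ a = D ∨ m'.φ a = -D := by
      rcases hor with h | h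
      · obtain ⟨b, hb, hbel⟩ := m'.exists_el hD
        rw [show a = b from Subtype.ext (h.trans hbel)]; exact Or.inl hb
      · obtain ⟨b, hb, hbel⟩ := m'.exists_el (m'.neg_mem hD)
        rw [show a = b from Subtype.ext (h.trans hbel)]; exact Or.inr hb
    refine ⟨?_, ?_⟩
    · have h1 : ((m'.φ a : GL8) : Mat8).trace = 0 := by
        rcases hphi with h | h <;> rw [h]
        · exact htr
        · rw [Units.val_neg, Matrix.trace_neg, htr, neg_zero]
      rwa [← trace_conj c (m.φ a)]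
    · rcases hor with h | h
      · rw [h, ← m'.el_neg hD]
        exact isConj_iff.2 ⟨(m'.el k)⁻¹, by rw [hel]; group⟩
      · rw [h, m'.el_neg hD, ← mul_assoc, m.setup.sq_eq, one_mul, ← m'.el_neg hD]
        exact isConj_iff.2 ⟨m'.el k, hel.symm⟩
  simp only [List.mem_cons, List.not_mem_nil, or_false] at hX
  rcases hX with rfl | rfl | rfl
  · rcases hX' with h | h
    · exact (no_two m' hw h).elim
    · exact (no_six m' hw h).elim
  · exact key _ (dg_mem_W1 (by decide)) t4 negDp_conj hX'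
  · exact key _ (dg_mem_W1 (by decide)) t5 negDn_conj hX'

theorem tri_products : dg {0, 4, 7} * dg {0, 1, 2} = dg {1, 2, 4, 7} ∧
    dg {0, 1, 2} * dg {4, 5, 6, 7} = -dg {3} ∧
    dg {1, 2, 4, 7} * dg {0, 1, 2} = dg {0, 1, 2} * dg {1, 2, 4, 7} ∧
    dg {4, 5, 6, 7} * dg {0, 1, 2} = dg {0, 1, 2} * dg {4, 5, 6, 7} := by
  decide +kernel

/-- The outer class with a three-dimensional `-1` space is not fused, given that the reflections
are not. -/
theorem no_tri (hrefl : ∀ (n : Mdl A z) (w : G), Fused A z w → n.Ind w (dg {0}) → False)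
    (m : Mdl A z) {u : G} (hu : Fused A z u) (hI : m.Ind u (dg {0, 1, 2})) : False := by
  obtain ⟨g, hg⟩ := isConj_iff.1 hu.1
  obtain ⟨c, hc, hcc⟩ := tri_conj
  obtain ⟨p1, p2, p3, p4⟩ := tri_products
  have hW : ∀ S ∈ [({1, 2, 4, 7} : Finset (Fin 8)), {4, 5, 6, 7}], dg S ∈ W1 := by
    intro S hS
    simp only [List.mem_cons, List.not_mem_nil, or_false] at hS
    rcases hS with rfl | rfl <;> exact dg_mem_W1 (by decide)
  -- elements which are double commutators in `C(u)` are mapped into `A`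
  have hmap : ∀ S ∈ [({1, 2, 4, 7} : Finset (Fin 8)), {4, 5, 6, 7}],
      g⁻¹ * m.el (dg S) * g ∈ A := by
    intro S hS
    obtain ⟨a, b, c', d, ⟨ha, hb, hc', hd⟩, ⟨ca, cb, cc, cd⟩, he⟩ := tri_comm S hS
    let f : G →* G := (MulAut.conj g⁻¹).toMonoidHom
    have hf : ∀ x : G, f x = g⁻¹ * x * g := fun x => by simp [f, MulAut.conj_apply]
    have hN : ∀ X, X ∈ W1 → X * dg {0, 1, 2} = dg {0, 1, 2} * X →
        f (m.el X) ∈ normalizer (A : Set G) := by
      intro X hX hcX
      rw [hf]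
      exact pull_mem_normalizer m.setup hg (m.commute_el hu.2.2 hI hX hcX).symm
    have hcom : ∀ X Y : GL8, X ∈ W1 → Y ∈ W1 → m.el ⁅X, Y⁆ = ⁅m.el X, m.el Y⁆ ∧ ⁅X, Y⁆ ∈ W1 := by
      intro X Y hX hY
      refine ⟨?_, ?_⟩
      · rw [commutatorElement_def, commutatorElement_def,
          m.el_mul (mul_mem (mul_mem hX hY) (inv_mem hX)) (inv_mem hY),
          m.el_mul (mul_mem hX hY) (inv_mem hX), m.el_mul hX hY, m.el_inv hX, m.el_inv hY]
      · rw [commutatorElement_def]
        exact mul_mem (mul_mem (mul_mem hX hY) (inv_mem hX)) (inv_mem hY)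
    rw [← hf]
    refine two_mem m.setup m.hder (k := 1) ?_ ?_
    · rw [← he, (hcom _ _ (hcom a b ha hb).2 (hcom c' d hc' hd).2).1, (hcom a b ha hb).1,
        (hcom c' d hc' hd).1, map_commutatorElement, map_commutatorElement, map_commutatorElement]
      exact commutator_mem_commutator (commutator_mem_commutator (hN a ha ca) (hN b hb cb))
        (commutator_mem_commutator (hN c' hc' cc) (hN d hd cd))
    · rw [pow_one, pow_two, ← map_mul, ← m.el_mul (hW S hS) (hW S hS), dg_sq, m.el_one, map_one]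
  set e := m.el (dg {1, 2, 4, 7}) with he
  set d := m.el (dg {4, 5, 6, 7}) with hd
  have hue : e * u = u * e := (m.commute_el hu.2.2 hI (hW _ (by simp)) p3).symm
  have hud : d * u = u * d := (m.commute_el hu.2.2 hI (hW _ (by simp)) p4).symm
  have hnA : u ∉ A := fun huA => by
    obtain ⟨b, rfl⟩ : ∃ b : ↥A, (b : G) = u := ⟨⟨u, huA⟩, rfl⟩
    have h1 := det_W1 (m.φ_mem b)
    rcases m.eq_of_ind (dg_mem _) hI with h | h <;> rw [h] at h1
    · rw [det_dg] at h1; exact absurd h1 (by decide)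
    · rw [det_neg', det_dg] at h1; exact absurd h1 (by decide)
  -- the conjugate `e * u` of `u`
  have heu : Fused A z (e * u) := by
    have h1 := hu.conj m.setup (m.el_mem_normalizer c)
    obtain ⟨a₀, ha₀, hael⟩ := m.exists_el hc
    let a' : ↥A := ⟨u * ((a₀⁻¹ : ↥A) : G) * u⁻¹, (mem_normalizer_iff.1 hu.2.2 _).1 (a₀⁻¹).2⟩
    have ha' : m.φ a' = dg {0, 1, 2} * c⁻¹ * (dg {0, 1, 2})⁻¹ := by
      rw [hI a₀⁻¹ a' rfl, map_inv, ha₀]
    have hb : m.φ (a₀ * a') = dg {1, 2, 4, 7} := by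
      rw [map_mul, ha₀, ha', ← p1, ← hcc, inv_eq_of_mul_eq_one_right (dg_sq {0, 1, 2})]
      group
    have hb' : ((a₀ * a' : ↥A) : G) = e := by rw [← m.el_coe (a₀ * a'), hb]
    convert h1 using 1
    rw [← hb', hael]
    show (a₀ : G) * (u * (a₀ : G)⁻¹ * u⁻¹) * u = (a₀ : G) * u * (a₀ : G)⁻¹
    group
  have hzA : ∀ x ∈ A, z * x = x * z := fun x hx => (mem_centralizer_iff.1 m.setup.hzC x hx).symm
  have heA : g⁻¹ * e * g ∈ A := hmap _ (by simp)
  have hdA : g⁻¹ * d * g ∈ A := hmap _ (by simp)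
  have hne : e * u ≠ u := fun h => by
    have h1 : e = 1 := mul_eq_right.1 h
    have h2 := m.el_inj (hW _ (by simp)) (one_mem _) (h1.trans m.el_one.symm)
    exact absurd h2 (by decide +kernel)
  have hF := fused_pull m.setup hg heu.1 hne (by rw [← mul_assoc u e u, ← hue])
  have hsplit : g⁻¹ * (e * u) * g = g⁻¹ * e * g * z := by rw [← hg]; group
  rw [hsplit] at hF
  have hze : IsConj z e := by
    have h1 := (mem_four m (a := ⟨_, mul_mem heA m.setup.hzA⟩) hF).2
    have h2 : z * (g⁻¹ * e * g * z) = g⁻¹ * e * g := by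
      rw [← mul_assoc, hzA _ heA, mul_assoc, m.setup.sq_eq, mul_one]
    simp only [h2] at h1
    exact (hF.1.trans h1).trans (isConj_iff.2 ⟨g, by group⟩)
  have hzd : IsConj z d := by
    obtain ⟨c3, hc3, hc3'⟩ := ed_conj
    refine hze.trans (isConj_iff.2 ⟨m.el c3, ?_⟩)
    rw [hd, ← hc3', m.el_conj hc3 (hW _ (by simp))]
  have hFd := fused_pull m.setup hg hzd (fun h => hnA (h ▸ m.el_mem _)) hud
  have h1 := (mem_four m (a := ⟨_, hdA⟩) hFd).2
  have h2 : z * (g⁻¹ * d * g) = g⁻¹ * (u * d) * g := by rw [← hg]; group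
  simp only [h2] at h1
  have hudF : Fused A z (u * d) := by
    refine ⟨(hFd.1.trans h1).trans (isConj_iff.2 ⟨g, by group⟩), fun h => hnA ?_,
      mul_mem hu.2.2 (m.el_mem_normalizer _)⟩
    rw [eq_mul_inv_of_mul_eq h]
    exact mul_mem m.setup.hzA (inv_mem (m.el_mem _))
  obtain ⟨M, hM, hMe⟩ := exists_map (ee_mem 3)
  have hI3 : m.Ind (u * d) (dg {3}) := by
    have h3 := m.ind_neg (m.ind_mul (m.el_mem_normalizer _) hI (m.ind_el (hW _ (by simp :
      ({4, 5, 6, 7} : Finset (Fin 8)) ∈ _))))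
    rwa [p2, neg_neg] at h3
  have hMW : M⁻¹ ∈ W := inv_mem (W1_le_W hM)
  refine hrefl (m.conj M⁻¹ hMW) _ hudF ?_
  have h4 := (m.conj_ind hMW).2 hI3
  rwa [← refl_ee, ← hMe, ← refl_conj (W1_le_W hM) (ee_mem 0),
    show M⁻¹ * (M * refl (ee 0) * M⁻¹) * M⁻¹⁻¹ = refl (ee 0) by group, refl_ee] at h4

/-- The classes with a four-dimensional `-1` space are not fused, given that the outer classes are
not. -/
theorem no_four (hout : ∀ (n : Mdl A z) (w : G), Fused A z w →
      (n.Ind w (dg {0}) ∨ n.Ind w (dg {0, 1, 2})) → False)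
    (m : Mdl A z) {u : G} (hu : Fused A z u) {D : GL8}
    (hD : D ∈ [dg {0, 1, 2, 3}, dg {0, 1, 2, 4}]) (e : u = m.el D) : False := by
  obtain ⟨g, hg⟩ := isConj_iff.1 hu.1
  obtain ⟨c, hc, c', hc', hcomm, hprod⟩ := four_pair D hD
  have hDW : D ∈ W1 := by
    simp only [List.mem_cons, List.not_mem_nil, or_false] at hD
    rcases hD with rfl | rfl <;> exact dg_mem_W1 (by decide)
  have hyW : c * D * c⁻¹ ∈ W1 := mul_mem (mul_mem hc hDW) (inv_mem hc)
  set u' := m.el (c * D * c⁻¹) with hu'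
  have hu'F : Fused A z u' := by
    rw [hu', m.el_conj hc hDW, ← e]
    exact hu.conj m.setup (m.el_mem_normalizer c)
  have hcc : u' * u = u * u' := by rw [hu', e, ← m.el_mul hyW hDW, ← m.el_mul hDW hyW, hcomm]
  have hne : u' ≠ u := fun h => by
    have h1 := m.el_inj hyW hDW (h.trans e)
    rw [h1] at hprod
    have hsq : D * D = 1 := by
      simp only [List.mem_cons, List.not_mem_nil, or_false] at hD
      rcases hD with rfl | rfl <;> exact dg_sq _
    rw [hsq] at hprod
    simp at hprod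
    exact absurd hprod (by decide +kernel)
  have hF := fused_pull m.setup hg hu'F.1 hne hcc
  set z' := g⁻¹ * u' * g with hz'
  -- the image is of inner type
  have hzA : z' ∈ A := by
    obtain ⟨d, hd, X, hX, hI⟩ := m.cases hF
    set n := m.conj d hd
    rcases mem_reps hX with rfl | rfl | rfl | rfl | rfl | rfl
    · exact (hout n _ hF (Or.inl hI)).elim
    rotate_left
    · exact (hout n _ hF (Or.inr hI)).elim
    rotate_left
    rotate_left
    · exact (no_rot n hF hI).elim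
    all_goals exact inner_mem n hF (dg_mem_W1 (by decide)) (dg_sq _) hI
  have h1 := (mem_four m (a := ⟨z', hzA⟩) hF).2
  have h2 : z * z' = g⁻¹ * (u * u') * g := by rw [hz', ← hg]; group
  simp only [h2] at h1
  have h3 : IsConj z (u * u') := (hF.1.trans h1).trans (isConj_iff.2 ⟨g, by group⟩)
  have h4 : IsConj z (m.el (dg {0, 1})) := by
    refine h3.trans (isConj_iff.2 ⟨m.el c', ?_⟩)
    rw [hu', e, ← m.el_mul hDW hyW, ← m.el_conj hc' (mul_mem hDW hyW), hprod]
  refine no_two m ⟨h4, fun h => ?_, m.el_mem_normalizer _⟩ rfl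
  exact absurd (m.el_inj two_mem_W1 m.neg_one_mem_W1.1 (h.trans m.el_neg_one.symm)) (by decide +kernel)

end CfsgLib.StdForm.OmegaEight
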