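import Cfsg.Agent.Lib.Schur.D4Two.Main

/-!
The presentation of `POmega8+(2)` by the tables of `D4`.
-/

set_option autoImplicit false
set_option linter.unusedSectionVars false
set_option maxHeartbeats 400000

namespace CfsgLib.StdForm.OmegaEight.MatModel

open Subgroup CfsgLib.Schur.D4Two Cfsg.Lie
open scoped commutatorElement

universe u v

/-- The relations transport along an isomorphism. -/
theorem rels_map {n : ℕ} {T : Tab n} {G : Type u} {H : Type v} [Group G] [Group H]
    {x : Fin n → G} (R : Rels T x) (f : G →* H) : Rels T fun r => f (x r) where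
  sq r := by rw [← map_mul, R.sq, map_one]
  com r s a b c := by rw [← map_mul, R.com r s a b c, map_mul]
  sum r s w h := by rw [← map_commutatorElement, R.sum r s w h]

/-- The universal property holds in all universes for finite groups. -/
theorem presents_any {n : ℕ} {T : Tab n} {G : Type u} [Group G] {x : Fin n → G}
    (hP : Presents T x) {H : Type v} [Group H] [Finite H] {Y : Fin n → H} (RY : Rels T Y) :
    ∃ f : G →* H, ∀ r, f (x r) = Y r := by
  let e : Shrink.{u} H ≃* H := Shrink.mulEquiv
  obtain ⟨f, hf⟩ := hP.2 (Shrink.{u} H) _ (rels_map RY e.symm.toMonoidHom)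
  exact ⟨e.toMonoidHom.comp f, fun r => by simp [hf]⟩

variable {F : Type u} [Field F] [Fintype F]

theorem zero_or_one (hF : Fintype.card F = 2) (t : F) : t = 0 ∨ t = 1 := by
  classical
  by_contra h
  push Not at h
  have h3 : ({0, 1, t} : Finset F).card = 3 := by
    simp [h.1.symm, h.2.symm]
  have := Finset.card_le_univ ({0, 1, t} : Finset F)
  omega

/-- The system of involutions of the simple group. -/
theorem exists_system (hF : Fintype.card F = 2) :
    Finite (Cfsg.POmega F (Cfsg.quadFormPlus 4 F)) ∧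
      IsSimpleGroup (Cfsg.POmega F (Cfsg.quadFormPlus 4 F)) ∧
      commutator (Cfsg.POmega F (Cfsg.quadFormPlus 4 F)) = ⊤ ∧
      ∃ x : Fin 24 → Cfsg.POmega F (Cfsg.quadFormPlus 4 F), Rels tab x ∧ Presents tab x := by
  have h2 := zero_or_one hF
  have htwo : (1 : F) + 1 = 0 := by
    rcases h2 ((1 : F) + 1) with h | h
    · exact h
    · simp at h
  have hD : chevD4 ∈ [chevG2, chevB2, chevD4, chevF4, chevE6, chevE7, chevE8] := by simp
  obtain ⟨T, S⟩ := CfsgLib.Steinberg.exists_setup hD
  obtain ⟨θ, hs, -, hθ⟩ := (CfsgLib.Steinberg.coverSys F S).exists_toGroup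
    (CfsgLib.Steinberg.cover_top F)
  have hi : Function.Injective θ := by
    refine (injective_iff_map_eq_one θ).2 fun g hg => ?_
    have hm := (CfsgLib.Steinberg.coverSys F S).ker_le_hBar (CfsgLib.Steinberg.cover_top F)
      (g := g) (by rw [← hθ g, hg]; rfl)
    have hb : CfsgLib.Steinberg.hBar chevD4 (chevD4.scGen F) ≤ ⊥ := by
      rw [CfsgLib.Steinberg.hBar, closure_le]
      rintro y ⟨i, t, rfl⟩
      rw [show (t : F) = 1 from (h2 t).resolve_left t.ne_zero]
      exact Subgroup.mem_bot.2 ((CfsgLib.Steinberg.coverSys F S).hE_one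
        (CfsgLib.Chev.simple_lt S.checked i.2))
    exact Subgroup.mem_bot.1 (hb hm)
  let ψ0 : chevD4.SteinbergCover F ≃* ↥(chevD4.group F) := MulEquiv.ofBijective θ ⟨hi, hs⟩
  obtain ⟨e⟩ := CfsgLib.ChevClassical.D4.exists_equiv F
  have hperf : commutator ↥(chevD4.group F) = ⊤ := by
    rw [eq_top_iff, ← (map_top_of_surjective ψ0.toMonoidHom ψ0.surjective),
      ← closure_gen h2 htwo, MonoidHom.map_closure, closure_le]
    rintro _ ⟨_, ⟨v, rfl⟩, rfl⟩
    rw [← (gen_rels h2 htwo).sum _ _ _ (cert_ok.dec v), map_commutatorElement]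
    exact commutator_mem_commutator (mem_top _) (mem_top _)
  have := (CfsgLib.Chev.isSimple_group_of_perfect (F := F) hD hperf).1
  have hsimp : IsSimpleGroup (Cfsg.POmega F (Cfsg.quadFormPlus 4 F)) := by
    have := e.toEquiv.nontrivial_congr.1 inferInstance
    exact IsSimpleGroup.isSimpleGroup_of_surjective e.toMonoidHom e.surjective
  have hfin : Finite (Cfsg.POmega F (Cfsg.quadFormPlus 4 F)) := Finite.of_equiv _ e.toEquiv
  let ψ := ψ0.trans e
  have R := rels_map (gen_rels h2 htwo) ψ.toMonoidHom
  have hP : Presents tab fun r => ψ (gen F r) := by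
    refine ⟨?_, fun H _ Y RY => ?_⟩
    · rw [show Set.range (fun r => ψ (gen F r)) = ψ.toMonoidHom '' Set.range (gen F) by
          rw [← Set.range_comp]; rfl,
        ← MonoidHom.map_closure, closure_gen h2 htwo, Subgroup.map_top_of_surjective]
      exact ψ.surjective
    · obtain ⟨f, hf⟩ := gen_presents h2 htwo RY
      exact ⟨f.comp ψ.symm.toMonoidHom, fun r => by simp [hf]⟩
  exact ⟨hfin, hsimp, commutator_eq_top R hP cert_ok, _, R, hP⟩

end CfsgLib.StdForm.OmegaEight.MatModel
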