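import Cfsg.Agent.Lib.StdForm.OmegaEight.Model

/-!
The reflection normalising the matrix group and the centralizer of the matrix group.
-/

set_option autoImplicit false
set_option maxRecDepth 4000
set_option maxHeartbeats 400000

namespace CfsgLib.StdForm.OmegaEight.MatModel

open Subgroup CfsgLib.Schur.D4Two
open scoped commutatorElement

/-- The reflection, as a list. -/
def reflL : List (List ℕ) := [[1, 0, 0, 0, 0, 0, 0, 0], [0, 1, 0, 0, 0, 0, 0, 0], [0, 0, 1, 0, 0, 0, 0, 0], [0, 0, 0, 1, 0, 0, 0, 0], [0, 0, 0, 0, 1, 0, 0, 0], [0, 0, 0, 0, 0, 1, 0, 0], [0, 0, 0, 0, 0, 0, 1, 0], [0, 0, 0, 0, 0, 0, 1, 2]]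

theorem reflL_sq : mulL reflL reflL = oneL := by decide +kernel

theorem refl_sq : toMat reflL * toMat reflL = 1 := by
  rw [← toMat_mulL, reflL_sq, toMat_oneL]

/-- The reflection as a unit. -/
def reflU : Um := ⟨toMat reflL, toMat reflL, refl_sq, refl_sq⟩

/-- The words for the conjugates of the generators. -/
def reflWords : List (List (Fin 24)) := [[6, 17, 9, 14, 0, 14, 9, 17, 6], [9, 14, 0, 14, 9], [8, 15, 10, 0, 10, 15, 8], [7, 16, 10, 0, 10, 16, 7], [6, 17, 0, 17, 6], [0], [0, 23, 9, 14, 0, 14, 9, 23, 0], [0, 23, 8, 15, 10, 0, 10, 15, 8, 23, 0], [0, 23, 7, 16, 10, 0, 10, 16, 7, 23, 0], [0, 23, 6, 17, 0, 17, 6, 23, 0], [3, 20, 9, 14, 0, 14, 9, 20, 3], [2, 21, 9, 14, 0, 14, 9, 21, 2], [3, 20, 6, 17, 0, 17, 6, 20, 3], [2, 21, 6, 17, 0, 17, 6, 21, 2], [4, 19, 0, 19, 4], [3, 20, 10, 0, 10, 20, 3], [2, 21, 10, 0, 10, 21, 2], [1, 22, 0, 22, 1], [0, 23, 0, 23, 0], [4, 19, 6, 17, 0, 17, 6, 19, 4], [3, 20, 7, 16, 10, 0, 10, 16, 7, 20, 3],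 [2, 21, 8, 15, 10, 0, 10, 15, 8, 21, 2], [1, 22, 9, 14, 0, 14, 9, 22, 1], [1, 22, 4, 19, 0, 19, 4, 22, 1]]

/-- The product along a word. -/
def prodL (w : List (Fin 24)) : List (List ℕ) := w.foldl (fun P r => mulL P (matOf r)) oneL

theorem refl_words : ∀ r : Fin 24,
    mulL (mulL reflL (matOf r)) reflL = prodL (reflWords.getD r.val []) := by decide +kernel

theorem toMat_foldl (w : List (Fin 24)) (P : List (List ℕ)) (u : Um) (h : toMat P = (u : Matrix (Fin 8) (Fin 8) (ZMod 3))) :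
    toMat (w.foldl (fun P r => mulL P (matOf r)) P) =
      ((u * (w.map matU).prod : Um) : Matrix (Fin 8) (Fin 8) (ZMod 3)) := by
  induction w generalizing P u with
  | nil => simpa using h
  | cons r w ih =>
    rw [List.foldl_cons, List.map_cons, List.prod_cons, ← mul_assoc]
    exact ih _ _ (by rw [toMat_mulL, h, Units.val_mul]; rfl)

theorem refl_conj (r : Fin 24) :
    reflU * matU r * reflU⁻¹ ∈ matGroup := by
  have h : reflU * matU r * reflU⁻¹ = ((reflWords.getD r.val []).map matU).prod := by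
    refine Units.ext ?_
    have e := congrArg toMat (refl_words r)
    rw [toMat_mulL, toMat_mulL, prodL, toMat_foldl _ _ 1 (by rw [toMat_oneL]; rfl), one_mul] at e
    exact e
  rw [h]
  refine list_prod_mem fun u hu => ?_
  obtain ⟨s, -, rfl⟩ := List.mem_map.1 hu
  exact subset_closure ⟨s, rfl⟩

theorem refl_lower : ∀ i : Fin 8, ∀ j : Fin 8, (i < j → (getE reflL i j : ZMod 3) = 0) := by
  decide +kernel

theorem refl_diag : (∏ i : Fin 8, (getE reflL i i : ZMod 3)) = 2 := by decide +kernel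

theorem refl_det : Matrix.det (toMat reflL) = 2 := by
  rw [Matrix.det_of_lowerTriangular (toMat reflL) (fun i j h => refl_lower i j h)]
  exact refl_diag

theorem det_eq_one {M : Um} (hM : M ∈ matGroup) : Matrix.det (M : Matrix (Fin 8) (Fin 8) (ZMod 3)) = 1 := by
  let f : Um →* (ZMod 3)ˣ := Units.map (Matrix.detMonoidHom)
  have h : ⁅matGroup, matGroup⁆ ≤ f.ker := by
    rw [commutator_le]
    intro a _ b _
    rw [MonoidHom.mem_ker, map_commutatorElement]
    exact commutatorElement_eq_one_iff_mul_comm.2 (mul_comm _ _)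
  rw [commutator_matGroup] at h
  have e := congrArg Units.val (MonoidHom.mem_ker.1 (h hM))
  rw [Units.coe_map, Units.val_one, Matrix.coe_detMonoidHom] at e
  exact e

/-- A vector fixed by two generators. -/
def fixV : Matrix (Fin 8) (Fin 1) (ZMod 3) := ![![1],
    ![0],
    ![0],
    ![2],
    ![1],
    ![0],
    ![2],
    ![1]]

/-- Its dual. -/
def fixW : Matrix (Fin 1) (Fin 8) (ZMod 3) := ![![0, 0, 0, 0, 0, 0, 0, 1]]

/-- First cofactor. -/
def cofA : Matrix (Fin 8) (Fin 8) (ZMod 3) :=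
  ![![0, 2, 0, 0, 0, 2, 1, 0],
    ![0, 1, 0, 0, 0, 0, 1, 0],
    ![0, 2, 0, 0, 0, 0, 1, 0],
    ![0, 2, 0, 0, 0, 1, 1, 0],
    ![0, 0, 0, 1, 0, 2, 0, 0],
    ![0, 1, 0, 2, 0, 0, 2, 0],
    ![0, 2, 0, 2, 0, 1, 1, 0],
    ![0, 0, 0, 0, 0, 0, 0, 0]]

/-- Second cofactor. -/
def cofB : Matrix (Fin 8) (Fin 8) (ZMod 3) :=
  ![![1, 0, 0, 0, 0, 0, 0, 0],
    ![2, 0, 1, 0, 2, 0, 0, 0],
    ![2, 0, 1, 0, 2, 0, 0, 0],
    ![0, 0, 0, 0, 1, 0, 0, 0],
    ![2, 0, 1, 0, 1, 0, 0, 0],
    ![1, 0, 2, 0, 2, 0, 0, 0],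
    ![1, 0, 2, 0, 2, 0, 0, 0],
    ![0, 0, 0, 0, 0, 0, 0, 0]]

/-- The words giving a basis of images of the vector. -/
def spanWords : List (List (Fin 24)) := [[], [2], [7], [10], [12], [15], [7, 2], [10, 2]]

/-- The basis of images. -/
def spanMat : Matrix (Fin 8) (Fin 8) (ZMod 3) :=
  fun i j => (toMat (prodL (spanWords.getD j.val [])) * fixV) i 0

/-- Its inverse. -/
def spanInv : Matrix (Fin 8) (Fin 8) (ZMod 3) :=
  ![![1, 2, 0, 0, 0, 0, 0, 0],
    ![2, 2, 0, 1, 0, 2, 1, 0],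
    ![2, 0, 1, 1, 0, 2, 0, 2],
    ![0, 2, 1, 1, 0, 2, 2, 0],
    ![0, 2, 0, 2, 0, 2, 1, 0],
    ![0, 0, 0, 1, 1, 1, 1, 1],
    ![2, 0, 1, 0, 2, 1, 1, 0],
    ![0, 1, 1, 1, 0, 0, 2, 0]]

theorem fix_facts : toMat (matOf 18) * fixV = fixV ∧ toMat (matOf 4) * fixV = fixV ∧
    cofA * toMat (matOf 18) + cofB * toMat (matOf 4) + fixV * fixW = 1 + cofA + cofB ∧
    spanMat * spanInv = 1 := by
  decide +kernel

/-- A matrix commuting with the generators is scalar. -/
theorem scalar_of_commute (X : Matrix (Fin 8) (Fin 8) (ZMod 3))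
    (h : ∀ r, toMat (matOf r) * X = X * toMat (matOf r)) : ∃ s : ZMod 3, X = s • 1 := by
  obtain ⟨h1, h2, h3, h4⟩ := fix_facts
  refine ⟨(fixW * (X * fixV)) 0 0, ?_⟩
  set s := (fixW * (X * fixV)) 0 0 with hs
  set Y := X * fixV with hY
  have e1 : toMat (matOf 18) * Y = Y := by
    rw [hY, ← Matrix.mul_assoc, h, Matrix.mul_assoc, h1]
  have e2 : toMat (matOf 4) * Y = Y := by
    rw [hY, ← Matrix.mul_assoc, h, Matrix.mul_assoc, h2]
  have e3 : fixV * (fixW * Y) = Y := by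
    have e := congrArg (· * Y) h3
    simp only [Matrix.add_mul, Matrix.mul_assoc, e1, e2, Matrix.one_mul] at e
    exact add_left_cancel (a := cofA * Y + cofB * Y) (e.trans (by abel))
  have e4 : Y = s • fixV := by
    rw [← e3]
    ext i j
    rw [Matrix.mul_apply, Fin.sum_univ_one, Matrix.smul_apply, smul_eq_mul, mul_comm,
      Subsingleton.elim j 0]
  have hw : ∀ w : List (Fin 24), X * toMat (prodL w) = toMat (prodL w) * X := by
    intro w
    rw [prodL, toMat_foldl _ _ 1 (by rw [toMat_oneL]; rfl), one_mul]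
    induction w with
    | nil => simp
    | cons r w ih =>
      rw [List.map_cons, List.prod_cons, Units.val_mul, ← Matrix.mul_assoc,
        show ((matU r : Um) : Matrix (Fin 8) (Fin 8) (ZMod 3)) = toMat (matOf r) from rfl, ← h,
        Matrix.mul_assoc, ih, Matrix.mul_assoc]
  have e5 : X * spanMat = s • spanMat := by
    ext i j
    have e : X * (toMat (prodL (spanWords.getD j.val [])) * fixV) =
        s • (toMat (prodL (spanWords.getD j.val [])) * fixV) := by
      rw [← Matrix.mul_assoc, hw, Matrix.mul_assoc, ← hY, e4, Matrix.mul_smul]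
    have e' := congrFun (congrFun e i) 0
    simpa [Matrix.mul_apply, spanMat] using e'
  calc X = X * (spanMat * spanInv) := by rw [h4, Matrix.mul_one]
    _ = s • 1 := by rw [← Matrix.mul_assoc, e5, Matrix.smul_mul, h4]

/-- The reflection does not act as an element of the group. -/
theorem refl_outer {b : Um} (hb : b ∈ matGroup)
    (h : ∀ r, reflU * matU r * reflU⁻¹ = b * matU r * b⁻¹) : False := by
  have hc : ∀ r, Commute (b⁻¹ * reflU) (matU r) := fun r => by
    show b⁻¹ * reflU * matU r = matU r * (b⁻¹ * reflU)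
    calc b⁻¹ * reflU * matU r = b⁻¹ * (reflU * matU r * reflU⁻¹) * reflU := by group
      _ = matU r * (b⁻¹ * reflU) := by rw [h r]; group
  obtain ⟨s, hs⟩ := scalar_of_commute ((b⁻¹ * reflU : Um) : Matrix (Fin 8) (Fin 8) (ZMod 3)) fun r =>
    (congrArg Units.val (hc r).eq).symm
  have e := congrArg Matrix.det hs
  rw [Units.val_mul, Matrix.det_mul, det_eq_one (inv_mem hb), one_mul, Matrix.det_smul,
    Matrix.det_one, mul_one, Fintype.card_fin] at e
  change Matrix.det (toMat reflL) = _ at e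
  rw [refl_det] at e
  exact absurd e ((by decide : ∀ s : ZMod 3, (2 : ZMod 3) ≠ s ^ 8) s)

end CfsgLib.StdForm.OmegaEight.MatModel
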